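import Cfsg.Agent.Lib.Helper10.FoxTrieB

/-!
# The trie Fox cycle checker, partitioned by generators

The check `cycleOKT` of `Helper10.FoxTrie` of one cycle is one declaration, and the kernel keeps all intermediate
terms of a declaration; for a cycle with 80000 steps this is 15 GB.  Here the slots `point * d + x` of the accumulator
are split by the generator `x`: the part `x` accumulates only the steps along the letters `2 x`, `2 x + 1`, in a
trie indexed by the point, and skips the relators without these letters.  Every part is its own declaration.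

* `headOK D k rows` : the cells are points and the augmentations are the entries of `Lam`.
* `partOK D nxt Dp x rows` : the part of the generator `x` of the boundary vanishes modulo `p`.
* `cycleP_sound` : the conclusion of `cycleT_sound` from `headOK` and all `partOK`.
-/

set_option autoImplicit false

namespace Cfsg.Agent.Lib.Helper19.ONM.FoxPart

open Cfsg.Agent.Lib.Helper28.TC2Upper (force force_eq allLoop allLoop_eq_true)
open Cfsg.Agent.Lib.Helper28.TC2Upper.Data (nbeq_iff)
open Cfsg.Agent.Lib.Helper28.SchurFox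
open Cfsg.Agent.Lib.Helper29.SchurFoxSparse
open Cfsg.Agent.Lib.Helper10.FoxTrie

theorem nbeq_false {a b : ℕ} (h : a ≠ b) : Nat.beq a b = false := by
  rw [← Bool.not_eq_true, nbeq_iff]
  exact h

section Checker
variable (D : FoxData) (nxt : ℕ → ℕ → ℕ) (Dp x : ℕ)

/-- one letter of a walk; only the letters of the generator `x` are accumulated, at the key `point` -/
noncomputable def stepP (k l i : ℕ) (t : Tr) (cont : ℕ → Tr → Tr) : Tr :=
  force (nxt l i) (fun i' =>
    Tr.forceT (cond (Nat.beq (Nat.div l 2) x)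
        (cond (Nat.beq (Nat.mod l 2) 0)
          (Tr.add k Dp t i)
          (force (Nat.mul k (Nat.pred D.p)) (fun c => Tr.add c Dp t i')))
        t)
      (fun t' => cont i' t'))

/-- add the part `x` of `k` times the boundary of the walk along a path from the point `i` -/
noncomputable def walkP (k : ℕ) : List ℕ → ℕ → Tr → Tr :=
  @List.rec ℕ (fun _ => ℕ → Tr → Tr) (fun _ t => t) (fun l _ ih i t => stepP D nxt Dp x k l i t ih)

theorem walkP_nil (k i : ℕ) (t : Tr) : walkP D nxt Dp x k [] i t = t := rfl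

theorem walkP_cons (k l : ℕ) (ls : List ℕ) (i : ℕ) (t : Tr) :
    walkP D nxt Dp x k (l :: ls) i t = walkP D nxt Dp x k ls (nxt l i)
      (if l / 2 = x then
        (if l % 2 = 0 then Tr.add k Dp t i else Tr.add (k * (D.p - 1)) Dp t (nxt l i))
        else t) := by
  show stepP D nxt Dp x k l i t (walkP D nxt Dp x k ls) = _
  unfold stepP
  rw [force_eq, Tr.forceT_eq]
  by_cases hx : l / 2 = x
  · have hb : Nat.beq (Nat.div l 2) x = true := (nbeq_iff _ _).mpr hx
    rw [if_pos hx, hb, cond_true]
    by_cases h : l % 2 = 0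
    · have hb2 : Nat.beq (Nat.mod l 2) 0 = true := (nbeq_iff _ _).mpr h
      rw [if_pos h, hb2, cond_true]
    · have hb2 : Nat.beq (Nat.mod l 2) 0 = false := nbeq_false h
      rw [if_neg h, hb2, cond_false, force_eq]
      rfl
  · have hb : Nat.beq (Nat.div l 2) x = false := nbeq_false hx
    rw [if_neg hx, hb, cond_false]

/-- does the path have a letter of the generator `x` -/
noncomputable def hasGen : List ℕ → Bool :=
  @List.rec ℕ (fun _ => Bool) false (fun l _ ih => or (Nat.beq (Nat.div l 2) x) ih)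

theorem hasGen_nil : hasGen x [] = false := rfl

theorem hasGen_cons (l : ℕ) (ls : List ℕ) :
    hasGen x (l :: ls) = (Nat.beq (Nat.div l 2) x || hasGen x ls) := rfl

theorem hasGen_false {w : List ℕ} (h : hasGen x w = false) : ∀ l ∈ w, l / 2 ≠ x := by
  induction w with
  | nil => intro l hl; exact absurd hl List.not_mem_nil
  | cons l ls ih =>
    rw [hasGen_cons, Bool.or_eq_false_iff] at h
    intro l' hl'
    rcases List.mem_cons.mp hl' with rfl | hm
    · intro e
      have h1 : Nat.beq (Nat.div l' 2) x = true := (nbeq_iff _ _).mpr e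
      rw [h.1] at h1
      exact Bool.false_ne_true h1
    · exact ih h.2 l' hm

/-- the cells `(point, coefficient)` of one relator -/
noncomputable def rowP (path : List ℕ) : List (ℕ × ℕ) → Tr → Tr :=
  @List.rec (ℕ × ℕ) (fun _ => Tr → Tr) (fun t => t)
    (fun cell _ ih t => Tr.forceT (walkP D nxt Dp x cell.2 path cell.1 t) (fun t' => ih t'))

theorem rowP_nil (path : List ℕ) (t : Tr) : rowP D nxt Dp x path [] t = t := rfl

theorem rowP_cons (path : List ℕ) (c : ℕ × ℕ) (cs : List (ℕ × ℕ)) (t : Tr) :
    rowP D nxt Dp x path (c :: cs) t = rowP D nxt Dp x path cs (walkP D nxt Dp x c.2 path c.1 t) := by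
  show Tr.forceT (walkP D nxt Dp x c.2 path c.1 t) (fun t' => rowP D nxt Dp x path cs t') = _
  rw [Tr.forceT_eq]

/-- one relator; skipped when its path has no letter of the generator `x` -/
noncomputable def rowPS (path : List ℕ) (cells : List (ℕ × ℕ)) (t : Tr) : Tr :=
  cond (hasGen x path) (rowP D nxt Dp x path cells t) t

/-- all relators -/
noncomputable def cycP (rows : List (List (ℕ × ℕ))) : Tr :=
  loopT (fun j a => rowPS D nxt Dp x (D.paths.getD j []) (rows.getD j []) a) D.paths.length Tr.nil

/-- the part of the generator `x` of the check of a cycle -/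
noncomputable def partOK (rows : List (List (ℕ × ℕ))) : Bool :=
  and (Nat.ble D.n (Nat.pow 2 Dp)) (Tr.allZ D.p (cycP D nxt Dp x rows))

/-- the cells are points, and their augmentations are the entries of the row `k` of `Lam` -/
noncomputable def headOK (k : ℕ) (rows : List (List (ℕ × ℕ))) : Bool :=
  and (cellsOK D rows)
    (allLoop (fun j => Nat.beq (augS (rows.getD j [])) (entry D.Lam k j)) D.paths.length)

/-- the digit function of a trie of the part `x`: the slot `i * d + x` holds the entry `i` -/
noncomputable def semP (d : ℕ) (t : Tr) : ℕ → ℕ :=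
  fun s => if s % d = x ∧ s / d < 2 ^ Dp then Tr.get Dp t (s / d) else 0

/-- the part `x` of a digit function -/
def restr (d : ℕ) (g : ℕ → ℕ) : ℕ → ℕ :=
  fun s => if s % d = x ∧ s / d < 2 ^ Dp then g s else 0

theorem slot_mod {d i y : ℕ} (hy : y < d) : (i * d + y) % d = y := by
  rw [Nat.add_comm, Nat.add_mul_mod_self_right, Nat.mod_eq_of_lt hy]

theorem slot_div {d i y : ℕ} (hy : y < d) : (i * d + y) / d = i := by
  have hd : 0 < d := by omega
  rw [Nat.add_comm, Nat.add_mul_div_right _ _ hd, Nat.div_eq_of_lt hy, Nat.zero_add]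

theorem semP_nil (d : ℕ) : semP Dp x d Tr.nil = restr Dp x d (fun _ => 0) := by
  funext s
  show (if s % d = x ∧ s / d < 2 ^ Dp then Tr.get Dp Tr.nil (s / d) else 0) =
    (if s % d = x ∧ s / d < 2 ^ Dp then 0 else 0)
  rw [Tr.get_nil]

theorem semP_add {d : ℕ} (hx : x < d) (c : ℕ) (t : Tr) {i : ℕ} (hi : i < 2 ^ Dp) :
    semP Dp x d (Tr.add c Dp t i) = addAt (semP Dp x d t) (i * d + x) c := by
  funext s
  show (if s % d = x ∧ s / d < 2 ^ Dp then Tr.get Dp (Tr.add c Dp t i) (s / d) else 0) =
    (if s % d = x ∧ s / d < 2 ^ Dp then Tr.get Dp t (s / d) else 0) + if s = i * d + x then c else 0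
  by_cases hs : s % d = x ∧ s / d < 2 ^ Dp
  · rw [if_pos hs, if_pos hs, Tr.get_add c Dp t i (s / d) hi hs.2]
    congr 1
    by_cases e : s / d = i
    · have : s = i * d + x := by
        have := Nat.div_add_mod s d
        rw [e, hs.1, Nat.mul_comm] at this
        exact this.symm
      rw [if_pos e, if_pos this]
    · have : s ≠ i * d + x := by
        intro e'
        apply e
        rw [e', slot_div hx]
      rw [if_neg e, if_neg this]
  · have : s ≠ i * d + x := by
      intro e'
      apply hs
      rw [e', slot_mod hx, slot_div hx]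
      exact ⟨rfl, hi⟩
    rw [if_neg hs, if_neg hs, if_neg this]

theorem restr_addAt_pos {d : ℕ} (g : ℕ → ℕ) {key : ℕ} (h : key % d = x ∧ key / d < 2 ^ Dp) (c : ℕ) :
    restr Dp x d (addAt g key c) = addAt (restr Dp x d g) key c := by
  funext s
  show (if s % d = x ∧ s / d < 2 ^ Dp then g s + (if s = key then c else 0) else 0) =
    (if s % d = x ∧ s / d < 2 ^ Dp then g s else 0) + if s = key then c else 0
  by_cases hs : s % d = x ∧ s / d < 2 ^ Dp
  · rw [if_pos hs, if_pos hs]
  · have : s ≠ key := by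
      intro e
      apply hs
      rw [e]
      exact h
    rw [if_neg hs, if_neg hs, if_neg this]

theorem restr_addAt_neg {d : ℕ} (g : ℕ → ℕ) {key : ℕ} (h : key % d ≠ x) (c : ℕ) :
    restr Dp x d (addAt g key c) = restr Dp x d g := by
  funext s
  show (if s % d = x ∧ s / d < 2 ^ Dp then g s + (if s = key then c else 0) else 0) =
    (if s % d = x ∧ s / d < 2 ^ Dp then g s else 0)
  by_cases hs : s % d = x ∧ s / d < 2 ^ Dp
  · have : s ≠ key := by
      intro e
      apply h
      rw [← e]
      exact hs.1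
    rw [if_pos hs, if_pos hs, if_neg this, Nat.add_zero]
  · rw [if_neg hs, if_neg hs]

theorem semP_walkP (hx : x < D.d) (hn : D.n ≤ 2 ^ Dp)
    (htab : ∀ l < 2 * D.d, ∀ i < D.n, nxt l i < D.n)
    (k : ℕ) (w : List ℕ) (hw : ∀ l ∈ w, l < 2 * D.d) (i : ℕ) (hi : i < D.n) (t : Tr) (g : ℕ → ℕ)
    (hinv : semP Dp x D.d t = restr Dp x D.d g) :
    semP Dp x D.d (walkP D nxt Dp x k w i t) = restr Dp x D.d (D.walkD nxt k w i g) := by
  induction w generalizing i t g with
  | nil => exact hinv
  | cons l ls ih =>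
    have hl : l < 2 * D.d := hw l List.mem_cons_self
    have hy : l / 2 < D.d := by omega
    have hi' : nxt l i < D.n := htab l hl i hi
    rw [walkP_cons]
    show _ = restr Dp x D.d (D.walkD nxt k ls (nxt l i)
      (if l % 2 = 0 then addAt g (i * D.d + l / 2) k
        else addAt g (nxt l i * D.d + l / 2) (k * (D.p - 1))))
    apply ih (fun l' hl' => hw l' (List.mem_cons_of_mem _ hl')) _ hi'
    by_cases hlx : l / 2 = x
    · rw [if_pos hlx]
      by_cases hpar : l % 2 = 0
      · rw [if_pos hpar, if_pos hpar, semP_add Dp x hx _ _ (lt_of_lt_of_le hi hn), hinv, hlx,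
          restr_addAt_pos Dp x g ⟨slot_mod hx, by rw [slot_div hx]; exact lt_of_lt_of_le hi hn⟩]
      · rw [if_neg hpar, if_neg hpar, semP_add Dp x hx _ _ (lt_of_lt_of_le hi' hn), hinv, hlx,
          restr_addAt_pos Dp x g ⟨slot_mod hx, by rw [slot_div hx]; exact lt_of_lt_of_le hi' hn⟩]
    · rw [if_neg hlx, hinv]
      by_cases hpar : l % 2 = 0
      · rw [if_pos hpar, restr_addAt_neg Dp x g (by rw [slot_mod hy]; exact hlx)]
      · rw [if_neg hpar, restr_addAt_neg Dp x g (by rw [slot_mod hy]; exact hlx)]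

theorem restr_walkD_skip (k : ℕ) (w : List ℕ) (hw : ∀ l ∈ w, l < 2 * D.d) (hsk : ∀ l ∈ w, l / 2 ≠ x)
    (i : ℕ) (g : ℕ → ℕ) :
    restr Dp x D.d (D.walkD nxt k w i g) = restr Dp x D.d g := by
  induction w generalizing i g with
  | nil => rfl
  | cons l ls ih =>
    have hl : l < 2 * D.d := hw l List.mem_cons_self
    have hy : l / 2 < D.d := by omega
    have hlx : l / 2 ≠ x := hsk l List.mem_cons_self
    show restr Dp x D.d (D.walkD nxt k ls (nxt l i)
      (if l % 2 = 0 then addAt g (i * D.d + l / 2) k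
        else addAt g (nxt l i * D.d + l / 2) (k * (D.p - 1)))) = _
    rw [ih (fun l' hl' => hw l' (List.mem_cons_of_mem _ hl'))
      (fun l' hl' => hsk l' (List.mem_cons_of_mem _ hl'))]
    by_cases hpar : l % 2 = 0
    · rw [if_pos hpar, restr_addAt_neg Dp x g (by rw [slot_mod hy]; exact hlx)]
    · rw [if_neg hpar, restr_addAt_neg Dp x g (by rw [slot_mod hy]; exact hlx)]

theorem semP_rowP (hx : x < D.d) (hn : D.n ≤ 2 ^ Dp)
    (htab : ∀ l < 2 * D.d, ∀ i < D.n, nxt l i < D.n)
    (path : List ℕ) (hw : ∀ l ∈ path, l < 2 * D.d) (cells : List (ℕ × ℕ))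
    (hc : ∀ c ∈ cells, c.1 < D.n) (t : Tr) (g : ℕ → ℕ)
    (hinv : semP Dp x D.d t = restr Dp x D.d g) :
    semP Dp x D.d (rowP D nxt Dp x path cells t) = restr Dp x D.d (rowDS D nxt path cells g) := by
  induction cells generalizing t g with
  | nil => exact hinv
  | cons c cs ih =>
    rw [rowP_cons]
    show _ = restr Dp x D.d (rowDS D nxt path cs (D.walkD nxt c.2 path c.1 g))
    exact ih (fun c' hc' => hc c' (List.mem_cons_of_mem _ hc')) _ _
      (semP_walkP D nxt Dp x hx hn htab _ path hw c.1 (hc c List.mem_cons_self) t g hinv)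

theorem restr_rowDS_skip (path : List ℕ) (hw : ∀ l ∈ path, l < 2 * D.d) (hsk : ∀ l ∈ path, l / 2 ≠ x)
    (cells : List (ℕ × ℕ)) (g : ℕ → ℕ) :
    restr Dp x D.d (rowDS D nxt path cells g) = restr Dp x D.d g := by
  induction cells generalizing g with
  | nil => rfl
  | cons c cs ih =>
    show restr Dp x D.d (rowDS D nxt path cs (D.walkD nxt c.2 path c.1 g)) = _
    rw [ih, restr_walkD_skip D nxt Dp x _ path hw hsk]

theorem semP_rowPS (hx : x < D.d) (hn : D.n ≤ 2 ^ Dp)
    (htab : ∀ l < 2 * D.d, ∀ i < D.n, nxt l i < D.n)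
    (path : List ℕ) (hw : ∀ l ∈ path, l < 2 * D.d) (cells : List (ℕ × ℕ))
    (hc : ∀ c ∈ cells, c.1 < D.n) (t : Tr) (g : ℕ → ℕ)
    (hinv : semP Dp x D.d t = restr Dp x D.d g) :
    semP Dp x D.d (rowPS D nxt Dp x path cells t) = restr Dp x D.d (rowDS D nxt path cells g) := by
  unfold rowPS
  cases hb : hasGen x path with
  | true =>
    rw [cond_true]
    exact semP_rowP D nxt Dp x hx hn htab path hw cells hc t g hinv
  | false =>
    rw [cond_false, hinv, restr_rowDS_skip D nxt Dp x path hw (hasGen_false x hb)]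

theorem semP_cycP (hx : x < D.d) (hn : D.n ≤ 2 ^ Dp)
    (htab : ∀ l < 2 * D.d, ∀ i < D.n, nxt l i < D.n)
    (hpaths : ∀ path ∈ D.paths, ∀ l ∈ path, l < 2 * D.d) (rows : List (List (ℕ × ℕ)))
    (hc : ∀ j, ∀ c ∈ rows.getD j [], c.1 < D.n) :
    semP Dp x D.d (cycP D nxt Dp x rows) = restr Dp x D.d (cycDS D nxt rows) := by
  unfold cycP cycDS
  have key : ∀ m', m' ≤ D.paths.length →
      semP Dp x D.d (loopT (fun j a => rowPS D nxt Dp x (D.paths.getD j []) (rows.getD j []) a) m' Tr.nil) =
      restr Dp x D.d (loopD (fun j g => rowDS D nxt (D.paths.getD j []) (rows.getD j []) g) m' (fun _ => 0)) := by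
    intro m' hm'
    induction m' with
    | zero => exact semP_nil Dp x D.d
    | succ j ih =>
      rw [loopT_succ]
      show _ = restr Dp x D.d (rowDS D nxt (D.paths.getD j []) (rows.getD j []) _)
      exact semP_rowPS D nxt Dp x hx hn htab _ (hpaths _ (D.path_mem (by omega))) _ (hc j) _ _
        (ih (by omega))
  exact key _ le_rfl

/-- a cycle whose head and parts pass the checks gives a relation between the values of the relators -/
theorem cycleP_sound (h : D.Static nxt) (k : ℕ) (rows : List (List (ℕ × ℕ)))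
    (hhead : headOK D k rows = true) (hparts : ∀ y < D.d, partOK D nxt Dp y rows = true)
    {A : Type*} [CommGroup A] (F : ℕ → ℕ → A) (hF : ∀ i x, F i x ^ D.p = 1) (z : ℕ → A)
    (hz : ∀ j < D.paths.length, ∀ i < D.n, walkF F nxt (D.paths.getD j []) i = z j) :
    ∏ j ∈ Finset.range D.paths.length, z j ^ entry D.Lam k j = 1 := by
  unfold headOK at hhead
  simp only [Bool.and_eq_true] at hhead
  obtain ⟨h0, h1⟩ := hhead
  rw [allLoop_eq_true] at h1
  have haug : ∀ j < D.paths.length, augS (rows.getD j []) = entry D.Lam k j :=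
    fun j hj => (nbeq_iff _ _).mp (h1 j hj)
  have hc : ∀ j, ∀ c ∈ rows.getD j [], c.1 < D.n := by
    intro j c hcm
    by_cases hj : j < rows.length
    · rw [List.getD_eq_getElem _ _ hj] at hcm
      unfold cellsOK at h0
      rw [List.all_eq_true] at h0
      have h4 := h0 _ (List.getElem_mem hj)
      rw [List.all_eq_true] at h4
      simpa using h4 c hcm
    · rw [List.getD_eq_default _ _ (by omega)] at hcm
      exact absurd hcm (List.not_mem_nil)
  set g := cycDS D nxt rows with hg
  have htab := h.htab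
  have hmod : ∀ s < D.n * D.d, g s % D.p = 0 := by
    intro s hs
    have hd : 0 < D.d := by
      rcases Nat.eq_zero_or_pos D.d with h0 | h0
      · rw [h0, Nat.mul_zero] at hs
        exact absurd hs (Nat.not_lt_zero _)
      · exact h0
    have hy : s % D.d < D.d := Nat.mod_lt _ hd
    have hp := hparts (s % D.d) hy
    unfold partOK at hp
    simp only [Bool.and_eq_true] at hp
    obtain ⟨h2, h3⟩ := hp
    have hn : D.n ≤ 2 ^ Dp := Nat.le_of_ble_eq_true h2
    have hsd : s / D.d < 2 ^ Dp :=
      lt_of_lt_of_le ((Nat.div_lt_iff_lt_mul hd).mpr hs) hn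
    have e := congrFun (semP_cycP D nxt Dp (s % D.d) hy hn htab h.paths rows hc) s
    unfold semP restr at e
    rw [if_pos ⟨rfl, hsd⟩, if_pos ⟨rfl, hsd⟩] at e
    rw [hg, ← e]
    exact Tr.get_mod_of_allZ Dp h3 _
  have hval : Val (D.n * D.d) (D.Fs F) g = 1 := by
    unfold Val
    apply Finset.prod_eq_one
    intro s hs
    obtain ⟨q, hq⟩ := Nat.dvd_of_mod_eq_zero (hmod s (Finset.mem_range.mp hs))
    have hFs : D.Fs F s ^ D.p = 1 := hF _ _
    rw [hq, pow_mul, hFs, one_pow]
  rw [← hval, hg, Val_cycDS D nxt F h.hp hF htab h.paths rows hc]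
  apply Finset.prod_congr rfl
  intro j hj
  have hj' := Finset.mem_range.mp hj
  rw [prod_cells D.n (fun i => walkF F nxt (D.paths.getD j []) i) (z j) (hz j hj') _ (hc j), haug j hj']

end Checker

end Cfsg.Agent.Lib.Helper19.ONM.FoxPart
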