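import Cfsg.Agent.Lib.Helper19.ONM.FoxTrieP

/-!
# The Fox criterion over an abstract soundness hypothesis on the cycles

`ker_eq_bot_of_fox_trie'` of `FoxTrieP` with the conclusion of `cycleT_sound` as the hypothesis on every cycle, so that
the cycles may be checked by different checkers (`Helper10.FoxTrie.cycleOKT`, or the parts of `FoxPart`).
-/

set_option autoImplicit false

namespace Cfsg.Agent.Lib.Helper19.ONM.FoxSound

open Subgroup
open scoped IsMulCommutative
open Cfsg.Agent.Lib.Helper28.TC2Upper (force force_eq allLoop allLoop_eq_true)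
open Cfsg.Agent.Lib.Helper28.TC2Lower (pathProd Table)
open Cfsg.Agent.Lib.Helper28.TC2Glue (pathOf lift_mk_eq_pathProd)
open Cfsg.Agent.Lib.Helper28.SchurFox
open Cfsg.Agent.Lib.Helper29.SchurFoxSparse
open Cfsg.Agent.Lib.Helper10.FoxTrie
open Cfsg.Agent.Lib.Helper19.ONM.FoxTrieP

section Pres
variable {α : Type} (rels : Set (FreeGroup α)) (relWords : List (List (α × Bool)))
  (lw : α × Bool → ℕ) (gi : α → ℕ)

/-- the Fox criterion; every cycle gives its relation between the values of the relators -/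
theorem ker_eq_bot_of_fox_sound
    (hrels : ∀ r, r ∈ rels ↔ ∃ L ∈ relWords, r = FreeGroup.mk L)
    (hlw : ∀ x b, lw (x, b) = 2 * gi x + cond b 0 1) (hgi : Function.Injective gi)
    (H : Subgroup (PresentedGroup rels))
    (T : Table) (hT : T.OK) (hlwk : ∀ x, lw (x, true) < T.k)
    (φ : PresentedGroup rels →* Equiv.Perm (Fin T.n))
    (hφ : ∀ x, φ (PresentedGroup.of x) = Table.sigma hT (lw (x, true)))
    (f : PresentedGroup rels ⧸ H → Fin T.n) (hf : Function.Bijective f)
    (hfe : ∀ g q, f (g • q) = φ g (f q))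
    (D : FoxData) (hDn : D.n = T.n) (hDd : ∀ k < D.d, ∃ x, gi x = k)
    (hpaths : D.paths = relWords.map (pathOf lw))
    (hstat : D.Static T.tau)
    {Γ : Type*} [Group Γ] (σ : Γ →* PresentedGroup rels) (hσ : Cfsg.IsStemExtension σ)
    (hsound : ∀ k < D.cycles.length, ∀ (F : ℕ → ℕ → ↥(center Γ)), (∀ i x, F i x ^ D.p = 1) →
      ∀ z : ℕ → ↥(center Γ),
        (∀ j < D.paths.length, ∀ i < D.n, walkF F T.tau (D.paths.getD j []) i = z j) →
        ∏ j ∈ Finset.range D.paths.length, z j ^ entry D.Lam k j = 1)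
    (hexp : ∀ a ∈ σ.ker, a ^ D.p = 1) (R : Retraction σ (H.comap σ)) : σ.ker = ⊥ := by
  classical
  -- the cocycle on the coset space
  have hV : ∀ γ, γ ∈ H.comap σ ↔ σ γ • (QuotientGroup.mk 1 : PresentedGroup rels ⧸ H) = QuotientGroup.mk 1 := by
    intro γ
    rw [Subgroup.mem_comap]
    show _ ↔ (QuotientGroup.mk (σ γ * 1) : PresentedGroup rels ⧸ H) = QuotientGroup.mk 1
    rw [mul_one, QuotientGroup.eq, mul_one, inv_mem_iff]
  obtain ⟨C⟩ := exists_cocycle σ hσ.1 hσ.2.1 (QuotientGroup.mk 1 : PresentedGroup rels ⧸ H) (H.comap σ) hV R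
  -- lifts of the generators
  have hlift : ∀ x : α, ∃ g : Γ, σ g = PresentedGroup.of x := fun x => hσ.1 _
  choose γ0 hγ0 using hlift
  let γx : ℕ → Γ := fun k => if h : ∃ x, gi x = k then γ0 h.choose else 1
  have hγx : ∀ x, γx (gi x) = γ0 x := by
    intro x
    have h : ∃ y, gi y = gi x := ⟨x, rfl⟩
    show (if h : ∃ y, gi y = gi x then γ0 h.choose else 1) = γ0 x
    rw [dif_pos h, hgi h.choose_spec]
  -- the points
  let e := Equiv.ofBijective f hf
  let pts : ℕ → PresentedGroup rels ⧸ H := fun i => if h : i < T.n then e.symm ⟨i, h⟩ else QuotientGroup.mk 1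
  have hpts : ∀ i (h : i < T.n), f (pts i) = ⟨i, h⟩ := by
    intro i h
    show f (if h : i < T.n then e.symm ⟨i, h⟩ else QuotientGroup.mk 1) = _
    rw [dif_pos h]
    exact e.apply_symm_apply _
  have hact : ∀ x < D.d, ∀ i < D.n, σ (γx x) • pts i = pts (T.tau (2 * x) i) := by
    intro k hk i hi
    rw [hDn] at hi
    obtain ⟨x, rfl⟩ := hDd k hk
    rw [hγx, hγ0]
    apply hf.1
    rw [hfe, hφ, hpts i hi]
    have hlt : T.tau (2 * gi x) i < T.n := by
      have := (Table.sigma hT (lw (x, true)) ⟨i, hi⟩).2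
      rwa [Table.sigma_apply hT (hlwk x), hlw, cond_true, add_zero] at this
    rw [hpts _ hlt]
    apply Fin.ext
    rw [Table.sigma_apply hT (hlwk x), hlw]
    rfl
  have hcomp : ∀ (g : α → Γ), (∀ x, σ (g x) = PresentedGroup.of x) → ∀ L : List (α × Bool),
      σ (FreeGroup.lift g (FreeGroup.mk L)) = PresentedGroup.mk rels (FreeGroup.mk L) := by
    intro g hg L
    have : σ.comp (FreeGroup.lift g) = PresentedGroup.mk rels := by
      apply FreeGroup.ext_hom
      intro x
      show σ (FreeGroup.lift g (FreeGroup.of x)) = PresentedGroup.mk rels (FreeGroup.of x)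
      rw [FreeGroup.lift_apply_of, hg]
      rfl
    exact congrArg (fun h : FreeGroup α →* PresentedGroup rels => h (FreeGroup.mk L)) this
  have hrel : ∀ w ∈ D.paths, σ (pathProd (letG γx) w) = 1 := by
    intro w hw
    rw [hpaths, List.mem_map] at hw
    obtain ⟨L, hL, rfl⟩ := hw
    rw [← lift_mk_eq_pathProd γ0 lw (letG γx) (fun x b => by rw [letG_lw lw gi hlw, hγx]) L, hcomp γ0 hγ0]
    exact PresentedGroup.one_of_mem ((hrels _).mpr ⟨L, hL, rfl⟩)
  obtain ⟨a, haker, harel⟩ := exists_adjust_abs' D T.tau hstat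
    hsound C hexp γx pts hact hrel
  -- the corrected lifts
  let γ' : α → Γ := fun x => γ0 x * (a (gi x) : Γ)
  have hγ' : ∀ x, σ (γ' x) = PresentedGroup.of x := by
    intro x
    show σ (γ0 x * (a (gi x) : Γ)) = _
    rw [map_mul, hγ0, MonoidHom.mem_ker.mp (haker _), mul_one]
  refine ker_eq_bot_of_lifts rels σ hσ γ' hγ' ?_
  intro r hr
  obtain ⟨L, hL, rfl⟩ := (hrels r).mp hr
  rw [lift_mk_eq_pathProd γ' lw (letG (fun k => γx k * (a k : Γ))) (fun x b => by
    rw [letG_lw lw gi hlw, hγx]) L]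
  exact harel _ (by rw [hpaths]; exact List.mem_map_of_mem hL)

end Pres

end Cfsg.Agent.Lib.Helper19.ONM.FoxSound
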