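import Cfsg.Agent.Lib.Helper28.SchurFoxF
import Cfsg.Agent.Lib.Helper28.TC2Lower

set_option autoImplicit false
set_option maxRecDepth 100000

/-!
# The static part of a Fox certificate from a verified table
-/

namespace Cfsg.Agent.Lib.Helper19.ONM.FoxStatic

open Cfsg.Agent.Lib.Helper28.SchurFox Cfsg.Agent.Lib.Helper28.TC2Lower
open Cfsg.Agent.Lib.Helper28.TC2Upper (allLoop allLoop_eq_true)

/-- the static checks without the scan of the table, which is replaced by `T.OK` -/
theorem static_of_table (D : FoxData) (T : Table) (hT : T.OK) (hDn : D.n = T.n) (hk : 2 * D.d ≤ T.k)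
    (hinv : ∀ x, x < D.d → T.invl (2 * x) = 2 * x + 1)
    (hp : 0 < D.p) (hn : 0 < D.n) (hmw : D.mw = 2 ^ D.w) (h5 : D.pathsOK = true) (h6 : D.idOK = true) :
    D.Static T.tau := by
  refine ⟨hp, hn, hmw, ?_, ?_, ?_⟩
  · intro x hx i hi
    rw [hDn] at hi ⊢
    have h1 := hT.perm i hi (2 * x) (by omega)
    rw [hinv x hx] at h1
    have hinv' : T.invl (2 * x + 1) = 2 * x := by
      have := (hT.inv (2 * x) (by omega)).2
      rwa [hinv x hx] at this
    have h2 := hT.perm i hi (2 * x + 1) (by omega)
    rw [hinv'] at h2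
    exact ⟨h1.1, h2.1, h1.2, h2.2⟩
  · intro path hpath l hl
    unfold FoxData.pathsOK at h5
    rw [List.all_eq_true] at h5
    have := h5 path hpath
    rw [List.all_eq_true] at this
    simpa using this l hl
  · intro j hj i hi
    unfold FoxData.idOK at h6
    rw [allLoop_eq_true] at h6
    have := h6 j hj
    rw [allLoop_eq_true] at this
    have := (Cfsg.Agent.Lib.Helper28.TC2Upper.Data.nbeq_iff _ _).mp (this i hi)
    rw [sumN_eq, sumN_eq] at this
    have e : (cond (Nat.beq j i) 1 0 : ℕ) = if j = i then 1 else 0 := by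
      by_cases hji : j = i
      · rw [if_pos hji, (Cfsg.Agent.Lib.Helper28.TC2Upper.Data.nbeq_iff _ _).mpr hji]; rfl
      · rw [if_neg hji, (nbeq_false_iff _ _).mpr hji]; rfl
    rw [e] at this
    exact this

end Cfsg.Agent.Lib.Helper19.ONM.FoxStatic
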