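import Cfsg.Agent.Lib.Helper28.TCONLink
import Cfsg.Agent.Lib.Helper28.TC2Tower

set_option autoImplicit false
set_option maxRecDepth 100000

/-!
# The triple cover of the O'Nan group, as a presented group

Generators `g, a, …, f, z`; the relators of the O'Nan presentation with the last three (`(bcdg)^5`,
`g b g^c g^b g^c`, `g e g^d g^e g^d`) multiplied by `z⁻¹`, the commutators `[z, x]` and `z^3`.
-/

namespace Cfsg.Agent.Lib.Helper19.ONM.Def

open Cfsg.Agent.Lib.Helper28 Cfsg.Agent.Lib.Helper28.TC2Tower Cfsg.Agent.Lib.Helper28.TC2Glue

/-- the generators of the cover -/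
inductive Gen8
  | g | a | b | c | d | e | f | z
  deriving DecidableEq

/-- the generators of the O'Nan presentation as generators of the cover -/
def up : Cfsg.Spor.ON.Gen → Gen8
  | .g => .g
  | .a => .a
  | .b => .b
  | .c => .c
  | .d => .d
  | .e => .e
  | .f => .f

/-- index of a generator -/
def gi : Gen8 → ℕ
  | .g => 0
  | .a => 1
  | .b => 2
  | .c => 3
  | .d => 4
  | .e => 5
  | .f => 6
  | .z => 7

/-- coding of the letters -/
def lw (xb : Gen8 × Bool) : ℕ := 2 * gi xb.1 + cond xb.2 0 1

/-- the commutator word `z x z⁻¹ x⁻¹` -/
def commz (x : Gen8) : List (Gen8 × Bool) := [(.z, true), (x, true), (.z, false), (x, false)]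

/-- the relator words of the O'Nan group without repetitions: the Coxeter words of the ordered pairs of nodes and the
seven further relators -/
def baseWords : List (List (Cfsg.Spor.ON.Gen × Bool)) := [
  [(.a, true), (.a, true)],
  [(.a, true), (.b, true), (.a, true), (.b, true), (.a, true), (.b, true)],
  [(.a, true), (.c, true), (.a, true), (.c, true)],
  [(.a, true), (.d, true), (.a, true), (.d, true)],
  [(.a, true), (.e, true), (.a, true), (.e, true)],
  [(.a, true), (.f, true), (.a, true), (.f, true)],
  [(.b, true), (.a, true), (.b, true), (.a, true), (.b, true), (.a, true)],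
  [(.b, true), (.b, true)],
  [(.b, true), (.c, true), (.b, true), (.c, true), (.b, true), (.c, true)],
  [(.b, true), (.d, true), (.b, true), (.d, true)],
  [(.b, true), (.e, true), (.b, true), (.e, true)],
  [(.b, true), (.f, true), (.b, true), (.f, true)],
  [(.c, true), (.a, true), (.c, true), (.a, true)],
  [(.c, true), (.b, true), (.c, true), (.b, true), (.c, true), (.b, true)],
  [(.c, true), (.c, true)],
  [(.c, true), (.d, true), (.c, true), (.d, true), (.c, true), (.d, true), (.c, true), (.d, true), (.c, true), (.d, true), (.c, true), (.d, true), (.c, true), (.d, true), (.c, true), (.d, true)],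
  [(.c, true), (.e, true), (.c, true), (.e, true)],
  [(.c, true), (.f, true), (.c, true), (.f, true)],
  [(.d, true), (.a, true), (.d, true), (.a, true)],
  [(.d, true), (.b, true), (.d, true), (.b, true)],
  [(.d, true), (.c, true), (.d, true), (.c, true), (.d, true), (.c, true), (.d, true), (.c, true), (.d, true), (.c, true), (.d, true), (.c, true), (.d, true), (.c, true), (.d, true), (.c, true)],
  [(.d, true), (.d, true)],
  [(.d, true), (.e, true), (.d, true), (.e, true), (.d, true), (.e, true)],
  [(.d, true), (.f, true), (.d, true), (.f, true)],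
  [(.e, true), (.a, true), (.e, true), (.a, true)],
  [(.e, true), (.b, true), (.e, true), (.b, true)],
  [(.e, true), (.c, true), (.e, true), (.c, true)],
  [(.e, true), (.d, true), (.e, true), (.d, true), (.e, true), (.d, true)],
  [(.e, true), (.e, true)],
  [(.e, true), (.f, true), (.e, true), (.f, true), (.e, true), (.f, true)],
  [(.f, true), (.a, true), (.f, true), (.a, true)],
  [(.f, true), (.b, true), (.f, true), (.b, true)],
  [(.f, true), (.c, true), (.f, true), (.c, true)],
  [(.f, true), (.d, true), (.f, true), (.d, true)],
  [(.f, true), (.e, true), (.f, true), (.e, true), (.f, true), (.e, true)],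
  [(.f, true), (.f, true)],
  [(.a, true), (.f, true), (.g, false), (.g, false)],
  [(.a, true), (.f, true), (.d, false), (.c, false), (.d, false), (.c, false), (.d, false), (.c, false), (.d, false), (.c, false)],
  [(.c, true), (.g, false), (.d, false), (.g, false), (.d, false), (.c, true), (.d, true), (.g, true), (.d, true), (.g, true)],
  [(.d, true), (.g, false), (.c, false), (.g, false), (.c, false), (.d, true), (.c, true), (.g, true), (.c, true), (.g, true)],
  [(.b, true), (.c, true), (.d, true), (.g, true), (.b, true), (.c, true), (.d, true), (.g, true), (.b, true), (.c, true), (.d, true), (.g, true), (.b, true), (.c, true), (.d, true), (.g, true), (.b, true), (.c, true), (.d, true), (.g, true)],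
  [(.g, true), (.b, true), (.c, false), (.g, true), (.c, true), (.b, false), (.g, true), (.b, true), (.c, false), (.g, true), (.c, true)],
  [(.g, true), (.e, true), (.d, false), (.g, true), (.d, true), (.e, false), (.g, true), (.e, true), (.d, false), (.g, true), (.d, true)]]

theorem base_sub : ∀ L ∈ baseWords, L ∈ TCONLink.relWords := by decide +kernel

theorem base_sup : ∀ L ∈ TCONLink.relWords, L ∈ baseWords := by decide +kernel

/-- the relator words of the cover coming from the relators of the O'Nan group: the last three are multiplied by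
`z⁻¹` -/
def relWordsA : List (List (Gen8 × Bool)) :=
  (baseWords.take 40).map (upWord up) ++
  (baseWords.drop 40).map (fun L => upWord up L ++ [(Gen8.z, false)])

/-- the relator words of the cover making `z` central of order 3 -/
def relWordsC : List (List (Gen8 × Bool)) :=
  [Gen8.g, .a, .b, .c, .d, .e, .f].map commz ++
  [[(Gen8.z, true), (Gen8.z, true), (Gen8.z, true)]]

/-- the relator words of the cover -/
def relWords : List (List (Gen8 × Bool)) := relWordsA ++ relWordsC

/-- the relators of the cover -/
def rels : Set (FreeGroup Gen8) := {r | ∃ L ∈ relWords, r = FreeGroup.mk L}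

/-- the cover -/
abbrev Ghat : Type := PresentedGroup rels

theorem hrels : ∀ r, r ∈ rels ↔ ∃ L ∈ relWords, r = FreeGroup.mk L := fun _ => Iff.rfl

theorem hlw : ∀ x b, lw (x, b) = 2 * gi x + cond b 0 1 := fun _ _ => rfl

theorem hgi : Function.Injective gi := by
  intro s t e; cases s <;> cases t <;> simp_all [gi]

theorem hDd : ∀ k < 8, ∃ s, gi s = k := by
  intro k hk
  interval_cases k
  exacts [⟨.g, rfl⟩, ⟨.a, rfl⟩, ⟨.b, rfl⟩, ⟨.c, rfl⟩, ⟨.d, rfl⟩, ⟨.e, rfl⟩, ⟨.f, rfl⟩, ⟨.z, rfl⟩]

/-- a generator of the cover, as an element -/
abbrev gen (x : Gen8) : Ghat := PresentedGroup.of x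

/-- a relator word is trivial in the cover -/
theorem mk_eq_one {L : List (Gen8 × Bool)} (hL : L ∈ relWords) :
    (PresentedGroup.mk rels (FreeGroup.mk L) : Ghat) = 1 :=
  (PresentedGroup.one_of_mem (show FreeGroup.mk L ∈ rels from ⟨L, hL, rfl⟩))

end Cfsg.Agent.Lib.Helper19.ONM.Def
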