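import Mathlib.Data.Nat.Notation
set_option autoImplicit false
set_option maxRecDepth 100000

namespace Cfsg.Agent.Lib.Helper19.ONM.FoxP2Cyc

def cyc0 : List (List (ℕ × ℕ)) := [[(0, 1)], [], [], [], [], [], [], [], [], [], [], [], [], [], [], [], [], [], [], [], [], [], [], [], [], [], [], [], [], [], [], [], [], [], [], [], [], [], [], [], [], [], [], [], [], [], [], [], [], [], []]
def cyc1 : List (List (ℕ × ℕ)) := [[], [], [(0, 1)], [], [], [], [], [], [], [], [], [], [], [], [], [], [], [], [], [], [], [], [], [], [], [], [], [], [], [], [], [], [], [], [], [], [], [], [], [], [], [], [], [], [], [], [], [], [], [], []]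
def cyc2 : List (List (ℕ × ℕ)) := [[], [], [], [(0, 1)], [], [], [], [], [], [], [], [], [], [], [], [], [], [], [], [], [], [], [], [], [], [], [], [], [], [], [], [], [], [], [], [], [], [], [], [], [], [], [], [], [], [], [], [], [], [], []]
def cyc3 : List (List (ℕ × ℕ)) := [[], [], [], [], [(0, 1)], [], [], [], [], [], [], [], [], [], [], [], [], [], [], [], [], [], [], [], [], [], [], [], [], [], [], [], [], [], [], [], [], [], [], [], [], [], [], [], [], [], [], [], [], [], []]
def cyc4 : List (List (ℕ × ℕ)) := [[], [], [], [], [], [(0, 1)], [], [], [], [], [], [], [], [], [], [], [], [], [], [], [], [], [], [], [], [], [], [], [], [], [], [], [], [], [], [], [], [], [], [], [], [], [], [], [], [], [], [], [], [], []]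
def cyc5 : List (List (ℕ × ℕ)) := [[], [], [], [], [], [], [], [(0, 1)], [], [], [], [], [], [], [], [], [], [], [], [], [], [], [], [], [], [], [], [], [], [], [], [], [], [], [], [], [], [], [], [], [], [], [], [], [], [], [], [], [], [], []]
def cyc6 : List (List (ℕ × ℕ)) := [[], [], [], [], [], [], [], [], [], [(0, 1)], [], [], [], [], [], [], [], [], [], [], [], [], [], [], [], [], [], [], [], [], [], [], [], [], [], [], [], [], [], [], [], [], [], [], [], [], [], [], [], [], []]
def cyc7 : List (List (ℕ × ℕ)) := [[], [], [], [], [], [], [], [], [], [], [(0, 1)], [], [], [], [], [], [], [], [], [], [], [], [], [], [], [], [], [], [], [], [], [], [], [], [], [], [], [], [], [], [], [], [], [], [], [], [], [], [], [], []]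
def cyc8 : List (List (ℕ × ℕ)) := [[], [], [], [], [], [], [], [], [], [], [], [(0, 1)], [], [], [], [], [], [], [], [], [], [], [], [], [], [], [], [], [], [], [], [], [], [], [], [], [], [], [], [], [], [], [], [], [], [], [], [], [], [], []]
def cyc9 : List (List (ℕ × ℕ)) := [[], [], [], [], [], [], [], [], [], [], [], [], [(0, 1)], [], [], [], [], [], [], [], [], [], [], [], [], [], [], [], [], [], [], [], [], [], [], [], [], [], [], [], [], [], [], [], [], [], [], [], [], [], []]
def cyc10 : List (List (ℕ × ℕ)) := [[], [], [], [], [], [], [], [], [], [], [], [], [], [], [(0, 1)], [], [], [], [], [], [], [], [], [], [], [], [], [], [], [], [], [], [], [], [], [], [], [], [], [], [], [], [], [], [], [], [], [], [], [], []]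
def cyc11 : List (List (ℕ × ℕ)) := [[], [], [], [], [], [], [], [], [], [], [], [], [], [], [], [(0, 1)], [], [], [], [], [], [], [], [], [], [], [], [], [], [], [], [], [], [], [], [], [], [], [], [], [], [], [], [], [], [], [], [], [], [], []]
def cyc12 : List (List (ℕ × ℕ)) := [[], [], [], [], [], [], [], [], [], [], [], [], [], [], [], [], [(0, 1)], [], [], [], [], [], [], [], [], [], [], [], [], [], [], [], [], [], [], [], [], [], [], [], [], [], [], [], [], [], [], [], [], [], []]
def cyc13 : List (List (ℕ × ℕ)) := [[], [], [], [], [], [], [], [], [], [], [], [], [], [], [], [], [], [(0, 1)], [], [], [], [], [], [], [], [], [], [], [], [], [], [], [], [], [], [], [], [], [], [], [], [], [], [], [], [], [], [], [], [], []]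
def cyc14 : List (List (ℕ × ℕ)) := [[], [], [], [], [], [], [], [], [], [], [], [], [], [], [], [], [], [], [(0, 1)], [], [], [], [], [], [], [], [], [], [], [], [], [], [], [], [], [], [], [], [], [], [], [], [], [], [], [], [], [], [], [], []]
def cyc15 : List (List (ℕ × ℕ)) := [[], [], [], [], [], [], [], [], [], [], [], [], [], [], [], [], [], [], [], [(0, 1)], [], [], [], [], [], [], [], [], [], [], [], [], [], [], [], [], [], [], [], [], [], [], [], [], [], [], [], [], [], [], []]
def cyc16 : List (List (ℕ × ℕ)) := [[], [], [], [], [], [], [], [], [], [], [], [], [], [], [], [], [], [], [], [], [(0, 1)], [], [], [], [], [], [], [], [], [], [], [], [], [], [], [], [], [], [], [], [], [], [], [], [], [], [], [], [], [], []]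
def cyc17 : List (List (ℕ × ℕ)) := [[], [], [], [], [], [], [], [], [], [], [], [], [], [], [], [], [], [], [], [], [], [(0, 1)], [], [], [], [], [], [], [], [], [], [], [], [], [], [], [], [], [], [], [], [], [], [], [], [], [], [], [], [], []]
def cyc18 : List (List (ℕ × ℕ)) := [[], [], [], [], [], [], [], [], [], [], [], [], [], [], [], [], [], [], [], [], [], [], [], [(0, 1)], [], [], [], [], [], [], [], [], [], [], [], [], [], [], [], [], [], [], [], [], [], [], [], [], [], [], []]
def cyc19 : List (List (ℕ × ℕ)) := [[], [], [], [], [], [], [], [], [], [], [], [], [], [], [], [], [], [], [], [], [], [], [], [], [(0, 1)], [], [], [], [], [], [], [], [], [], [], [], [], [], [], [], [], [], [], [], [], [], [], [], [], [], []]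
def cyc20 : List (List (ℕ × ℕ)) := [[], [], [], [], [], [], [], [], [], [], [], [], [], [], [], [], [], [], [], [], [], [], [], [], [], [(0, 1)], [], [], [], [], [], [], [], [], [], [], [], [], [], [], [], [], [], [], [], [], [], [], [], [], []]
def cyc21 : List (List (ℕ × ℕ)) := [[], [], [], [], [], [], [], [], [], [], [], [], [], [], [], [], [], [], [], [], [], [], [], [], [], [], [(0, 1)], [], [], [], [], [], [], [], [], [], [], [], [], [], [], [], [], [], [], [], [], [], [], [], []]
def cyc22 : List (List (ℕ × ℕ)) := [[], [], [], [], [], [], [], [], [], [], [], [], [], [], [], [], [], [], [], [], [], [], [], [], [], [], [], [], [(0, 1)], [], [], [], [], [], [], [], [], [], [], [], [], [], [], [], [], [], [], [], [], [], []]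
def cyc23 : List (List (ℕ × ℕ)) := [[], [], [], [], [], [], [], [], [], [], [], [], [], [], [], [], [], [], [], [], [], [], [], [], [], [], [], [], [], [], [(0, 1)], [], [], [], [], [], [], [], [], [], [], [], [], [], [], [], [], [], [], [], []]
def cyc24 : List (List (ℕ × ℕ)) := [[], [], [], [], [], [], [], [], [], [], [], [], [], [], [], [], [], [], [], [], [], [], [], [], [], [], [], [], [], [], [], [(0, 1)], [], [], [], [], [], [], [], [], [], [], [], [], [], [], [], [], [], [], []]
def cyc25 : List (List (ℕ × ℕ)) := [[], [], [], [], [], [], [], [], [], [], [], [], [], [], [], [], [], [], [], [], [], [], [], [], [], [], [], [], [], [], [], [], [(0, 1)], [], [], [], [], [], [], [], [], [], [], [], [], [], [], [], [], [], []]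
def cyc26 : List (List (ℕ × ℕ)) := [[], [], [], [], [], [], [], [], [], [], [], [], [], [], [], [], [], [], [], [], [], [], [], [], [], [], [], [], [], [], [], [], [], [(0, 1)], [], [], [], [], [], [], [], [], [], [], [], [], [], [], [], [], []]
def cyc27 : List (List (ℕ × ℕ)) := [[], [], [], [], [], [], [], [], [], [], [], [], [], [], [], [], [], [], [], [], [], [], [], [], [], [], [], [], [], [], [], [], [], [], [], [(0, 1)], [], [], [], [], [], [], [], [], [], [], [], [], [], [], []]
def cyc28 : List (List (ℕ × ℕ)) := [[], [], [], [], [], [], [], [], [], [], [], [], [], [], [], [], [], [], [], [], [], [], [], [], [], [], [], [], [], [], [], [], [], [], [], [], [], [], [], [], [], [], [], [(1, 1), (122761, 1), (245521, 1)], [], [], [], [], [], [], [(0, 1), (1, 1)]]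
def cyc29 : List (List (ℕ × ℕ)) := [[], [], [], [], [], [], [], [], [], [], [], [], [], [], [], [], [], [], [], [], [], [], [], [], [], [], [], [], [], [], [], [], [], [], [], [], [], [], [], [], [], [], [], [], [], [(2, 1), (122762, 1), (245522, 1)], [], [], [], [], [(1, 1), (2, 1)]]
def cyc30 : List (List (ℕ × ℕ)) := [[], [], [], [], [], [], [], [], [], [], [], [], [], [], [], [], [], [], [], [], [], [], [], [], [], [], [], [], [], [], [], [], [], [], [], [], [], [], [], [], [], [], [], [], [], [], [(3, 1), (122763, 1), (245523, 1)], [], [], [], [(1, 1), (3, 1)]]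
def cyc31 : List (List (ℕ × ℕ)) := [[], [], [], [], [], [], [], [], [], [], [], [], [], [], [], [], [], [], [], [], [], [], [], [], [], [], [], [], [], [], [], [], [], [], [], [], [], [], [], [], [], [], [], [], [], [], [], [(4, 1), (122764, 1), (245524, 1)], [], [], [(1, 1), (4, 1)]]
def cyc32 : List (List (ℕ × ℕ)) := [[], [], [], [], [], [], [], [], [], [], [], [], [], [], [], [], [], [], [], [], [], [], [], [], [], [], [], [], [], [], [], [], [], [], [], [], [], [], [], [], [], [], [], [], [], [], [], [], [(5, 1), (122765, 1), (245525, 1)], [], [(1, 1), (5, 1)]]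
def cyc33 : List (List (ℕ × ℕ)) := [[], [], [], [], [], [], [], [], [], [], [], [], [], [], [], [], [], [], [], [], [], [], [], [], [], [], [], [], [], [], [], [], [], [], [], [], [], [], [], [], [], [], [], [], [(8, 1), (122768, 1), (245528, 1)], [], [], [], [], [], [(8, 1), (2, 1)]]
def cyc34 : List (List (ℕ × ℕ)) := [[], [], [], [], [], [], [], [], [], [], [], [], [], [], [], [], [], [], [], [], [], [], [], [], [], [], [], [], [], [], [], [], [], [], [], [], [], [], [], [], [], [], [], [], [], [], [], [], [], [(21, 1), (122781, 1), (245541, 1)], [(5, 1), (21, 1)]]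
def cyc35 : List (List (ℕ × ℕ)) := [[], [], [], [], [], [], [], [], [(2, 1)], [], [], [], [], [(1, 1)], [], [], [], [], [], [], [], [], [], [], [], [], [], [], [], [], [], [], [], [], [], [], [], [], [], [], [], [], [], [], [], [], [], [], [], [], []]
def cyc36 : List (List (ℕ × ℕ)) := [[], [], [], [], [], [], [], [], [], [], [], [], [], [], [], [], [], [], [], [], [], [], [(4, 1)], [], [], [], [], [(1, 1)], [], [], [], [], [], [], [], [], [], [], [], [], [], [], [], [], [], [], [], [], [], [], []]
def cyc37 : List (List (ℕ × ℕ)) := [[], [], [], [], [], [], [], [], [], [], [], [], [], [], [], [], [], [], [], [], [], [], [], [], [], [], [], [], [], [(312, 1)], [], [], [], [], [(140, 1)], [], [], [], [], [], [], [], [], [], [], [], [], [], [], [], []]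
def cyc38 : List (List (ℕ × ℕ)) := [[], [(648, 1)], [], [], [], [], [(304, 1)], [], [], [], [], [], [], [], [], [], [], [], [], [], [], [], [], [], [], [], [], [], [], [], [], [], [], [], [], [], [], [], [], [], [], [], [], [], [], [], [], [], [], [], []]
def cyc39 : List (List (ℕ × ℕ)) := [[], [(16, 1), (0, 1)], [], [], [], [], [], [], [(0, 1), (16, 1)], [], [], [], [], [], [], [], [], [], [], [], [], [], [], [], [], [], [], [], [(16, 1)], [(16, 1), (0, 1)], [], [], [], [], [], [(51, 1)], [], [(0, 1), (16, 1)], [(0, 1)], [], [], [], [(0, 1), (52, 1)], [(1, 1), (52, 1)], [], [], [], [(1, 1), (0, 1)], [(17, 1), (245572, 1)], [], []]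
def cyc40 : List (List (ℕ × ℕ)) := [[(40, 1)], [(0, 1), (12, 1)], [], [], [], [], [], [(12, 1)], [], [], [], [], [], [], [], [], [], [], [], [], [], [], [(12, 1), (0, 1)], [], [], [], [], [], [], [(12, 1), (0, 1)], [], [], [], [], [], [], [], [(12, 1), (0, 1)], [], [(0, 1)], [], [(0, 1), (41, 1)], [], [(1, 1), (41, 1)], [], [(245561, 1), (13, 1)], [(1, 1), (0, 1)], [], [], [], []]
def cyc41 : List (List (ℕ × ℕ)) := [[(2, 1), (308, 1), (13, 1), (245813, 1), (64, 1)], [(16, 1), (3, 1), (245654, 1), (675, 1), (0, 1)], [(245577, 1), (41, 1)], [(62, 1), (51, 1), (314, 1), (663, 1), (64, 1)], [(16, 1), (141, 1), (308, 1), (245582, 1), (3, 1)], [], [(22, 1)], [(6, 1), (180, 1), (245654, 1), (59, 1), (9, 1), (184, 1), (248607, 1), (245543, 1), (146, 1), (6783, 1), (28, 1)], [(246908, 1), (122835, 1), (3192, 1), (0, 1), (1, 1), (245521, 1)], [(314, 1), (246144, 1), (122787, 1), (122906, 1), (12, 1)], [(245542, 1), (22, 1), (141, 1)], [(59, 1)], [(2, 1), (64, 1), (155, 1)], [(6, 1), (123080, 1)], [(740, 1), (246908, 1), (154, 1),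 (123085, 1), (146, 1), (245577, 1), (28, 1), (3192, 1), (49, 1), (140, 1)], [], [(6, 1), (252097, 1)], [(41, 1), (339, 1), (122768, 1), (49, 1), (20, 1)], [(663, 1), (62, 1), (64, 1)], [(23, 1), (3, 1), (245700, 1), (314, 1)], [], [(3, 1), (51, 1), (276, 1), (736, 1), (59, 1), (246144, 1), (245543, 1), (1440, 1), (182, 1), (148, 1), (64, 1), (15, 1)], [(0, 1), (6, 1), (40, 1), (122801, 1)], [(5, 1), (15, 1), (245582, 1), (245668, 1)], [(308, 1)], [(141, 1)], [], [], [(3, 1), (252097, 1), (16, 1), (647, 1)], [(122801, 1), (245668, 1), (245542, 1), (62, 1), (40, 1), (0, 1)], [], [(59, 1)], [(49, 1), (5, 1)], [(15, 1)], [], [(5, 1), (126, 1), (20, 1), (139, 1)], [(245596, 1), (122836, 1), (12, 1), (122908, 1), (41, 1), (245669, 1), (122769, 1), (341, 1), (245543, 1), (148, 1), (122762, 1), (0, 1), (123084, 1)], [(15, 1), (155, 1), (141, 1), (245547, 1), (12, 1)], [(245581, 1), (123458, 1), (122768, 1), (13930, 1)], [(122776, 1), (1, 1), (122767, 1), (736, 1), (122822, 1), (122908, 1), (122773, 1), (40, 1), (0, 1)], [(65, 1),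 (245597, 1)], [(41, 1), (245630, 1), (6, 1), (245596, 1), (122769, 1), (245524, 1), (122906, 1), (27, 1), (3, 1), (122772, 1)], [], [(1, 1), (245630, 1), (122772, 1), (149, 1), (122909, 1), (122822, 1), (122764, 1), (0, 1), (122776, 1), (245846, 1), (122787, 1), (122766, 1), (9, 1)], [(245596, 1), (122769, 1), (62, 1), (122908, 1), (245547, 1), (23, 1), (149, 1), (122822, 1), (122762, 1), (123084, 1), (148, 1)], [(0, 1), (123154, 1), (122789, 1), (122776, 1), (122802, 1), (245702, 1), (122906, 1), (122764, 1), (13, 1), (122788, 1), (122769, 1), (122774, 1), (4, 1), (184, 1), (122773, 1), (122940, 1), (22, 1), (122763, 1), (122822, 1), (403, 1), (62, 1), (76, 1)], [(3, 1), (9, 1), (122906, 1), (122774, 1), (122770, 1), (0, 1), (245914, 1), (122835, 1), (122794, 1), (122762, 1), (122766, 1), (122789, 1), (122773, 1), (75, 1), (41, 1), (10, 1), (1, 1), (122776, 1), (122940, 1), (122784, 1), (122763, 1), (180, 1), (34, 1), (22, 1)], [(122761, 1), (40, 1), (10, 1), (122787, 1), (23, 1), (399, 1), (122908, 1), (62, 1), (122837,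 1), (182, 1), (148, 1), (149, 1), (27, 1), (75, 1), (122773, 1), (13, 1), (77, 1), (123084, 1), (122835, 1), (122803, 1), (122770, 1), (324, 1), (6, 1)], [], [(122801, 1), (245669, 1), (245548, 1), (245596, 1), (40, 1), (245582, 1)], [(4, 1), (76, 1), (77, 1), (43, 1), (326, 1), (27, 1), (28, 1), (324, 1)]]
def cyc42 : List (List (ℕ × ℕ)) := [[(2, 1), (64, 1), (139, 1), (278, 1), (434, 1), (245813, 1), (765, 1), (308, 1), (110, 1), (80, 1), (27, 1), (245863, 1), (245868, 1), (823, 1), (390, 1), (61, 1), (122946, 1), (122789, 1), (62, 1), (199, 1), (122787, 1), (394, 1)], [(110, 1), (122906, 1), (229, 1), (123523, 1), (245654, 1), (245672, 1), (3, 1), (16, 1), (106, 1), (675, 1)], [(13, 1), (149, 1), (320, 1), (80, 1), (61, 1), (245868, 1), (144, 1), (110, 1), (199, 1), (278, 1), (27, 1), (139, 1), (6, 1), (245577, 1), (75, 1), (98, 1), (38, 1), (30, 1)], [(9, 1), (2, 1), (62, 1), (663, 1), (245954, 1), (146, 1), (314, 1), (35, 1), (122789, 1), (22, 1), (27, 1), (29, 1), (11, 1)], [(10, 1), (308, 1), (3, 1), (245582, 1),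 (2, 1), (141, 1), (245584, 1), (16, 1)], [(765, 1), (78, 1), (122769, 1), (245863, 1), (30, 1), (394, 1), (52, 1)], [(180, 1), (245542, 1), (82, 1), (106, 1), (229, 1)], [(9, 1), (45, 1), (88, 1), (118, 1), (198, 1), (690, 1), (764, 1), (2234, 1), (122952, 1), (131636, 1), (245654, 1), (245850, 1), (6, 1), (22, 1), (152, 1), (863, 1), (93, 1), (248607, 1), (12916, 1), (3, 1), (197, 1), (186, 1), (350, 1), (245581, 1), (128, 1), (246265, 1), (245861, 1)], [(322, 1), (0, 1), (30, 1), (77, 1), (1302, 1), (122947, 1), (245590, 1), (67, 1), (122840, 1), (245521, 1), (4, 1), (122930, 1), (245545, 1), (6247, 1), (20, 1), (110, 1), (53, 1), (647, 1), (246908, 1), (122833, 1), (41, 1)], [(88, 1), (695, 1), (5, 1), (350, 1), (1947, 1), (10140, 1), (123678, 1), (122786, 1), (246230, 1), (140786, 1), (51, 1), (17, 1), (314, 1), (122906, 1), (122830, 1), (2904, 1), (246144, 1), (245529, 1), (122940, 1), (2234, 1), (58, 1), (18026, 1), (22, 1), (252959, 1), (1440, 1), (147, 1)], [(1, 1), (131636, 1), (245850, 1), (245861, 1), (4847, 1),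 (695, 1), (245545, 1), (247102, 1), (69, 1), (118, 1), (3441, 1), (863, 1), (245543, 1), (1302, 1), (4, 1), (8876, 1), (647, 1), (141, 1), (1582, 1), (122768, 1), (22, 1), (247196, 1), (122785, 1), (245542, 1), (249047, 1)], [(246261, 1), (4257, 1), (122827, 1), (67, 1), (246265, 1), (245602, 1), (61, 1), (122784, 1), (122790, 1), (59, 1), (350, 1), (1560, 1), (245676, 1), (57, 1), (146, 1), (82, 1), (45, 1), (245672, 1), (144, 1), (245581, 1), (51, 1), (1117, 1), (546, 1), (247117, 1), (1561, 1)], [(13, 1), (78, 1), (436, 1), (122946, 1), (139, 1), (320, 1), (122838, 1), (245954, 1), (356, 1), (75, 1), (278, 1), (98, 1), (38, 1)], [(1, 1), (6, 1), (30, 1), (63, 1), (20, 1), (123080, 1), (122946, 1), (122947, 1), (53, 1)], [(10, 1), (33, 1), (49, 1), (53, 1), (77, 1), (80, 1), (30, 1), (339, 1), (325, 1), (703, 1), (245577, 1), (245675, 1), (245835, 1), (245868, 1), (149, 1), (340, 1), (75, 1), (436, 1), (78, 1), (123075, 1), (144, 1), (146, 1), (245585, 1), (111, 1), (245869, 1), (25, 1), (8, 1), (123524, 1), (6247, 1),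 (245928, 1), (246908, 1), (122787, 1), (187, 1), (20, 1), (64, 1), (150, 1), (225, 1), (124805, 1), (322, 1), (110, 1), (140, 1)], [], [(25, 1), (324, 1), (245675, 1), (252097, 1), (122903, 1), (6, 1), (246263, 1), (225, 1), (7, 1), (245527, 1), (245526, 1), (1564, 1)], [(49, 1), (696, 1), (245862, 1), (245868, 1), (80, 1), (122768, 1), (8, 1), (20, 1), (187, 1), (77, 1), (158, 1), (592, 1), (245583, 1), (144, 1), (67, 1), (42, 1), (123082, 1), (245835, 1), (41, 1), (27, 1), (306, 1)], [(29, 1), (64, 1), (11, 1), (35, 1), (146, 1), (122789, 1), (245666, 1), (122840, 1), (123087, 1), (27, 1), (663, 1)], [(24, 1), (695, 1), (2234, 1), (245543, 1), (5, 1), (1947, 1), (246230, 1), (61, 1), (182, 1), (17, 1), (245717, 1), (245700, 1), (88, 1), (314, 1)], [], [(28, 1), (29, 1), (51, 1), (62, 1), (9, 1), (118, 1), (148, 1), (193, 1), (215, 1), (327, 1), (350, 1), (357, 1), (442, 1), (973, 1), (1559, 1), (2149, 1), (2904, 1), (4255, 1), (245581, 1), (245663, 1), (245861, 1), (247199, 1), (4845, 1), (249934, 1), (245549, 1), (4625,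 1), (246230, 1), (126550, 1), (122903, 1), (59, 1), (66, 1), (17, 1), (963, 1), (2234, 1), (247192, 1), (276, 1), (865, 1), (24, 1), (246222, 1), (122821, 1), (1947, 1), (146, 1), (82, 1), (15, 1), (52, 1), (1729, 1), (247116, 1), (147, 1), (247041, 1), (246144, 1), (3438, 1), (5, 1), (225, 1), (3, 1), (2, 1), (898, 1)], [(963, 1), (255144, 1), (249193, 1), (249208, 1), (246501, 1), (248892, 1), (124767, 1), (126549, 1), (130697, 1), (245527, 1), (245526, 1), (246263, 1), (2171, 1), (127463, 1), (6, 1), (246305, 1), (426, 1), (1582, 1), (1952, 1), (247102, 1), (225, 1), (248997, 1), (1564, 1), (3477, 1), (118, 1), (122801, 1), (52, 1)], [(5, 1), (15, 1), (193, 1), (357, 1), (442, 1), (898, 1), (1729, 1), (4625, 1), (247041, 1), (247192, 1), (247199, 1), (973, 1), (143, 1), (3438, 1), (865, 1), (245663, 1), (122826, 1), (126550, 1), (154, 1), (122768, 1), (22, 1), (245542, 1), (122907, 1), (19682, 1), (147, 1), (245668, 1), (62, 1), (245862, 1), (57, 1), (28, 1), (51, 1), (123565, 1)], [(308, 1), (10, 1), (2, 1)], [(1, 1),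 (69, 1), (863, 1), (141, 1), (4847, 1), (4, 1), (8876, 1), (695, 1), (245850, 1), (131636, 1), (245861, 1), (249047, 1)], [(25, 1), (245675, 1), (324, 1)], [(963, 1)], [(3, 1), (80, 1), (764, 1), (935, 1), (963, 1), (1946, 1), (2145, 1), (2191, 1), (4342, 1), (4684, 1), (411, 1), (4847, 1), (9640, 1), (18017, 1), (19654, 1), (122903, 1), (132540, 1), (4274, 1), (138943, 1), (140777, 1), (245675, 1), (246196, 1), (247565, 1), (252670, 1), (1559, 1), (440, 1), (863, 1), (246259, 1), (252097, 1), (324, 1), (10137, 1), (123126, 1), (253239, 1), (122885, 1), (199, 1), (160, 1), (122818, 1), (7935, 1), (1780, 1), (252952, 1), (246264, 1), (253262, 1), (4, 1), (8876, 1), (394, 1), (245850, 1), (124490, 1), (255657, 1), (131636, 1), (166, 1), (1302, 1), (1, 1), (249047, 1), (246229, 1)], [(4634, 1), (246264, 1), (440, 1), (245719, 1), (394, 1), (245668, 1), (123171, 1), (247665, 1), (123524, 1), (62, 1), (245680, 1), (246196, 1), (124490, 1), (245674, 1), (23, 1), (80, 1), (122801, 1), (7, 1)], [], [(59, 1), (1561, 1), (246261,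 1), (247117, 1), (1117, 1), (546, 1), (4257, 1)], [(49, 1), (5, 1), (696, 1), (245862, 1), (306, 1), (592, 1)], [(15, 1), (193, 1), (442, 1), (865, 1), (898, 1), (1729, 1), (3438, 1), (4625, 1), (247192, 1), (247199, 1), (126550, 1), (357, 1), (973, 1), (247041, 1), (57, 1)], [(4634, 1)], [(5, 1), (51, 1), (425, 1), (784, 1), (980, 1), (3788, 1), (7271, 1), (9623, 1), (249207, 1), (249042, 1), (2006, 1), (123565, 1), (1951, 1), (306, 1), (592, 1), (854, 1), (1859, 1), (249192, 1), (247117, 1), (4257, 1), (2170, 1), (254699, 1), (126, 1), (20, 1), (8870, 1), (696, 1), (248891, 1), (130696, 1), (139, 1), (4634, 1)], [(82, 1), (245861, 1), (122836, 1), (122946, 1), (246264, 1), (110, 1), (440, 1), (188, 1), (122790, 1), (199, 1), (123657, 1), (245667, 1), (245526, 1), (245702, 1), (246281, 1), (246265, 1), (67, 1), (245674, 1), (122838, 1), (245708, 1), (30, 1), (144, 1), (124487, 1), (765, 1), (13, 1), (160, 1), (245680, 1), (122903, 1), (246483, 1), (122948, 1), (27, 1), (2, 1), (245549, 1), (123163, 1), (245717, 1), (25,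 1), (122955, 1), (123523, 1), (122829, 1), (22, 1), (245869, 1), (122770, 1), (245577, 1), (245664, 1), (324, 1), (146, 1), (245543, 1), (122784, 1), (122769, 1), (180, 1), (65, 1), (246243, 1), (45, 1), (245863, 1), (155, 1), (123463, 1), (394, 1), (245669, 1), (245561, 1), (703, 1), (23, 1), (122908, 1), (122812, 1), (245572, 1), (245840, 1), (245668, 1), (6, 1), (245596, 1), (52, 1), (122906, 1), (16, 1)], [(245602, 1), (15, 1), (245672, 1), (122829, 1), (25, 1), (122827, 1), (9, 1), (245547, 1), (245526, 1), (64, 1), (122903, 1), (245861, 1), (703, 1), (122788, 1), (245584, 1), (245674, 1), (16, 1), (141, 1)], [(123524, 1), (33, 1), (123181, 1), (8, 1), (123458, 1), (123583, 1), (340, 1), (122836, 1), (125312, 1), (67, 1), (122768, 1), (143, 1), (259050, 1), (245587, 1), (245891, 1), (245581, 1)], [(245533, 1), (62, 1), (261332, 1), (143, 1), (154, 1), (249429, 1), (93, 1), (245862, 1), (151, 1), (245870, 1), (250257, 1), (252903, 1), (22, 1), (245581, 1), (123623, 1), (1, 1), (246241, 1), (138941, 1), (15060, 1), (122908,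 1), (245529, 1), (8914, 1), (154986, 1), (158308, 1), (122896, 1), (142751, 1), (284185, 1), (245523, 1), (7383, 1), (16, 1), (7, 1), (122767, 1), (13, 1), (0, 1), (122773, 1), (9, 1)], [(122763, 1), (4, 1), (122774, 1), (245597, 1), (334, 1), (147, 1)], [(122836, 1), (1, 1), (245664, 1), (245602, 1), (6, 1), (122822, 1), (330, 1), (123657, 1), (122955, 1), (245666, 1), (198, 1), (122793, 1), (3, 1), (245668, 1), (122772, 1), (67, 1), (43, 1), (122760, 1), (122764, 1), (863, 1), (110, 1), (122789, 1), (122761, 1), (144, 1), (122767, 1), (245630, 1), (690, 1)], [(245520, 1), (122761, 1), (1, 1), (245521, 1), (122764, 1)], [(9, 1), (12, 1), (45, 1), (149, 1), (34, 1), (52, 1), (122761, 1), (122762, 1), (122822, 1), (82, 1), (122840, 1), (122909, 1), (122770, 1), (122942, 1), (245702, 1), (80, 1), (122776, 1), (3, 1), (122790, 1), (245601, 1), (41, 1), (65, 1), (14, 1), (245560, 1), (766, 1), (246223, 1), (200, 1), (122769, 1), (394, 1), (23, 1), (122794, 1), (122772, 1), (0, 1), (245587, 1), (245846, 1), (245667, 1), (245630,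 1), (16, 1), (57, 1), (110, 1), (122764, 1), (122760, 1)], [(962, 1), (123657, 1), (957, 1), (149, 1), (963, 1), (122908, 1), (122770, 1), (434, 1), (122907, 1), (51, 1), (122955, 1), (13, 1), (122841, 1), (122827, 1), (245664, 1), (245572, 1), (245547, 1), (690, 1), (45, 1), (122790, 1), (160, 1), (245596, 1), (82, 1), (123455, 1)], [(166, 1), (403, 1), (702, 1), (394, 1), (122826, 1), (122980, 1), (123150, 1), (123154, 1), (123171, 1), (124487, 1), (199, 1), (122761, 1), (3, 1), (122769, 1), (123168, 1), (69, 1), (122853, 1), (122938, 1), (122940, 1), (184, 1), (198, 1), (123524, 1), (123137, 1), (4, 1), (10, 1), (14, 1), (122774, 1), (122790, 1), (43, 1), (122803, 1), (67, 1), (122838, 1), (168, 1), (122784, 1), (146, 1), (122918, 1), (122764, 1), (245702, 1), (436, 1), (123583, 1), (123163, 1), (82, 1), (122946, 1), (122802, 1), (197, 1), (434, 1), (122794, 1), (40, 1), (245600, 1), (122840, 1), (371, 1), (12, 1), (245572, 1), (76, 1), (122788, 1), (57, 1), (122760, 1), (0, 1), (1582, 1), (3477, 1)], [(3, 1), (69, 1),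 (22, 1), (160, 1), (223, 1), (963, 1), (122763, 1), (122769, 1), (123110, 1), (123137, 1), (122761, 1), (2, 1), (122768, 1), (122790, 1), (75, 1), (122837, 1), (149, 1), (123082, 1), (122833, 1), (122773, 1), (2145, 1), (122789, 1), (1917, 1), (70, 1), (67, 1), (122907, 1), (122952, 1), (150, 1), (122938, 1), (34, 1), (95, 1), (123450, 1), (25, 1), (122930, 1), (122838, 1), (82, 1), (245560, 1), (327, 1), (122854, 1), (122764, 1), (14, 1), (168, 1), (122788, 1), (122760, 1), (0, 1), (350, 1), (63, 1), (334, 1)], [(20, 1), (30, 1), (322, 1), (122833, 1), (122918, 1), (122930, 1), (3, 1), (9, 1), (122769, 1), (13, 1), (122786, 1), (122788, 1), (34, 1), (122830, 1), (82, 1), (146, 1), (147, 1), (148, 1), (122764, 1), (10, 1), (327, 1), (22, 1), (122908, 1), (399, 1), (981, 1), (1582, 1), (1780, 1), (2191, 1), (122909, 1), (7344, 1), (19654, 1), (40, 1), (324, 1), (123463, 1), (123082, 1), (27, 1), (123526, 1), (122811, 1), (3491, 1), (9624, 1), (61, 1), (126549, 1), (122784, 1), (122761, 1), (182, 1), (350, 1), (77, 1), (122800,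 1), (20781, 1), (122907, 1), (785, 1), (245613, 1), (23, 1), (122770, 1), (3477, 1), (127102, 1), (122826, 1), (122837, 1), (124320, 1), (247350, 1), (130695, 1), (122768, 1), (245561, 1), (122801, 1), (0, 1), (95, 1), (124767, 1), (320, 1)], [(70, 1), (17, 1), (357, 1), (442, 1), (3909, 1), (4625, 1), (4737, 1), (122830, 1), (7383, 1), (124489, 1), (131793, 1), (138941, 1), (122786, 1), (1, 1), (122768, 1), (122776, 1), (123171, 1), (123524, 1), (2145, 1), (2191, 1), (3491, 1), (127102, 1), (130695, 1), (19654, 1), (122785, 1), (122760, 1), (123024, 1), (38665, 1), (15060, 1), (245572, 1), (123658, 1), (52, 1), (245571, 1), (25, 1), (199, 1), (1780, 1), (7344, 1), (0, 1), (160, 1)], [(126549, 1), (357, 1), (442, 1), (124767, 1), (123658, 1), (4625, 1), (187, 1), (122952, 1), (245571, 1), (245664, 1), (245702, 1), (245718, 1), (122801, 1), (245581, 1), (245582, 1), (981, 1), (245707, 1), (245837, 1), (246210, 1), (124489, 1), (245596, 1), (78, 1), (122787, 1), (785, 1), (322, 1), (690, 1), (9624, 1), (124320, 1), (122871,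 1), (245548, 1), (146, 1)], [(0, 1), (27, 1), (28, 1), (77, 1), (82, 1), (146, 1), (324, 1), (326, 1), (703, 1), (43, 1), (1, 1), (147, 1), (80, 1), (16, 1), (76, 1), (93, 1)]]

/-- the cycles by their cells -/
def CY : List (List (List (ℕ × ℕ))) := [cyc0, cyc1, cyc2, cyc3, cyc4, cyc5, cyc6, cyc7, cyc8, cyc9, cyc10, cyc11, cyc12, cyc13, cyc14, cyc15, cyc16, cyc17, cyc18, cyc19, cyc20, cyc21, cyc22, cyc23, cyc24, cyc25, cyc26, cyc27, cyc28, cyc29, cyc30, cyc31, cyc32, cyc33, cyc34, cyc35, cyc36, cyc37, cyc38, cyc39, cyc40, cyc41, cyc42]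

end Cfsg.Agent.Lib.Helper19.ONM.FoxP2Cyc
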