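import Cfsg.Agent.Lib.Helper19.ONM.T3C0
import Cfsg.Agent.Lib.Helper19.ONM.T3C1
import Cfsg.Agent.Lib.Helper19.ONM.T3C2
import Cfsg.Agent.Lib.Helper19.ONM.T3C3
import Cfsg.Agent.Lib.Helper19.ONM.T3C4
import Cfsg.Agent.Lib.Helper19.ONM.T3C5
import Cfsg.Agent.Lib.Helper19.ONM.T3C6
import Cfsg.Agent.Lib.Helper19.ONM.T3C7
import Cfsg.Agent.Lib.Helper19.ONM.T3C8
import Cfsg.Agent.Lib.Helper19.ONM.T3C9
import Cfsg.Agent.Lib.Helper19.ONM.T3Tree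
set_option autoImplicit false
set_option maxRecDepth 100000

/-! The coset table of the triple cover of the O'Nan group over `⟨a, …, f⟩`: 368280 points, letters `2 x` (generator) and
`2 x + 1` (inverse) for the generators `g, a, …, f, z` (indices `0, …, 7`); the point `p + i * 122760` lies over the
point `p` of the coset table of the O'Nan group, and `z` adds `122760`. -/

namespace Cfsg.Agent.Lib.Helper19.ONM.T3Tab
open Cfsg.Agent.Lib.Helper28.TC2Upper Cfsg.Agent.Lib.Helper28.TC2Lower Cfsg.Agent.Lib.Helper19.ONM.T3C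

/-- the columns -/
def col3 : BT ℕ := (BT.node 2879 (BT.node 1439 (BT.node 719 (BT.node 359 (BT.node 179 (BT.node 89 (BT.node 44 (BT.node 22 (BT.node 11 (BT.node 5 (BT.node 2 (BT.node 1 (BT.node 0 (BT.leaf c0_0) (BT.leaf c0_1)) (BT.leaf c0_2)) (BT.node 4 (BT.node 3 (BT.leaf c0_3) (BT.leaf c0_4)) (BT.leaf c0_5))) (BT.node 8 (BT.node 7 (BT.node 6 (BT.leaf c0_6) (BT.leaf c0_7)) (BT.leaf c0_8)) (BT.node 10 (BT.node 9 (BT.leaf c0_9) (BT.leaf c0_10)) (BT.leaf c0_11)))) (BT.node 17 (BT.node 14 (BT.node 13 (BT.node 12 (BT.leaf c0_12) (BT.leaf c0_13)) (BT.leaf c0_14)) (BT.node 16 (BT.node 15 (BT.leaf c0_15) (BT.leaf c0_16)) (BT.leaf c0_17))) (BT.node 20 (BT.node 19 (BT.node 18 (BT.leaf c0_18) (BT.leaf c0_19)) (BT.leaf c0_20)) (BT.node 21 (BT.leaf c0_21) (BT.leaf c0_22))))) (BT.node 33 (BT.node 28 (BT.node 25 (BT.node 24 (BT.node 23 (BT.leaf c0_23) (BT.leaf c0_24)) (BT.leaf c0_25)) (BT.node 27 (BT.node 26 (BT.leaf c0_26) (BT.leaf c0_27)) (BT.leaf c0_28))) (BT.node 31 (BT.node 30 (BT.node 29 (BT.leaf c0_29) (BT.leaf c0_30)) (BT.leaf c0_31)) (BT.node 32 (BT.leaf c0_32) (BT.leaf c0_33)))) (BT.node 39 (BT.node 36 (BT.node 35 (BT.node 34 (BT.leaf c0_34) (BT.leaf c0_35)) (BT.leaf c0_36)) (BT.node 38 (BT.node 37 (BT.leaf c0_37) (BT.leaf c0_38)) (BT.leaf c0_39))) (BT.node 42 (BT.node 41 (BT.node 40 (BT.leaf c0_40) (BT.leaf c0_41)) (BT.leaf c0_42)) (BT.node 43 (BT.leaf c0_43) (BT.leaf c0_44)))))) (BT.node 67 (BT.node 56 (BT.node 50 (BT.node 47 (BT.node 46 (BT.node 45 (BT.leaf c0_45) (BT.leaf c0_46)) (BT.leaf c0_47)) (BT.node 49 (BT.node 48 (BT.leaf c0_48) (BT.leaf c0_49)) (BT.leaf c0_50))) (BT.node 53 (BT.node 52 (BT.node 51 (BT.leaf c0_51) (BT.leaf c0_52)) (BT.leaf c0_53)) (BT.node 55 (BT.node 54 (BT.leaf c0_54) (BT.leaf c0_55)) (BT.leaf c0_56)))) (BT.node 62 (BT.node 59 (BT.node 58 (BT.node 57 (BT.leaf c0_57) (BT.leaf c0_58)) (BT.leaf c0_59)) (BT.node 61 (BT.node 60 (BT.leaf c0_60) (BT.leaf c0_61)) (BT.leaf c0_62))) (BT.node 65 (BT.node 64 (BT.node 63 (BT.leaf c0_63) (BT.leaf c0_64)) (BT.leaf c0_65)) (BT.node 66 (BT.leaf c0_66) (BT.leaf c0_67))))) (BT.node 78 (BT.node 73 (BT.node 70 (BT.node 69 (BT.node 68 (BT.leaf c0_68) (BT.leaf c0_69)) (BT.leaf c0_70)) (BT.node 72 (BT.node 71 (BT.leaf c0_71) (BT.leaf c0_72)) (BT.leaf c0_73))) (BT.node 76 (BT.node 75 (BT.node 74 (BT.leaf c0_74) (BT.leaf c0_75)) (BT.leaf c0_76)) (BT.node 77 (BT.leaf c0_77) (BT.leaf c0_78)))) (BT.node 84 (BT.node 81 (BT.node 80 (BT.node 79 (BT.leaf c0_79) (BT.leaf c0_80)) (BT.leaf c0_81)) (BT.node 83 (BT.node 82 (BT.leaf c0_82) (BT.leaf c0_83)) (BT.leaf c0_84))) (BT.node 87 (BT.node 86 (BT.node 85 (BT.leaf c0_85) (BT.leaf c0_86)) (BT.leaf c0_87)) (BT.node 88 (BT.leaf c0_88) (BT.leaf c0_89))))))) (BT.node 134 (BT.node 112 (BT.node 101 (BT.node 95 (BT.node 92 (BT.node 91 (BT.node 90 (BT.leaf c0_90) (BT.leaf c0_91)) (BT.leaf c0_92)) (BT.node 94 (BT.node 93 (BT.leaf c0_93) (BT.leaf c0_94)) (BT.leaf c0_95))) (BT.node 98 (BT.node 97 (BT.node 96 (BT.leaf c0_96) (BT.leaf c0_97)) (BT.leaf c0_98)) (BT.node 100 (BT.node 99 (BT.leaf c0_99) (BT.leaf c0_100)) (BT.leaf c0_101)))) (BT.node 107 (BT.node 104 (BT.node 103 (BT.node 102 (BT.leaf c0_102) (BT.leaf c0_103)) (BT.leaf c0_104)) (BT.node 106 (BT.node 105 (BT.leaf c0_105) (BT.leaf c0_106)) (BT.leaf c0_107))) (BT.node 110 (BT.node 109 (BT.node 108 (BT.leaf c0_108) (BT.leaf c0_109)) (BT.leaf c0_110)) (BT.node 111 (BT.leaf c0_111) (BT.leaf c0_112))))) (BT.node 123 (BT.node 118 (BT.node 115 (BT.node 114 (BT.node 113 (BT.leaf c0_113) (BT.leaf c0_114)) (BT.leaf c0_115)) (BT.node 117 (BT.node 116 (BT.leaf c0_116) (BT.leaf c0_117)) (BT.leaf c0_118))) (BT.node 121 (BT.node 120 (BT.node 119 (BT.leaf c0_119) (BT.leaf c0_120)) (BT.leaf c0_121)) (BT.node 122 (BT.leaf c0_122) (BT.leaf c0_123)))) (BT.node 129 (BT.node 126 (BT.node 125 (BT.node 124 (BT.leaf c0_124) (BT.leaf c0_125)) (BT.leaf c0_126)) (BT.node 128 (BT.node 127 (BT.leaf c0_127) (BT.leaf c0_128)) (BT.leaf c0_129))) (BT.node 132 (BT.node 131 (BT.node 130 (BT.leaf c0_130) (BT.leaf c0_131)) (BT.leaf c0_132)) (BT.node 133 (BT.leaf c0_133) (BT.leaf c0_134)))))) (BT.node 157 (BT.node 146 (BT.node 140 (BT.node 137 (BT.node 136 (BT.node 135 (BT.leaf c0_135) (BT.leaf c0_136)) (BT.leaf c0_137)) (BT.node 139 (BT.node 138 (BT.leaf c0_138) (BT.leaf c0_139)) (BT.leaf c0_140))) (BT.node 143 (BT.node 142 (BT.node 141 (BT.leaf c0_141) (BT.leaf c0_142)) (BT.leaf c0_143)) (BT.node 145 (BT.node 144 (BT.leaf c0_144) (BT.leaf c0_145)) (BT.leaf c0_146)))) (BT.node 152 (BT.node 149 (BT.node 148 (BT.node 147 (BT.leaf c0_147) (BT.leaf c0_148)) (BT.leaf c0_149)) (BT.node 151 (BT.node 150 (BT.leaf c0_150) (BT.leaf c0_151)) (BT.leaf c0_152))) (BT.node 155 (BT.node 154 (BT.node 153 (BT.leaf c0_153) (BT.leaf c0_154)) (BT.leaf c0_155)) (BT.node 156 (BT.leaf c0_156) (BT.leaf c0_157))))) (BT.node 168 (BT.node 163 (BT.node 160 (BT.node 159 (BT.node 158 (BT.leaf c0_158) (BT.leaf c0_159)) (BT.leaf c0_160)) (BT.node 162 (BT.node 161 (BT.leaf c0_161) (BT.leaf c0_162)) (BT.leaf c0_163))) (BT.node 166 (BT.node 165 (BT.node 164 (BT.leaf c0_164) (BT.leaf c0_165)) (BT.leaf c0_166)) (BT.node 167 (BT.leaf c0_167) (BT.leaf c0_168)))) (BT.node 174 (BT.node 171 (BT.node 170 (BT.node 169 (BT.leaf c0_169) (BT.leaf c0_170)) (BT.leaf c0_171)) (BT.node 173 (BT.node 172 (BT.leaf c0_172) (BT.leaf c0_173)) (BT.leaf c0_174))) (BT.node 177 (BT.node 176 (BT.node 175 (BT.leaf c0_175) (BT.leaf c0_176)) (BT.leaf c0_177)) (BT.node 178 (BT.leaf c0_178) (BT.leaf c0_179)))))))) (BT.node 269 (BT.node 224 (BT.node 202 (BT.node 191 (BT.node 185 (BT.node 182 (BT.node 181 (BT.node 180 (BT.leaf c0_180) (BT.leaf c0_181)) (BT.leaf c0_182)) (BT.node 184 (BT.node 183 (BT.leaf c0_183) (BT.leaf c0_184)) (BT.leaf c0_185))) (BT.node 188 (BT.node 187 (BT.node 186 (BT.leaf c0_186) (BT.leaf c0_187)) (BT.leaf c0_188)) (BT.node 190 (BT.node 189 (BT.leaf c0_189) (BT.leaf c0_190)) (BT.leaf c0_191)))) (BT.node 197 (BT.node 194 (BT.node 193 (BT.node 192 (BT.leaf c0_192) (BT.leaf c0_193)) (BT.leaf c0_194)) (BT.node 196 (BT.node 195 (BT.leaf c0_195) (BT.leaf c0_196)) (BT.leaf c0_197))) (BT.node 200 (BT.node 199 (BT.node 198 (BT.leaf c0_198) (BT.leaf c0_199)) (BT.leaf c0_200)) (BT.node 201 (BT.leaf c0_201) (BT.leaf c0_202))))) (BT.node 213 (BT.node 208 (BT.node 205 (BT.node 204 (BT.node 203 (BT.leaf c0_203) (BT.leaf c0_204)) (BT.leaf c0_205)) (BT.node 207 (BT.node 206 (BT.leaf c0_206) (BT.leaf c0_207)) (BT.leaf c0_208))) (BT.node 211 (BT.node 210 (BT.node 209 (BT.leaf c0_209) (BT.leaf c0_210)) (BT.leaf c0_211)) (BT.node 212 (BT.leaf c0_212) (BT.leaf c0_213)))) (BT.node 219 (BT.node 216 (BT.node 215 (BT.node 214 (BT.leaf c0_214) (BT.leaf c0_215)) (BT.leaf c0_216)) (BT.node 218 (BT.node 217 (BT.leaf c0_217) (BT.leaf c0_218)) (BT.leaf c0_219))) (BT.node 222 (BT.node 221 (BT.node 220 (BT.leaf c0_220) (BT.leaf c0_221)) (BT.leaf c0_222)) (BT.node 223 (BT.leaf c0_223) (BT.leaf c0_224)))))) (BT.node 247 (BT.node 236 (BT.node 230 (BT.node 227 (BT.node 226 (BT.node 225 (BT.leaf c0_225) (BT.leaf c0_226)) (BT.leaf c0_227)) (BT.node 229 (BT.node 228 (BT.leaf c0_228) (BT.leaf c0_229)) (BT.leaf c0_230))) (BT.node 233 (BT.node 232 (BT.node 231 (BT.leaf c0_231) (BT.leaf c0_232)) (BT.leaf c0_233)) (BT.node 235 (BT.node 234 (BT.leaf c0_234) (BT.leaf c0_235)) (BT.leaf c0_236)))) (BT.node 242 (BT.node 239 (BT.node 238 (BT.node 237 (BT.leaf c0_237) (BT.leaf c0_238)) (BT.leaf c0_239)) (BT.node 241 (BT.node 240 (BT.leaf c0_240) (BT.leaf c0_241)) (BT.leaf c0_242))) (BT.node 245 (BT.node 244 (BT.node 243 (BT.leaf c0_243) (BT.leaf c0_244)) (BT.leaf c0_245)) (BT.node 246 (BT.leaf c0_246) (BT.leaf c0_247))))) (BT.node 258 (BT.node 253 (BT.node 250 (BT.node 249 (BT.node 248 (BT.leaf c0_248) (BT.leaf c0_249)) (BT.leaf c0_250)) (BT.node 252 (BT.node 251 (BT.leaf c0_251) (BT.leaf c0_252)) (BT.leaf c0_253))) (BT.node 256 (BT.node 255 (BT.node 254 (BT.leaf c0_254) (BT.leaf c0_255)) (BT.leaf c0_256)) (BT.node 257 (BT.leaf c0_257) (BT.leaf c0_258)))) (BT.node 264 (BT.node 261 (BT.node 260 (BT.node 259 (BT.leaf c0_259) (BT.leaf c0_260)) (BT.leaf c0_261)) (BT.node 263 (BT.node 262 (BT.leaf c0_262) (BT.leaf c0_263)) (BT.leaf c0_264))) (BT.node 267 (BT.node 266 (BT.node 265 (BT.leaf c0_265) (BT.leaf c0_266)) (BT.leaf c0_267)) (BT.node 268 (BT.leaf c0_268) (BT.leaf c0_269))))))) (BT.node 314 (BT.node 292 (BT.node 281 (BT.node 275 (BT.node 272 (BT.node 271 (BT.node 270 (BT.leaf c0_270) (BT.leaf c0_271)) (BT.leaf c0_272)) (BT.node 274 (BT.node 273 (BT.leaf c0_273) (BT.leaf c0_274)) (BT.leaf c0_275))) (BT.node 278 (BT.node 277 (BT.node 276 (BT.leaf c0_276) (BT.leaf c0_277)) (BT.leaf c0_278)) (BT.node 280 (BT.node 279 (BT.leaf c0_279) (BT.leaf c0_280)) (BT.leaf c0_281)))) (BT.node 287 (BT.node 284 (BT.node 283 (BT.node 282 (BT.leaf c0_282) (BT.leaf c0_283)) (BT.leaf c0_284)) (BT.node 286 (BT.node 285 (BT.leaf c0_285) (BT.leaf c0_286)) (BT.leaf c0_287))) (BT.node 290 (BT.node 289 (BT.node 288 (BT.leaf c0_288) (BT.leaf c0_289)) (BT.leaf c0_290)) (BT.node 291 (BT.leaf c0_291) (BT.leaf c0_292))))) (BT.node 303 (BT.node 298 (BT.node 295 (BT.node 294 (BT.node 293 (BT.leaf c0_293) (BT.leaf c0_294)) (BT.leaf c0_295)) (BT.node 297 (BT.node 296 (BT.leaf c0_296) (BT.leaf c0_297)) (BT.leaf c0_298))) (BT.node 301 (BT.node 300 (BT.node 299 (BT.leaf c0_299) (BT.leaf c0_300)) (BT.leaf c0_301)) (BT.node 302 (BT.leaf c0_302) (BT.leaf c0_303)))) (BT.node 309 (BT.node 306 (BT.node 305 (BT.node 304 (BT.leaf c0_304) (BT.leaf c0_305)) (BT.leaf c0_306)) (BT.node 308 (BT.node 307 (BT.leaf c0_307) (BT.leaf c0_308)) (BT.leaf c0_309))) (BT.node 312 (BT.node 311 (BT.node 310 (BT.leaf c0_310) (BT.leaf c0_311)) (BT.leaf c0_312)) (BT.node 313 (BT.leaf c0_313) (BT.leaf c0_314)))))) (BT.node 337 (BT.node 326 (BT.node 320 (BT.node 317 (BT.node 316 (BT.node 315 (BT.leaf c0_315) (BT.leaf c0_316)) (BT.leaf c0_317)) (BT.node 319 (BT.node 318 (BT.leaf c0_318) (BT.leaf c0_319)) (BT.leaf c0_320))) (BT.node 323 (BT.node 322 (BT.node 321 (BT.leaf c0_321) (BT.leaf c0_322)) (BT.leaf c0_323)) (BT.node 325 (BT.node 324 (BT.leaf c0_324) (BT.leaf c0_325)) (BT.leaf c0_326)))) (BT.node 332 (BT.node 329 (BT.node 328 (BT.node 327 (BT.leaf c0_327) (BT.leaf c0_328)) (BT.leaf c0_329)) (BT.node 331 (BT.node 330 (BT.leaf c0_330) (BT.leaf c0_331)) (BT.leaf c0_332))) (BT.node 335 (BT.node 334 (BT.node 333 (BT.leaf c0_333) (BT.leaf c0_334)) (BT.leaf c0_335)) (BT.node 336 (BT.leaf c0_336) (BT.leaf c0_337))))) (BT.node 348 (BT.node 343 (BT.node 340 (BT.node 339 (BT.node 338 (BT.leaf c0_338) (BT.leaf c0_339)) (BT.leaf c0_340)) (BT.node 342 (BT.node 341 (BT.leaf c0_341) (BT.leaf c0_342)) (BT.leaf c0_343))) (BT.node 346 (BT.node 345 (BT.node 344 (BT.leaf c0_344) (BT.leaf c0_345)) (BT.leaf c0_346)) (BT.node 347 (BT.leaf c0_347) (BT.leaf c0_348)))) (BT.node 354 (BT.node 351 (BT.node 350 (BT.node 349 (BT.leaf c0_349) (BT.leaf c0_350)) (BT.leaf c0_351)) (BT.node 353 (BT.node 352 (BT.leaf c0_352) (BT.leaf c0_353)) (BT.leaf c0_354))) (BT.node 357 (BT.node 356 (BT.node 355 (BT.leaf c0_355) (BT.leaf c0_356)) (BT.leaf c0_357)) (BT.node 358 (BT.leaf c0_358) (BT.leaf c0_359))))))))) (BT.node 539 (BT.node 449 (BT.node 404 (BT.node 382 (BT.node 371 (BT.node 365 (BT.node 362 (BT.node 361 (BT.node 360 (BT.leaf c1_0) (BT.leaf c1_1)) (BT.leaf c1_2)) (BT.node 364 (BT.node 363 (BT.leaf c1_3) (BT.leaf c1_4)) (BT.leaf c1_5))) (BT.node 368 (BT.node 367 (BT.node 366 (BT.leaf c1_6) (BT.leaf c1_7)) (BT.leaf c1_8)) (BT.node 370 (BT.node 369 (BT.leaf c1_9) (BT.leaf c1_10)) (BT.leaf c1_11)))) (BT.node 377 (BT.node 374 (BT.node 373 (BT.node 372 (BT.leaf c1_12) (BT.leaf c1_13)) (BT.leaf c1_14)) (BT.node 376 (BT.node 375 (BT.leaf c1_15) (BT.leaf c1_16)) (BT.leaf c1_17))) (BT.node 380 (BT.node 379 (BT.node 378 (BT.leaf c1_18) (BT.leaf c1_19)) (BT.leaf c1_20)) (BT.node 381 (BT.leaf c1_21) (BT.leaf c1_22))))) (BT.node 393 (BT.node 388 (BT.node 385 (BT.node 384 (BT.node 383 (BT.leaf c1_23) (BT.leaf c1_24)) (BT.leaf c1_25)) (BT.node 387 (BT.node 386 (BT.leaf c1_26) (BT.leaf c1_27)) (BT.leaf c1_28))) (BT.node 391 (BT.node 390 (BT.node 389 (BT.leaf c1_29) (BT.leaf c1_30)) (BT.leaf c1_31)) (BT.node 392 (BT.leaf c1_32) (BT.leaf c1_33)))) (BT.node 399 (BT.node 396 (BT.node 395 (BT.node 394 (BT.leaf c1_34) (BT.leaf c1_35)) (BT.leaf c1_36)) (BT.node 398 (BT.node 397 (BT.leaf c1_37) (BT.leaf c1_38)) (BT.leaf c1_39))) (BT.node 402 (BT.node 401 (BT.node 400 (BT.leaf c1_40) (BT.leaf c1_41)) (BT.leaf c1_42)) (BT.node 403 (BT.leaf c1_43) (BT.leaf c1_44)))))) (BT.node 427 (BT.node 416 (BT.node 410 (BT.node 407 (BT.node 406 (BT.node 405 (BT.leaf c1_45) (BT.leaf c1_46)) (BT.leaf c1_47)) (BT.node 409 (BT.node 408 (BT.leaf c1_48) (BT.leaf c1_49)) (BT.leaf c1_50))) (BT.node 413 (BT.node 412 (BT.node 411 (BT.leaf c1_51) (BT.leaf c1_52)) (BT.leaf c1_53)) (BT.node 415 (BT.node 414 (BT.leaf c1_54) (BT.leaf c1_55)) (BT.leaf c1_56)))) (BT.node 422 (BT.node 419 (BT.node 418 (BT.node 417 (BT.leaf c1_57) (BT.leaf c1_58)) (BT.leaf c1_59)) (BT.node 421 (BT.node 420 (BT.leaf c1_60) (BT.leaf c1_61)) (BT.leaf c1_62))) (BT.node 425 (BT.node 424 (BT.node 423 (BT.leaf c1_63) (BT.leaf c1_64)) (BT.leaf c1_65)) (BT.node 426 (BT.leaf c1_66) (BT.leaf c1_67))))) (BT.node 438 (BT.node 433 (BT.node 430 (BT.node 429 (BT.node 428 (BT.leaf c1_68) (BT.leaf c1_69)) (BT.leaf c1_70)) (BT.node 432 (BT.node 431 (BT.leaf c1_71) (BT.leaf c1_72)) (BT.leaf c1_73))) (BT.node 436 (BT.node 435 (BT.node 434 (BT.leaf c1_74) (BT.leaf c1_75)) (BT.leaf c1_76)) (BT.node 437 (BT.leaf c1_77) (BT.leaf c1_78)))) (BT.node 444 (BT.node 441 (BT.node 440 (BT.node 439 (BT.leaf c1_79) (BT.leaf c1_80)) (BT.leaf c1_81)) (BT.node 443 (BT.node 442 (BT.leaf c1_82) (BT.leaf c1_83)) (BT.leaf c1_84))) (BT.node 447 (BT.node 446 (BT.node 445 (BT.leaf c1_85) (BT.leaf c1_86)) (BT.leaf c1_87)) (BT.node 448 (BT.leaf c1_88) (BT.leaf c1_89))))))) (BT.node 494 (BT.node 472 (BT.node 461 (BT.node 455 (BT.node 452 (BT.node 451 (BT.node 450 (BT.leaf c1_90) (BT.leaf c1_91)) (BT.leaf c1_92)) (BT.node 454 (BT.node 453 (BT.leaf c1_93) (BT.leaf c1_94)) (BT.leaf c1_95))) (BT.node 458 (BT.node 457 (BT.node 456 (BT.leaf c1_96) (BT.leaf c1_97)) (BT.leaf c1_98)) (BT.node 460 (BT.node 459 (BT.leaf c1_99) (BT.leaf c1_100)) (BT.leaf c1_101)))) (BT.node 467 (BT.node 464 (BT.node 463 (BT.node 462 (BT.leaf c1_102) (BT.leaf c1_103)) (BT.leaf c1_104)) (BT.node 466 (BT.node 465 (BT.leaf c1_105) (BT.leaf c1_106)) (BT.leaf c1_107))) (BT.node 470 (BT.node 469 (BT.node 468 (BT.leaf c1_108) (BT.leaf c1_109)) (BT.leaf c1_110)) (BT.node 471 (BT.leaf c1_111) (BT.leaf c1_112))))) (BT.node 483 (BT.node 478 (BT.node 475 (BT.node 474 (BT.node 473 (BT.leaf c1_113) (BT.leaf c1_114)) (BT.leaf c1_115)) (BT.node 477 (BT.node 476 (BT.leaf c1_116) (BT.leaf c1_117)) (BT.leaf c1_118))) (BT.node 481 (BT.node 480 (BT.node 479 (BT.leaf c1_119) (BT.leaf c1_120)) (BT.leaf c1_121)) (BT.node 482 (BT.leaf c1_122) (BT.leaf c1_123)))) (BT.node 489 (BT.node 486 (BT.node 485 (BT.node 484 (BT.leaf c1_124) (BT.leaf c1_125)) (BT.leaf c1_126)) (BT.node 488 (BT.node 487 (BT.leaf c1_127) (BT.leaf c1_128)) (BT.leaf c1_129))) (BT.node 492 (BT.node 491 (BT.node 490 (BT.leaf c1_130) (BT.leaf c1_131)) (BT.leaf c1_132)) (BT.node 493 (BT.leaf c1_133) (BT.leaf c1_134)))))) (BT.node 517 (BT.node 506 (BT.node 500 (BT.node 497 (BT.node 496 (BT.node 495 (BT.leaf c1_135) (BT.leaf c1_136)) (BT.leaf c1_137)) (BT.node 499 (BT.node 498 (BT.leaf c1_138) (BT.leaf c1_139)) (BT.leaf c1_140))) (BT.node 503 (BT.node 502 (BT.node 501 (BT.leaf c1_141) (BT.leaf c1_142)) (BT.leaf c1_143)) (BT.node 505 (BT.node 504 (BT.leaf c1_144) (BT.leaf c1_145)) (BT.leaf c1_146)))) (BT.node 512 (BT.node 509 (BT.node 508 (BT.node 507 (BT.leaf c1_147) (BT.leaf c1_148)) (BT.leaf c1_149)) (BT.node 511 (BT.node 510 (BT.leaf c1_150) (BT.leaf c1_151)) (BT.leaf c1_152))) (BT.node 515 (BT.node 514 (BT.node 513 (BT.leaf c1_153) (BT.leaf c1_154)) (BT.leaf c1_155)) (BT.node 516 (BT.leaf c1_156) (BT.leaf c1_157))))) (BT.node 528 (BT.node 523 (BT.node 520 (BT.node 519 (BT.node 518 (BT.leaf c1_158) (BT.leaf c1_159)) (BT.leaf c1_160)) (BT.node 522 (BT.node 521 (BT.leaf c1_161) (BT.leaf c1_162)) (BT.leaf c1_163))) (BT.node 526 (BT.node 525 (BT.node 524 (BT.leaf c1_164) (BT.leaf c1_165)) (BT.leaf c1_166)) (BT.node 527 (BT.leaf c1_167) (BT.leaf c1_168)))) (BT.node 534 (BT.node 531 (BT.node 530 (BT.node 529 (BT.leaf c1_169) (BT.leaf c1_170)) (BT.leaf c1_171)) (BT.node 533 (BT.node 532 (BT.leaf c1_172) (BT.leaf c1_173)) (BT.leaf c1_174))) (BT.node 537 (BT.node 536 (BT.node 535 (BT.leaf c1_175) (BT.leaf c1_176)) (BT.leaf c1_177)) (BT.node 538 (BT.leaf c1_178) (BT.leaf c1_179)))))))) (BT.node 629 (BT.node 584 (BT.node 562 (BT.node 551 (BT.node 545 (BT.node 542 (BT.node 541 (BT.node 540 (BT.leaf c1_180) (BT.leaf c1_181)) (BT.leaf c1_182)) (BT.node 544 (BT.node 543 (BT.leaf c1_183) (BT.leaf c1_184)) (BT.leaf c1_185))) (BT.node 548 (BT.node 547 (BT.node 546 (BT.leaf c1_186) (BT.leaf c1_187)) (BT.leaf c1_188)) (BT.node 550 (BT.node 549 (BT.leaf c1_189) (BT.leaf c1_190)) (BT.leaf c1_191)))) (BT.node 557 (BT.node 554 (BT.node 553 (BT.node 552 (BT.leaf c1_192) (BT.leaf c1_193)) (BT.leaf c1_194)) (BT.node 556 (BT.node 555 (BT.leaf c1_195) (BT.leaf c1_196)) (BT.leaf c1_197))) (BT.node 560 (BT.node 559 (BT.node 558 (BT.leaf c1_198) (BT.leaf c1_199)) (BT.leaf c1_200)) (BT.node 561 (BT.leaf c1_201) (BT.leaf c1_202))))) (BT.node 573 (BT.node 568 (BT.node 565 (BT.node 564 (BT.node 563 (BT.leaf c1_203) (BT.leaf c1_204)) (BT.leaf c1_205)) (BT.node 567 (BT.node 566 (BT.leaf c1_206) (BT.leaf c1_207)) (BT.leaf c1_208))) (BT.node 571 (BT.node 570 (BT.node 569 (BT.leaf c1_209) (BT.leaf c1_210)) (BT.leaf c1_211)) (BT.node 572 (BT.leaf c1_212) (BT.leaf c1_213)))) (BT.node 579 (BT.node 576 (BT.node 575 (BT.node 574 (BT.leaf c1_214) (BT.leaf c1_215)) (BT.leaf c1_216)) (BT.node 578 (BT.node 577 (BT.leaf c1_217) (BT.leaf c1_218)) (BT.leaf c1_219))) (BT.node 582 (BT.node 581 (BT.node 580 (BT.leaf c1_220) (BT.leaf c1_221)) (BT.leaf c1_222)) (BT.node 583 (BT.leaf c1_223) (BT.leaf c1_224)))))) (BT.node 607 (BT.node 596 (BT.node 590 (BT.node 587 (BT.node 586 (BT.node 585 (BT.leaf c1_225) (BT.leaf c1_226)) (BT.leaf c1_227)) (BT.node 589 (BT.node 588 (BT.leaf c1_228) (BT.leaf c1_229)) (BT.leaf c1_230))) (BT.node 593 (BT.node 592 (BT.node 591 (BT.leaf c1_231) (BT.leaf c1_232)) (BT.leaf c1_233)) (BT.node 595 (BT.node 594 (BT.leaf c1_234) (BT.leaf c1_235)) (BT.leaf c1_236)))) (BT.node 602 (BT.node 599 (BT.node 598 (BT.node 597 (BT.leaf c1_237) (BT.leaf c1_238)) (BT.leaf c1_239)) (BT.node 601 (BT.node 600 (BT.leaf c1_240) (BT.leaf c1_241)) (BT.leaf c1_242))) (BT.node 605 (BT.node 604 (BT.node 603 (BT.leaf c1_243) (BT.leaf c1_244)) (BT.leaf c1_245)) (BT.node 606 (BT.leaf c1_246) (BT.leaf c1_247))))) (BT.node 618 (BT.node 613 (BT.node 610 (BT.node 609 (BT.node 608 (BT.leaf c1_248) (BT.leaf c1_249)) (BT.leaf c1_250)) (BT.node 612 (BT.node 611 (BT.leaf c1_251) (BT.leaf c1_252)) (BT.leaf c1_253))) (BT.node 616 (BT.node 615 (BT.node 614 (BT.leaf c1_254) (BT.leaf c1_255)) (BT.leaf c1_256)) (BT.node 617 (BT.leaf c1_257) (BT.leaf c1_258)))) (BT.node 624 (BT.node 621 (BT.node 620 (BT.node 619 (BT.leaf c1_259) (BT.leaf c1_260)) (BT.leaf c1_261)) (BT.node 623 (BT.node 622 (BT.leaf c1_262) (BT.leaf c1_263)) (BT.leaf c1_264))) (BT.node 627 (BT.node 626 (BT.node 625 (BT.leaf c1_265) (BT.leaf c1_266)) (BT.leaf c1_267)) (BT.node 628 (BT.leaf c1_268) (BT.leaf c1_269))))))) (BT.node 674 (BT.node 652 (BT.node 641 (BT.node 635 (BT.node 632 (BT.node 631 (BT.node 630 (BT.leaf c1_270) (BT.leaf c1_271)) (BT.leaf c1_272)) (BT.node 634 (BT.node 633 (BT.leaf c1_273) (BT.leaf c1_274)) (BT.leaf c1_275))) (BT.node 638 (BT.node 637 (BT.node 636 (BT.leaf c1_276) (BT.leaf c1_277)) (BT.leaf c1_278)) (BT.node 640 (BT.node 639 (BT.leaf c1_279) (BT.leaf c1_280)) (BT.leaf c1_281)))) (BT.node 647 (BT.node 644 (BT.node 643 (BT.node 642 (BT.leaf c1_282) (BT.leaf c1_283)) (BT.leaf c1_284)) (BT.node 646 (BT.node 645 (BT.leaf c1_285) (BT.leaf c1_286)) (BT.leaf c1_287))) (BT.node 650 (BT.node 649 (BT.node 648 (BT.leaf c1_288) (BT.leaf c1_289)) (BT.leaf c1_290)) (BT.node 651 (BT.leaf c1_291) (BT.leaf c1_292))))) (BT.node 663 (BT.node 658 (BT.node 655 (BT.node 654 (BT.node 653 (BT.leaf c1_293) (BT.leaf c1_294)) (BT.leaf c1_295)) (BT.node 657 (BT.node 656 (BT.leaf c1_296) (BT.leaf c1_297)) (BT.leaf c1_298))) (BT.node 661 (BT.node 660 (BT.node 659 (BT.leaf c1_299) (BT.leaf c1_300)) (BT.leaf c1_301)) (BT.node 662 (BT.leaf c1_302) (BT.leaf c1_303)))) (BT.node 669 (BT.node 666 (BT.node 665 (BT.node 664 (BT.leaf c1_304) (BT.leaf c1_305)) (BT.leaf c1_306)) (BT.node 668 (BT.node 667 (BT.leaf c1_307) (BT.leaf c1_308)) (BT.leaf c1_309))) (BT.node 672 (BT.node 671 (BT.node 670 (BT.leaf c1_310) (BT.leaf c1_311)) (BT.leaf c1_312)) (BT.node 673 (BT.leaf c1_313) (BT.leaf c1_314)))))) (BT.node 697 (BT.node 686 (BT.node 680 (BT.node 677 (BT.node 676 (BT.node 675 (BT.leaf c1_315) (BT.leaf c1_316)) (BT.leaf c1_317)) (BT.node 679 (BT.node 678 (BT.leaf c1_318) (BT.leaf c1_319)) (BT.leaf c1_320))) (BT.node 683 (BT.node 682 (BT.node 681 (BT.leaf c1_321) (BT.leaf c1_322)) (BT.leaf c1_323)) (BT.node 685 (BT.node 684 (BT.leaf c1_324) (BT.leaf c1_325)) (BT.leaf c1_326)))) (BT.node 692 (BT.node 689 (BT.node 688 (BT.node 687 (BT.leaf c1_327) (BT.leaf c1_328)) (BT.leaf c1_329)) (BT.node 691 (BT.node 690 (BT.leaf c1_330) (BT.leaf c1_331)) (BT.leaf c1_332))) (BT.node 695 (BT.node 694 (BT.node 693 (BT.leaf c1_333) (BT.leaf c1_334)) (BT.leaf c1_335)) (BT.node 696 (BT.leaf c1_336) (BT.leaf c1_337))))) (BT.node 708 (BT.node 703 (BT.node 700 (BT.node 699 (BT.node 698 (BT.leaf c1_338) (BT.leaf c1_339)) (BT.leaf c1_340)) (BT.node 702 (BT.node 701 (BT.leaf c1_341) (BT.leaf c1_342)) (BT.leaf c1_343))) (BT.node 706 (BT.node 705 (BT.node 704 (BT.leaf c1_344) (BT.leaf c1_345)) (BT.leaf c1_346)) (BT.node 707 (BT.leaf c1_347) (BT.leaf c1_348)))) (BT.node 714 (BT.node 711 (BT.node 710 (BT.node 709 (BT.leaf c1_349) (BT.leaf c1_350)) (BT.leaf c1_351)) (BT.node 713 (BT.node 712 (BT.leaf c1_352) (BT.leaf c1_353)) (BT.leaf c1_354))) (BT.node 717 (BT.node 716 (BT.node 715 (BT.leaf c1_355) (BT.leaf c1_356)) (BT.leaf c1_357)) (BT.node 718 (BT.leaf c1_358) (BT.leaf c1_359)))))))))) (BT.node 1079 (BT.node 899 (BT.node 809 (BT.node 764 (BT.node 742 (BT.node 731 (BT.node 725 (BT.node 722 (BT.node 721 (BT.node 720 (BT.leaf c2_0) (BT.leaf c2_1)) (BT.leaf c2_2)) (BT.node 724 (BT.node 723 (BT.leaf c2_3) (BT.leaf c2_4)) (BT.leaf c2_5))) (BT.node 728 (BT.node 727 (BT.node 726 (BT.leaf c2_6) (BT.leaf c2_7)) (BT.leaf c2_8)) (BT.node 730 (BT.node 729 (BT.leaf c2_9) (BT.leaf c2_10)) (BT.leaf c2_11)))) (BT.node 737 (BT.node 734 (BT.node 733 (BT.node 732 (BT.leaf c2_12) (BT.leaf c2_13)) (BT.leaf c2_14)) (BT.node 736 (BT.node 735 (BT.leaf c2_15) (BT.leaf c2_16)) (BT.leaf c2_17))) (BT.node 740 (BT.node 739 (BT.node 738 (BT.leaf c2_18) (BT.leaf c2_19)) (BT.leaf c2_20)) (BT.node 741 (BT.leaf c2_21) (BT.leaf c2_22))))) (BT.node 753 (BT.node 748 (BT.node 745 (BT.node 744 (BT.node 743 (BT.leaf c2_23) (BT.leaf c2_24)) (BT.leaf c2_25)) (BT.node 747 (BT.node 746 (BT.leaf c2_26) (BT.leaf c2_27)) (BT.leaf c2_28))) (BT.node 751 (BT.node 750 (BT.node 749 (BT.leaf c2_29) (BT.leaf c2_30)) (BT.leaf c2_31)) (BT.node 752 (BT.leaf c2_32) (BT.leaf c2_33)))) (BT.node 759 (BT.node 756 (BT.node 755 (BT.node 754 (BT.leaf c2_34) (BT.leaf c2_35)) (BT.leaf c2_36)) (BT.node 758 (BT.node 757 (BT.leaf c2_37) (BT.leaf c2_38)) (BT.leaf c2_39))) (BT.node 762 (BT.node 761 (BT.node 760 (BT.leaf c2_40) (BT.leaf c2_41)) (BT.leaf c2_42)) (BT.node 763 (BT.leaf c2_43) (BT.leaf c2_44)))))) (BT.node 787 (BT.node 776 (BT.node 770 (BT.node 767 (BT.node 766 (BT.node 765 (BT.leaf c2_45) (BT.leaf c2_46)) (BT.leaf c2_47)) (BT.node 769 (BT.node 768 (BT.leaf c2_48) (BT.leaf c2_49)) (BT.leaf c2_50))) (BT.node 773 (BT.node 772 (BT.node 771 (BT.leaf c2_51) (BT.leaf c2_52)) (BT.leaf c2_53)) (BT.node 775 (BT.node 774 (BT.leaf c2_54) (BT.leaf c2_55)) (BT.leaf c2_56)))) (BT.node 782 (BT.node 779 (BT.node 778 (BT.node 777 (BT.leaf c2_57) (BT.leaf c2_58)) (BT.leaf c2_59)) (BT.node 781 (BT.node 780 (BT.leaf c2_60) (BT.leaf c2_61)) (BT.leaf c2_62))) (BT.node 785 (BT.node 784 (BT.node 783 (BT.leaf c2_63) (BT.leaf c2_64)) (BT.leaf c2_65)) (BT.node 786 (BT.leaf c2_66) (BT.leaf c2_67))))) (BT.node 798 (BT.node 793 (BT.node 790 (BT.node 789 (BT.node 788 (BT.leaf c2_68) (BT.leaf c2_69)) (BT.leaf c2_70)) (BT.node 792 (BT.node 791 (BT.leaf c2_71) (BT.leaf c2_72)) (BT.leaf c2_73))) (BT.node 796 (BT.node 795 (BT.node 794 (BT.leaf c2_74) (BT.leaf c2_75)) (BT.leaf c2_76)) (BT.node 797 (BT.leaf c2_77) (BT.leaf c2_78)))) (BT.node 804 (BT.node 801 (BT.node 800 (BT.node 799 (BT.leaf c2_79) (BT.leaf c2_80)) (BT.leaf c2_81)) (BT.node 803 (BT.node 802 (BT.leaf c2_82) (BT.leaf c2_83)) (BT.leaf c2_84))) (BT.node 807 (BT.node 806 (BT.node 805 (BT.leaf c2_85) (BT.leaf c2_86)) (BT.leaf c2_87)) (BT.node 808 (BT.leaf c2_88) (BT.leaf c2_89))))))) (BT.node 854 (BT.node 832 (BT.node 821 (BT.node 815 (BT.node 812 (BT.node 811 (BT.node 810 (BT.leaf c2_90) (BT.leaf c2_91)) (BT.leaf c2_92)) (BT.node 814 (BT.node 813 (BT.leaf c2_93) (BT.leaf c2_94)) (BT.leaf c2_95))) (BT.node 818 (BT.node 817 (BT.node 816 (BT.leaf c2_96) (BT.leaf c2_97)) (BT.leaf c2_98)) (BT.node 820 (BT.node 819 (BT.leaf c2_99) (BT.leaf c2_100)) (BT.leaf c2_101)))) (BT.node 827 (BT.node 824 (BT.node 823 (BT.node 822 (BT.leaf c2_102) (BT.leaf c2_103)) (BT.leaf c2_104)) (BT.node 826 (BT.node 825 (BT.leaf c2_105) (BT.leaf c2_106)) (BT.leaf c2_107))) (BT.node 830 (BT.node 829 (BT.node 828 (BT.leaf c2_108) (BT.leaf c2_109)) (BT.leaf c2_110)) (BT.node 831 (BT.leaf c2_111) (BT.leaf c2_112))))) (BT.node 843 (BT.node 838 (BT.node 835 (BT.node 834 (BT.node 833 (BT.leaf c2_113) (BT.leaf c2_114)) (BT.leaf c2_115)) (BT.node 837 (BT.node 836 (BT.leaf c2_116) (BT.leaf c2_117)) (BT.leaf c2_118))) (BT.node 841 (BT.node 840 (BT.node 839 (BT.leaf c2_119) (BT.leaf c2_120)) (BT.leaf c2_121)) (BT.node 842 (BT.leaf c2_122) (BT.leaf c2_123)))) (BT.node 849 (BT.node 846 (BT.node 845 (BT.node 844 (BT.leaf c2_124) (BT.leaf c2_125)) (BT.leaf c2_126)) (BT.node 848 (BT.node 847 (BT.leaf c2_127) (BT.leaf c2_128)) (BT.leaf c2_129))) (BT.node 852 (BT.node 851 (BT.node 850 (BT.leaf c2_130) (BT.leaf c2_131)) (BT.leaf c2_132)) (BT.node 853 (BT.leaf c2_133) (BT.leaf c2_134)))))) (BT.node 877 (BT.node 866 (BT.node 860 (BT.node 857 (BT.node 856 (BT.node 855 (BT.leaf c2_135) (BT.leaf c2_136)) (BT.leaf c2_137)) (BT.node 859 (BT.node 858 (BT.leaf c2_138) (BT.leaf c2_139)) (BT.leaf c2_140))) (BT.node 863 (BT.node 862 (BT.node 861 (BT.leaf c2_141) (BT.leaf c2_142)) (BT.leaf c2_143)) (BT.node 865 (BT.node 864 (BT.leaf c2_144) (BT.leaf c2_145)) (BT.leaf c2_146)))) (BT.node 872 (BT.node 869 (BT.node 868 (BT.node 867 (BT.leaf c2_147) (BT.leaf c2_148)) (BT.leaf c2_149)) (BT.node 871 (BT.node 870 (BT.leaf c2_150) (BT.leaf c2_151)) (BT.leaf c2_152))) (BT.node 875 (BT.node 874 (BT.node 873 (BT.leaf c2_153) (BT.leaf c2_154)) (BT.leaf c2_155)) (BT.node 876 (BT.leaf c2_156) (BT.leaf c2_157))))) (BT.node 888 (BT.node 883 (BT.node 880 (BT.node 879 (BT.node 878 (BT.leaf c2_158) (BT.leaf c2_159)) (BT.leaf c2_160)) (BT.node 882 (BT.node 881 (BT.leaf c2_161) (BT.leaf c2_162)) (BT.leaf c2_163))) (BT.node 886 (BT.node 885 (BT.node 884 (BT.leaf c2_164) (BT.leaf c2_165)) (BT.leaf c2_166)) (BT.node 887 (BT.leaf c2_167) (BT.leaf c2_168)))) (BT.node 894 (BT.node 891 (BT.node 890 (BT.node 889 (BT.leaf c2_169) (BT.leaf c2_170)) (BT.leaf c2_171)) (BT.node 893 (BT.node 892 (BT.leaf c2_172) (BT.leaf c2_173)) (BT.leaf c2_174))) (BT.node 897 (BT.node 896 (BT.node 895 (BT.leaf c2_175) (BT.leaf c2_176)) (BT.leaf c2_177)) (BT.node 898 (BT.leaf c2_178) (BT.leaf c2_179)))))))) (BT.node 989 (BT.node 944 (BT.node 922 (BT.node 911 (BT.node 905 (BT.node 902 (BT.node 901 (BT.node 900 (BT.leaf c2_180) (BT.leaf c2_181)) (BT.leaf c2_182)) (BT.node 904 (BT.node 903 (BT.leaf c2_183) (BT.leaf c2_184)) (BT.leaf c2_185))) (BT.node 908 (BT.node 907 (BT.node 906 (BT.leaf c2_186) (BT.leaf c2_187)) (BT.leaf c2_188)) (BT.node 910 (BT.node 909 (BT.leaf c2_189) (BT.leaf c2_190)) (BT.leaf c2_191)))) (BT.node 917 (BT.node 914 (BT.node 913 (BT.node 912 (BT.leaf c2_192) (BT.leaf c2_193)) (BT.leaf c2_194)) (BT.node 916 (BT.node 915 (BT.leaf c2_195) (BT.leaf c2_196)) (BT.leaf c2_197))) (BT.node 920 (BT.node 919 (BT.node 918 (BT.leaf c2_198) (BT.leaf c2_199)) (BT.leaf c2_200)) (BT.node 921 (BT.leaf c2_201) (BT.leaf c2_202))))) (BT.node 933 (BT.node 928 (BT.node 925 (BT.node 924 (BT.node 923 (BT.leaf c2_203) (BT.leaf c2_204)) (BT.leaf c2_205)) (BT.node 927 (BT.node 926 (BT.leaf c2_206) (BT.leaf c2_207)) (BT.leaf c2_208))) (BT.node 931 (BT.node 930 (BT.node 929 (BT.leaf c2_209) (BT.leaf c2_210)) (BT.leaf c2_211)) (BT.node 932 (BT.leaf c2_212) (BT.leaf c2_213)))) (BT.node 939 (BT.node 936 (BT.node 935 (BT.node 934 (BT.leaf c2_214) (BT.leaf c2_215)) (BT.leaf c2_216)) (BT.node 938 (BT.node 937 (BT.leaf c2_217) (BT.leaf c2_218)) (BT.leaf c2_219))) (BT.node 942 (BT.node 941 (BT.node 940 (BT.leaf c2_220) (BT.leaf c2_221)) (BT.leaf c2_222)) (BT.node 943 (BT.leaf c2_223) (BT.leaf c2_224)))))) (BT.node 967 (BT.node 956 (BT.node 950 (BT.node 947 (BT.node 946 (BT.node 945 (BT.leaf c2_225) (BT.leaf c2_226)) (BT.leaf c2_227)) (BT.node 949 (BT.node 948 (BT.leaf c2_228) (BT.leaf c2_229)) (BT.leaf c2_230))) (BT.node 953 (BT.node 952 (BT.node 951 (BT.leaf c2_231) (BT.leaf c2_232)) (BT.leaf c2_233)) (BT.node 955 (BT.node 954 (BT.leaf c2_234) (BT.leaf c2_235)) (BT.leaf c2_236)))) (BT.node 962 (BT.node 959 (BT.node 958 (BT.node 957 (BT.leaf c2_237) (BT.leaf c2_238)) (BT.leaf c2_239)) (BT.node 961 (BT.node 960 (BT.leaf c2_240) (BT.leaf c2_241)) (BT.leaf c2_242))) (BT.node 965 (BT.node 964 (BT.node 963 (BT.leaf c2_243) (BT.leaf c2_244)) (BT.leaf c2_245)) (BT.node 966 (BT.leaf c2_246) (BT.leaf c2_247))))) (BT.node 978 (BT.node 973 (BT.node 970 (BT.node 969 (BT.node 968 (BT.leaf c2_248) (BT.leaf c2_249)) (BT.leaf c2_250)) (BT.node 972 (BT.node 971 (BT.leaf c2_251) (BT.leaf c2_252)) (BT.leaf c2_253))) (BT.node 976 (BT.node 975 (BT.node 974 (BT.leaf c2_254) (BT.leaf c2_255)) (BT.leaf c2_256)) (BT.node 977 (BT.leaf c2_257) (BT.leaf c2_258)))) (BT.node 984 (BT.node 981 (BT.node 980 (BT.node 979 (BT.leaf c2_259) (BT.leaf c2_260)) (BT.leaf c2_261)) (BT.node 983 (BT.node 982 (BT.leaf c2_262) (BT.leaf c2_263)) (BT.leaf c2_264))) (BT.node 987 (BT.node 986 (BT.node 985 (BT.leaf c2_265) (BT.leaf c2_266)) (BT.leaf c2_267)) (BT.node 988 (BT.leaf c2_268) (BT.leaf c2_269))))))) (BT.node 1034 (BT.node 1012 (BT.node 1001 (BT.node 995 (BT.node 992 (BT.node 991 (BT.node 990 (BT.leaf c2_270) (BT.leaf c2_271)) (BT.leaf c2_272)) (BT.node 994 (BT.node 993 (BT.leaf c2_273) (BT.leaf c2_274)) (BT.leaf c2_275))) (BT.node 998 (BT.node 997 (BT.node 996 (BT.leaf c2_276) (BT.leaf c2_277)) (BT.leaf c2_278)) (BT.node 1000 (BT.node 999 (BT.leaf c2_279) (BT.leaf c2_280)) (BT.leaf c2_281)))) (BT.node 1007 (BT.node 1004 (BT.node 1003 (BT.node 1002 (BT.leaf c2_282) (BT.leaf c2_283)) (BT.leaf c2_284)) (BT.node 1006 (BT.node 1005 (BT.leaf c2_285) (BT.leaf c2_286)) (BT.leaf c2_287))) (BT.node 1010 (BT.node 1009 (BT.node 1008 (BT.leaf c2_288) (BT.leaf c2_289)) (BT.leaf c2_290)) (BT.node 1011 (BT.leaf c2_291) (BT.leaf c2_292))))) (BT.node 1023 (BT.node 1018 (BT.node 1015 (BT.node 1014 (BT.node 1013 (BT.leaf c2_293) (BT.leaf c2_294)) (BT.leaf c2_295)) (BT.node 1017 (BT.node 1016 (BT.leaf c2_296) (BT.leaf c2_297)) (BT.leaf c2_298))) (BT.node 1021 (BT.node 1020 (BT.node 1019 (BT.leaf c2_299) (BT.leaf c2_300)) (BT.leaf c2_301)) (BT.node 1022 (BT.leaf c2_302) (BT.leaf c2_303)))) (BT.node 1029 (BT.node 1026 (BT.node 1025 (BT.node 1024 (BT.leaf c2_304) (BT.leaf c2_305)) (BT.leaf c2_306)) (BT.node 1028 (BT.node 1027 (BT.leaf c2_307) (BT.leaf c2_308)) (BT.leaf c2_309))) (BT.node 1032 (BT.node 1031 (BT.node 1030 (BT.leaf c2_310) (BT.leaf c2_311)) (BT.leaf c2_312)) (BT.node 1033 (BT.leaf c2_313) (BT.leaf c2_314)))))) (BT.node 1057 (BT.node 1046 (BT.node 1040 (BT.node 1037 (BT.node 1036 (BT.node 1035 (BT.leaf c2_315) (BT.leaf c2_316)) (BT.leaf c2_317)) (BT.node 1039 (BT.node 1038 (BT.leaf c2_318) (BT.leaf c2_319)) (BT.leaf c2_320))) (BT.node 1043 (BT.node 1042 (BT.node 1041 (BT.leaf c2_321) (BT.leaf c2_322)) (BT.leaf c2_323)) (BT.node 1045 (BT.node 1044 (BT.leaf c2_324) (BT.leaf c2_325)) (BT.leaf c2_326)))) (BT.node 1052 (BT.node 1049 (BT.node 1048 (BT.node 1047 (BT.leaf c2_327) (BT.leaf c2_328)) (BT.leaf c2_329)) (BT.node 1051 (BT.node 1050 (BT.leaf c2_330) (BT.leaf c2_331)) (BT.leaf c2_332))) (BT.node 1055 (BT.node 1054 (BT.node 1053 (BT.leaf c2_333) (BT.leaf c2_334)) (BT.leaf c2_335)) (BT.node 1056 (BT.leaf c2_336) (BT.leaf c2_337))))) (BT.node 1068 (BT.node 1063 (BT.node 1060 (BT.node 1059 (BT.node 1058 (BT.leaf c2_338) (BT.leaf c2_339)) (BT.leaf c2_340)) (BT.node 1062 (BT.node 1061 (BT.leaf c2_341) (BT.leaf c2_342)) (BT.leaf c2_343))) (BT.node 1066 (BT.node 1065 (BT.node 1064 (BT.leaf c2_344) (BT.leaf c2_345)) (BT.leaf c2_346)) (BT.node 1067 (BT.leaf c2_347) (BT.leaf c2_348)))) (BT.node 1074 (BT.node 1071 (BT.node 1070 (BT.node 1069 (BT.leaf c2_349) (BT.leaf c2_350)) (BT.leaf c2_351)) (BT.node 1073 (BT.node 1072 (BT.leaf c2_352) (BT.leaf c2_353)) (BT.leaf c2_354))) (BT.node 1077 (BT.node 1076 (BT.node 1075 (BT.leaf c2_355) (BT.leaf c2_356)) (BT.leaf c2_357)) (BT.node 1078 (BT.leaf c2_358) (BT.leaf c2_359))))))))) (BT.node 1259 (BT.node 1169 (BT.node 1124 (BT.node 1102 (BT.node 1091 (BT.node 1085 (BT.node 1082 (BT.node 1081 (BT.node 1080 (BT.leaf c2_0) (BT.leaf c2_1)) (BT.leaf c2_2)) (BT.node 1084 (BT.node 1083 (BT.leaf c2_3) (BT.leaf c2_4)) (BT.leaf c2_5))) (BT.node 1088 (BT.node 1087 (BT.node 1086 (BT.leaf c2_6) (BT.leaf c2_7)) (BT.leaf c2_8)) (BT.node 1090 (BT.node 1089 (BT.leaf c2_9) (BT.leaf c2_10)) (BT.leaf c2_11)))) (BT.node 1097 (BT.node 1094 (BT.node 1093 (BT.node 1092 (BT.leaf c2_12) (BT.leaf c2_13)) (BT.leaf c2_14)) (BT.node 1096 (BT.node 1095 (BT.leaf c2_15) (BT.leaf c2_16)) (BT.leaf c2_17))) (BT.node 1100 (BT.node 1099 (BT.node 1098 (BT.leaf c2_18) (BT.leaf c2_19)) (BT.leaf c2_20)) (BT.node 1101 (BT.leaf c2_21) (BT.leaf c2_22))))) (BT.node 1113 (BT.node 1108 (BT.node 1105 (BT.node 1104 (BT.node 1103 (BT.leaf c2_23) (BT.leaf c2_24)) (BT.leaf c2_25)) (BT.node 1107 (BT.node 1106 (BT.leaf c2_26) (BT.leaf c2_27)) (BT.leaf c2_28))) (BT.node 1111 (BT.node 1110 (BT.node 1109 (BT.leaf c2_29) (BT.leaf c2_30)) (BT.leaf c2_31)) (BT.node 1112 (BT.leaf c2_32) (BT.leaf c2_33)))) (BT.node 1119 (BT.node 1116 (BT.node 1115 (BT.node 1114 (BT.leaf c2_34) (BT.leaf c2_35)) (BT.leaf c2_36)) (BT.node 1118 (BT.node 1117 (BT.leaf c2_37) (BT.leaf c2_38)) (BT.leaf c2_39))) (BT.node 1122 (BT.node 1121 (BT.node 1120 (BT.leaf c2_40) (BT.leaf c2_41)) (BT.leaf c2_42)) (BT.node 1123 (BT.leaf c2_43) (BT.leaf c2_44)))))) (BT.node 1147 (BT.node 1136 (BT.node 1130 (BT.node 1127 (BT.node 1126 (BT.node 1125 (BT.leaf c2_45) (BT.leaf c2_46)) (BT.leaf c2_47)) (BT.node 1129 (BT.node 1128 (BT.leaf c2_48) (BT.leaf c2_49)) (BT.leaf c2_50))) (BT.node 1133 (BT.node 1132 (BT.node 1131 (BT.leaf c2_51) (BT.leaf c2_52)) (BT.leaf c2_53)) (BT.node 1135 (BT.node 1134 (BT.leaf c2_54) (BT.leaf c2_55)) (BT.leaf c2_56)))) (BT.node 1142 (BT.node 1139 (BT.node 1138 (BT.node 1137 (BT.leaf c2_57) (BT.leaf c2_58)) (BT.leaf c2_59)) (BT.node 1141 (BT.node 1140 (BT.leaf c2_60) (BT.leaf c2_61)) (BT.leaf c2_62))) (BT.node 1145 (BT.node 1144 (BT.node 1143 (BT.leaf c2_63) (BT.leaf c2_64)) (BT.leaf c2_65)) (BT.node 1146 (BT.leaf c2_66) (BT.leaf c2_67))))) (BT.node 1158 (BT.node 1153 (BT.node 1150 (BT.node 1149 (BT.node 1148 (BT.leaf c2_68) (BT.leaf c2_69)) (BT.leaf c2_70)) (BT.node 1152 (BT.node 1151 (BT.leaf c2_71) (BT.leaf c2_72)) (BT.leaf c2_73))) (BT.node 1156 (BT.node 1155 (BT.node 1154 (BT.leaf c2_74) (BT.leaf c2_75)) (BT.leaf c2_76)) (BT.node 1157 (BT.leaf c2_77) (BT.leaf c2_78)))) (BT.node 1164 (BT.node 1161 (BT.node 1160 (BT.node 1159 (BT.leaf c2_79) (BT.leaf c2_80)) (BT.leaf c2_81)) (BT.node 1163 (BT.node 1162 (BT.leaf c2_82) (BT.leaf c2_83)) (BT.leaf c2_84))) (BT.node 1167 (BT.node 1166 (BT.node 1165 (BT.leaf c2_85) (BT.leaf c2_86)) (BT.leaf c2_87)) (BT.node 1168 (BT.leaf c2_88) (BT.leaf c2_89))))))) (BT.node 1214 (BT.node 1192 (BT.node 1181 (BT.node 1175 (BT.node 1172 (BT.node 1171 (BT.node 1170 (BT.leaf c2_90) (BT.leaf c2_91)) (BT.leaf c2_92)) (BT.node 1174 (BT.node 1173 (BT.leaf c2_93) (BT.leaf c2_94)) (BT.leaf c2_95))) (BT.node 1178 (BT.node 1177 (BT.node 1176 (BT.leaf c2_96) (BT.leaf c2_97)) (BT.leaf c2_98)) (BT.node 1180 (BT.node 1179 (BT.leaf c2_99) (BT.leaf c2_100)) (BT.leaf c2_101)))) (BT.node 1187 (BT.node 1184 (BT.node 1183 (BT.node 1182 (BT.leaf c2_102) (BT.leaf c2_103)) (BT.leaf c2_104)) (BT.node 1186 (BT.node 1185 (BT.leaf c2_105) (BT.leaf c2_106)) (BT.leaf c2_107))) (BT.node 1190 (BT.node 1189 (BT.node 1188 (BT.leaf c2_108) (BT.leaf c2_109)) (BT.leaf c2_110)) (BT.node 1191 (BT.leaf c2_111) (BT.leaf c2_112))))) (BT.node 1203 (BT.node 1198 (BT.node 1195 (BT.node 1194 (BT.node 1193 (BT.leaf c2_113) (BT.leaf c2_114)) (BT.leaf c2_115)) (BT.node 1197 (BT.node 1196 (BT.leaf c2_116) (BT.leaf c2_117)) (BT.leaf c2_118))) (BT.node 1201 (BT.node 1200 (BT.node 1199 (BT.leaf c2_119) (BT.leaf c2_120)) (BT.leaf c2_121)) (BT.node 1202 (BT.leaf c2_122) (BT.leaf c2_123)))) (BT.node 1209 (BT.node 1206 (BT.node 1205 (BT.node 1204 (BT.leaf c2_124) (BT.leaf c2_125)) (BT.leaf c2_126)) (BT.node 1208 (BT.node 1207 (BT.leaf c2_127) (BT.leaf c2_128)) (BT.leaf c2_129))) (BT.node 1212 (BT.node 1211 (BT.node 1210 (BT.leaf c2_130) (BT.leaf c2_131)) (BT.leaf c2_132)) (BT.node 1213 (BT.leaf c2_133) (BT.leaf c2_134)))))) (BT.node 1237 (BT.node 1226 (BT.node 1220 (BT.node 1217 (BT.node 1216 (BT.node 1215 (BT.leaf c2_135) (BT.leaf c2_136)) (BT.leaf c2_137)) (BT.node 1219 (BT.node 1218 (BT.leaf c2_138) (BT.leaf c2_139)) (BT.leaf c2_140))) (BT.node 1223 (BT.node 1222 (BT.node 1221 (BT.leaf c2_141) (BT.leaf c2_142)) (BT.leaf c2_143)) (BT.node 1225 (BT.node 1224 (BT.leaf c2_144) (BT.leaf c2_145)) (BT.leaf c2_146)))) (BT.node 1232 (BT.node 1229 (BT.node 1228 (BT.node 1227 (BT.leaf c2_147) (BT.leaf c2_148)) (BT.leaf c2_149)) (BT.node 1231 (BT.node 1230 (BT.leaf c2_150) (BT.leaf c2_151)) (BT.leaf c2_152))) (BT.node 1235 (BT.node 1234 (BT.node 1233 (BT.leaf c2_153) (BT.leaf c2_154)) (BT.leaf c2_155)) (BT.node 1236 (BT.leaf c2_156) (BT.leaf c2_157))))) (BT.node 1248 (BT.node 1243 (BT.node 1240 (BT.node 1239 (BT.node 1238 (BT.leaf c2_158) (BT.leaf c2_159)) (BT.leaf c2_160)) (BT.node 1242 (BT.node 1241 (BT.leaf c2_161) (BT.leaf c2_162)) (BT.leaf c2_163))) (BT.node 1246 (BT.node 1245 (BT.node 1244 (BT.leaf c2_164) (BT.leaf c2_165)) (BT.leaf c2_166)) (BT.node 1247 (BT.leaf c2_167) (BT.leaf c2_168)))) (BT.node 1254 (BT.node 1251 (BT.node 1250 (BT.node 1249 (BT.leaf c2_169) (BT.leaf c2_170)) (BT.leaf c2_171)) (BT.node 1253 (BT.node 1252 (BT.leaf c2_172) (BT.leaf c2_173)) (BT.leaf c2_174))) (BT.node 1257 (BT.node 1256 (BT.node 1255 (BT.leaf c2_175) (BT.leaf c2_176)) (BT.leaf c2_177)) (BT.node 1258 (BT.leaf c2_178) (BT.leaf c2_179)))))))) (BT.node 1349 (BT.node 1304 (BT.node 1282 (BT.node 1271 (BT.node 1265 (BT.node 1262 (BT.node 1261 (BT.node 1260 (BT.leaf c2_180) (BT.leaf c2_181)) (BT.leaf c2_182)) (BT.node 1264 (BT.node 1263 (BT.leaf c2_183) (BT.leaf c2_184)) (BT.leaf c2_185))) (BT.node 1268 (BT.node 1267 (BT.node 1266 (BT.leaf c2_186) (BT.leaf c2_187)) (BT.leaf c2_188)) (BT.node 1270 (BT.node 1269 (BT.leaf c2_189) (BT.leaf c2_190)) (BT.leaf c2_191)))) (BT.node 1277 (BT.node 1274 (BT.node 1273 (BT.node 1272 (BT.leaf c2_192) (BT.leaf c2_193)) (BT.leaf c2_194)) (BT.node 1276 (BT.node 1275 (BT.leaf c2_195) (BT.leaf c2_196)) (BT.leaf c2_197))) (BT.node 1280 (BT.node 1279 (BT.node 1278 (BT.leaf c2_198) (BT.leaf c2_199)) (BT.leaf c2_200)) (BT.node 1281 (BT.leaf c2_201) (BT.leaf c2_202))))) (BT.node 1293 (BT.node 1288 (BT.node 1285 (BT.node 1284 (BT.node 1283 (BT.leaf c2_203) (BT.leaf c2_204)) (BT.leaf c2_205)) (BT.node 1287 (BT.node 1286 (BT.leaf c2_206) (BT.leaf c2_207)) (BT.leaf c2_208))) (BT.node 1291 (BT.node 1290 (BT.node 1289 (BT.leaf c2_209) (BT.leaf c2_210)) (BT.leaf c2_211)) (BT.node 1292 (BT.leaf c2_212) (BT.leaf c2_213)))) (BT.node 1299 (BT.node 1296 (BT.node 1295 (BT.node 1294 (BT.leaf c2_214) (BT.leaf c2_215)) (BT.leaf c2_216)) (BT.node 1298 (BT.node 1297 (BT.leaf c2_217) (BT.leaf c2_218)) (BT.leaf c2_219))) (BT.node 1302 (BT.node 1301 (BT.node 1300 (BT.leaf c2_220) (BT.leaf c2_221)) (BT.leaf c2_222)) (BT.node 1303 (BT.leaf c2_223) (BT.leaf c2_224)))))) (BT.node 1327 (BT.node 1316 (BT.node 1310 (BT.node 1307 (BT.node 1306 (BT.node 1305 (BT.leaf c2_225) (BT.leaf c2_226)) (BT.leaf c2_227)) (BT.node 1309 (BT.node 1308 (BT.leaf c2_228) (BT.leaf c2_229)) (BT.leaf c2_230))) (BT.node 1313 (BT.node 1312 (BT.node 1311 (BT.leaf c2_231) (BT.leaf c2_232)) (BT.leaf c2_233)) (BT.node 1315 (BT.node 1314 (BT.leaf c2_234) (BT.leaf c2_235)) (BT.leaf c2_236)))) (BT.node 1322 (BT.node 1319 (BT.node 1318 (BT.node 1317 (BT.leaf c2_237) (BT.leaf c2_238)) (BT.leaf c2_239)) (BT.node 1321 (BT.node 1320 (BT.leaf c2_240) (BT.leaf c2_241)) (BT.leaf c2_242))) (BT.node 1325 (BT.node 1324 (BT.node 1323 (BT.leaf c2_243) (BT.leaf c2_244)) (BT.leaf c2_245)) (BT.node 1326 (BT.leaf c2_246) (BT.leaf c2_247))))) (BT.node 1338 (BT.node 1333 (BT.node 1330 (BT.node 1329 (BT.node 1328 (BT.leaf c2_248) (BT.leaf c2_249)) (BT.leaf c2_250)) (BT.node 1332 (BT.node 1331 (BT.leaf c2_251) (BT.leaf c2_252)) (BT.leaf c2_253))) (BT.node 1336 (BT.node 1335 (BT.node 1334 (BT.leaf c2_254) (BT.leaf c2_255)) (BT.leaf c2_256)) (BT.node 1337 (BT.leaf c2_257) (BT.leaf c2_258)))) (BT.node 1344 (BT.node 1341 (BT.node 1340 (BT.node 1339 (BT.leaf c2_259) (BT.leaf c2_260)) (BT.leaf c2_261)) (BT.node 1343 (BT.node 1342 (BT.leaf c2_262) (BT.leaf c2_263)) (BT.leaf c2_264))) (BT.node 1347 (BT.node 1346 (BT.node 1345 (BT.leaf c2_265) (BT.leaf c2_266)) (BT.leaf c2_267)) (BT.node 1348 (BT.leaf c2_268) (BT.leaf c2_269))))))) (BT.node 1394 (BT.node 1372 (BT.node 1361 (BT.node 1355 (BT.node 1352 (BT.node 1351 (BT.node 1350 (BT.leaf c2_270) (BT.leaf c2_271)) (BT.leaf c2_272)) (BT.node 1354 (BT.node 1353 (BT.leaf c2_273) (BT.leaf c2_274)) (BT.leaf c2_275))) (BT.node 1358 (BT.node 1357 (BT.node 1356 (BT.leaf c2_276) (BT.leaf c2_277)) (BT.leaf c2_278)) (BT.node 1360 (BT.node 1359 (BT.leaf c2_279) (BT.leaf c2_280)) (BT.leaf c2_281)))) (BT.node 1367 (BT.node 1364 (BT.node 1363 (BT.node 1362 (BT.leaf c2_282) (BT.leaf c2_283)) (BT.leaf c2_284)) (BT.node 1366 (BT.node 1365 (BT.leaf c2_285) (BT.leaf c2_286)) (BT.leaf c2_287))) (BT.node 1370 (BT.node 1369 (BT.node 1368 (BT.leaf c2_288) (BT.leaf c2_289)) (BT.leaf c2_290)) (BT.node 1371 (BT.leaf c2_291) (BT.leaf c2_292))))) (BT.node 1383 (BT.node 1378 (BT.node 1375 (BT.node 1374 (BT.node 1373 (BT.leaf c2_293) (BT.leaf c2_294)) (BT.leaf c2_295)) (BT.node 1377 (BT.node 1376 (BT.leaf c2_296) (BT.leaf c2_297)) (BT.leaf c2_298))) (BT.node 1381 (BT.node 1380 (BT.node 1379 (BT.leaf c2_299) (BT.leaf c2_300)) (BT.leaf c2_301)) (BT.node 1382 (BT.leaf c2_302) (BT.leaf c2_303)))) (BT.node 1389 (BT.node 1386 (BT.node 1385 (BT.node 1384 (BT.leaf c2_304) (BT.leaf c2_305)) (BT.leaf c2_306)) (BT.node 1388 (BT.node 1387 (BT.leaf c2_307) (BT.leaf c2_308)) (BT.leaf c2_309))) (BT.node 1392 (BT.node 1391 (BT.node 1390 (BT.leaf c2_310) (BT.leaf c2_311)) (BT.leaf c2_312)) (BT.node 1393 (BT.leaf c2_313) (BT.leaf c2_314)))))) (BT.node 1417 (BT.node 1406 (BT.node 1400 (BT.node 1397 (BT.node 1396 (BT.node 1395 (BT.leaf c2_315) (BT.leaf c2_316)) (BT.leaf c2_317)) (BT.node 1399 (BT.node 1398 (BT.leaf c2_318) (BT.leaf c2_319)) (BT.leaf c2_320))) (BT.node 1403 (BT.node 1402 (BT.node 1401 (BT.leaf c2_321) (BT.leaf c2_322)) (BT.leaf c2_323)) (BT.node 1405 (BT.node 1404 (BT.leaf c2_324) (BT.leaf c2_325)) (BT.leaf c2_326)))) (BT.node 1412 (BT.node 1409 (BT.node 1408 (BT.node 1407 (BT.leaf c2_327) (BT.leaf c2_328)) (BT.leaf c2_329)) (BT.node 1411 (BT.node 1410 (BT.leaf c2_330) (BT.leaf c2_331)) (BT.leaf c2_332))) (BT.node 1415 (BT.node 1414 (BT.node 1413 (BT.leaf c2_333) (BT.leaf c2_334)) (BT.leaf c2_335)) (BT.node 1416 (BT.leaf c2_336) (BT.leaf c2_337))))) (BT.node 1428 (BT.node 1423 (BT.node 1420 (BT.node 1419 (BT.node 1418 (BT.leaf c2_338) (BT.leaf c2_339)) (BT.leaf c2_340)) (BT.node 1422 (BT.node 1421 (BT.leaf c2_341) (BT.leaf c2_342)) (BT.leaf c2_343))) (BT.node 1426 (BT.node 1425 (BT.node 1424 (BT.leaf c2_344) (BT.leaf c2_345)) (BT.leaf c2_346)) (BT.node 1427 (BT.leaf c2_347) (BT.leaf c2_348)))) (BT.node 1434 (BT.node 1431 (BT.node 1430 (BT.node 1429 (BT.leaf c2_349) (BT.leaf c2_350)) (BT.leaf c2_351)) (BT.node 1433 (BT.node 1432 (BT.leaf c2_352) (BT.leaf c2_353)) (BT.leaf c2_354))) (BT.node 1437 (BT.node 1436 (BT.node 1435 (BT.leaf c2_355) (BT.leaf c2_356)) (BT.leaf c2_357)) (BT.node 1438 (BT.leaf c2_358) (BT.leaf c2_359))))))))))) (BT.node 2159 (BT.node 1799 (BT.node 1619 (BT.node 1529 (BT.node 1484 (BT.node 1462 (BT.node 1451 (BT.node 1445 (BT.node 1442 (BT.node 1441 (BT.node 1440 (BT.leaf c3_0) (BT.leaf c3_1)) (BT.leaf c3_2)) (BT.node 1444 (BT.node 1443 (BT.leaf c3_3) (BT.leaf c3_4)) (BT.leaf c3_5))) (BT.node 1448 (BT.node 1447 (BT.node 1446 (BT.leaf c3_6) (BT.leaf c3_7)) (BT.leaf c3_8)) (BT.node 1450 (BT.node 1449 (BT.leaf c3_9) (BT.leaf c3_10)) (BT.leaf c3_11)))) (BT.node 1457 (BT.node 1454 (BT.node 1453 (BT.node 1452 (BT.leaf c3_12) (BT.leaf c3_13)) (BT.leaf c3_14)) (BT.node 1456 (BT.node 1455 (BT.leaf c3_15) (BT.leaf c3_16)) (BT.leaf c3_17))) (BT.node 1460 (BT.node 1459 (BT.node 1458 (BT.leaf c3_18) (BT.leaf c3_19)) (BT.leaf c3_20)) (BT.node 1461 (BT.leaf c3_21) (BT.leaf c3_22))))) (BT.node 1473 (BT.node 1468 (BT.node 1465 (BT.node 1464 (BT.node 1463 (BT.leaf c3_23) (BT.leaf c3_24)) (BT.leaf c3_25)) (BT.node 1467 (BT.node 1466 (BT.leaf c3_26) (BT.leaf c3_27)) (BT.leaf c3_28))) (BT.node 1471 (BT.node 1470 (BT.node 1469 (BT.leaf c3_29) (BT.leaf c3_30)) (BT.leaf c3_31)) (BT.node 1472 (BT.leaf c3_32) (BT.leaf c3_33)))) (BT.node 1479 (BT.node 1476 (BT.node 1475 (BT.node 1474 (BT.leaf c3_34) (BT.leaf c3_35)) (BT.leaf c3_36)) (BT.node 1478 (BT.node 1477 (BT.leaf c3_37) (BT.leaf c3_38)) (BT.leaf c3_39))) (BT.node 1482 (BT.node 1481 (BT.node 1480 (BT.leaf c3_40) (BT.leaf c3_41)) (BT.leaf c3_42)) (BT.node 1483 (BT.leaf c3_43) (BT.leaf c3_44)))))) (BT.node 1507 (BT.node 1496 (BT.node 1490 (BT.node 1487 (BT.node 1486 (BT.node 1485 (BT.leaf c3_45) (BT.leaf c3_46)) (BT.leaf c3_47)) (BT.node 1489 (BT.node 1488 (BT.leaf c3_48) (BT.leaf c3_49)) (BT.leaf c3_50))) (BT.node 1493 (BT.node 1492 (BT.node 1491 (BT.leaf c3_51) (BT.leaf c3_52)) (BT.leaf c3_53)) (BT.node 1495 (BT.node 1494 (BT.leaf c3_54) (BT.leaf c3_55)) (BT.leaf c3_56)))) (BT.node 1502 (BT.node 1499 (BT.node 1498 (BT.node 1497 (BT.leaf c3_57) (BT.leaf c3_58)) (BT.leaf c3_59)) (BT.node 1501 (BT.node 1500 (BT.leaf c3_60) (BT.leaf c3_61)) (BT.leaf c3_62))) (BT.node 1505 (BT.node 1504 (BT.node 1503 (BT.leaf c3_63) (BT.leaf c3_64)) (BT.leaf c3_65)) (BT.node 1506 (BT.leaf c3_66) (BT.leaf c3_67))))) (BT.node 1518 (BT.node 1513 (BT.node 1510 (BT.node 1509 (BT.node 1508 (BT.leaf c3_68) (BT.leaf c3_69)) (BT.leaf c3_70)) (BT.node 1512 (BT.node 1511 (BT.leaf c3_71) (BT.leaf c3_72)) (BT.leaf c3_73))) (BT.node 1516 (BT.node 1515 (BT.node 1514 (BT.leaf c3_74) (BT.leaf c3_75)) (BT.leaf c3_76)) (BT.node 1517 (BT.leaf c3_77) (BT.leaf c3_78)))) (BT.node 1524 (BT.node 1521 (BT.node 1520 (BT.node 1519 (BT.leaf c3_79) (BT.leaf c3_80)) (BT.leaf c3_81)) (BT.node 1523 (BT.node 1522 (BT.leaf c3_82) (BT.leaf c3_83)) (BT.leaf c3_84))) (BT.node 1527 (BT.node 1526 (BT.node 1525 (BT.leaf c3_85) (BT.leaf c3_86)) (BT.leaf c3_87)) (BT.node 1528 (BT.leaf c3_88) (BT.leaf c3_89))))))) (BT.node 1574 (BT.node 1552 (BT.node 1541 (BT.node 1535 (BT.node 1532 (BT.node 1531 (BT.node 1530 (BT.leaf c3_90) (BT.leaf c3_91)) (BT.leaf c3_92)) (BT.node 1534 (BT.node 1533 (BT.leaf c3_93) (BT.leaf c3_94)) (BT.leaf c3_95))) (BT.node 1538 (BT.node 1537 (BT.node 1536 (BT.leaf c3_96) (BT.leaf c3_97)) (BT.leaf c3_98)) (BT.node 1540 (BT.node 1539 (BT.leaf c3_99) (BT.leaf c3_100)) (BT.leaf c3_101)))) (BT.node 1547 (BT.node 1544 (BT.node 1543 (BT.node 1542 (BT.leaf c3_102) (BT.leaf c3_103)) (BT.leaf c3_104)) (BT.node 1546 (BT.node 1545 (BT.leaf c3_105) (BT.leaf c3_106)) (BT.leaf c3_107))) (BT.node 1550 (BT.node 1549 (BT.node 1548 (BT.leaf c3_108) (BT.leaf c3_109)) (BT.leaf c3_110)) (BT.node 1551 (BT.leaf c3_111) (BT.leaf c3_112))))) (BT.node 1563 (BT.node 1558 (BT.node 1555 (BT.node 1554 (BT.node 1553 (BT.leaf c3_113) (BT.leaf c3_114)) (BT.leaf c3_115)) (BT.node 1557 (BT.node 1556 (BT.leaf c3_116) (BT.leaf c3_117)) (BT.leaf c3_118))) (BT.node 1561 (BT.node 1560 (BT.node 1559 (BT.leaf c3_119) (BT.leaf c3_120)) (BT.leaf c3_121)) (BT.node 1562 (BT.leaf c3_122) (BT.leaf c3_123)))) (BT.node 1569 (BT.node 1566 (BT.node 1565 (BT.node 1564 (BT.leaf c3_124) (BT.leaf c3_125)) (BT.leaf c3_126)) (BT.node 1568 (BT.node 1567 (BT.leaf c3_127) (BT.leaf c3_128)) (BT.leaf c3_129))) (BT.node 1572 (BT.node 1571 (BT.node 1570 (BT.leaf c3_130) (BT.leaf c3_131)) (BT.leaf c3_132)) (BT.node 1573 (BT.leaf c3_133) (BT.leaf c3_134)))))) (BT.node 1597 (BT.node 1586 (BT.node 1580 (BT.node 1577 (BT.node 1576 (BT.node 1575 (BT.leaf c3_135) (BT.leaf c3_136)) (BT.leaf c3_137)) (BT.node 1579 (BT.node 1578 (BT.leaf c3_138) (BT.leaf c3_139)) (BT.leaf c3_140))) (BT.node 1583 (BT.node 1582 (BT.node 1581 (BT.leaf c3_141) (BT.leaf c3_142)) (BT.leaf c3_143)) (BT.node 1585 (BT.node 1584 (BT.leaf c3_144) (BT.leaf c3_145)) (BT.leaf c3_146)))) (BT.node 1592 (BT.node 1589 (BT.node 1588 (BT.node 1587 (BT.leaf c3_147) (BT.leaf c3_148)) (BT.leaf c3_149)) (BT.node 1591 (BT.node 1590 (BT.leaf c3_150) (BT.leaf c3_151)) (BT.leaf c3_152))) (BT.node 1595 (BT.node 1594 (BT.node 1593 (BT.leaf c3_153) (BT.leaf c3_154)) (BT.leaf c3_155)) (BT.node 1596 (BT.leaf c3_156) (BT.leaf c3_157))))) (BT.node 1608 (BT.node 1603 (BT.node 1600 (BT.node 1599 (BT.node 1598 (BT.leaf c3_158) (BT.leaf c3_159)) (BT.leaf c3_160)) (BT.node 1602 (BT.node 1601 (BT.leaf c3_161) (BT.leaf c3_162)) (BT.leaf c3_163))) (BT.node 1606 (BT.node 1605 (BT.node 1604 (BT.leaf c3_164) (BT.leaf c3_165)) (BT.leaf c3_166)) (BT.node 1607 (BT.leaf c3_167) (BT.leaf c3_168)))) (BT.node 1614 (BT.node 1611 (BT.node 1610 (BT.node 1609 (BT.leaf c3_169) (BT.leaf c3_170)) (BT.leaf c3_171)) (BT.node 1613 (BT.node 1612 (BT.leaf c3_172) (BT.leaf c3_173)) (BT.leaf c3_174))) (BT.node 1617 (BT.node 1616 (BT.node 1615 (BT.leaf c3_175) (BT.leaf c3_176)) (BT.leaf c3_177)) (BT.node 1618 (BT.leaf c3_178) (BT.leaf c3_179)))))))) (BT.node 1709 (BT.node 1664 (BT.node 1642 (BT.node 1631 (BT.node 1625 (BT.node 1622 (BT.node 1621 (BT.node 1620 (BT.leaf c3_180) (BT.leaf c3_181)) (BT.leaf c3_182)) (BT.node 1624 (BT.node 1623 (BT.leaf c3_183) (BT.leaf c3_184)) (BT.leaf c3_185))) (BT.node 1628 (BT.node 1627 (BT.node 1626 (BT.leaf c3_186) (BT.leaf c3_187)) (BT.leaf c3_188)) (BT.node 1630 (BT.node 1629 (BT.leaf c3_189) (BT.leaf c3_190)) (BT.leaf c3_191)))) (BT.node 1637 (BT.node 1634 (BT.node 1633 (BT.node 1632 (BT.leaf c3_192) (BT.leaf c3_193)) (BT.leaf c3_194)) (BT.node 1636 (BT.node 1635 (BT.leaf c3_195) (BT.leaf c3_196)) (BT.leaf c3_197))) (BT.node 1640 (BT.node 1639 (BT.node 1638 (BT.leaf c3_198) (BT.leaf c3_199)) (BT.leaf c3_200)) (BT.node 1641 (BT.leaf c3_201) (BT.leaf c3_202))))) (BT.node 1653 (BT.node 1648 (BT.node 1645 (BT.node 1644 (BT.node 1643 (BT.leaf c3_203) (BT.leaf c3_204)) (BT.leaf c3_205)) (BT.node 1647 (BT.node 1646 (BT.leaf c3_206) (BT.leaf c3_207)) (BT.leaf c3_208))) (BT.node 1651 (BT.node 1650 (BT.node 1649 (BT.leaf c3_209) (BT.leaf c3_210)) (BT.leaf c3_211)) (BT.node 1652 (BT.leaf c3_212) (BT.leaf c3_213)))) (BT.node 1659 (BT.node 1656 (BT.node 1655 (BT.node 1654 (BT.leaf c3_214) (BT.leaf c3_215)) (BT.leaf c3_216)) (BT.node 1658 (BT.node 1657 (BT.leaf c3_217) (BT.leaf c3_218)) (BT.leaf c3_219))) (BT.node 1662 (BT.node 1661 (BT.node 1660 (BT.leaf c3_220) (BT.leaf c3_221)) (BT.leaf c3_222)) (BT.node 1663 (BT.leaf c3_223) (BT.leaf c3_224)))))) (BT.node 1687 (BT.node 1676 (BT.node 1670 (BT.node 1667 (BT.node 1666 (BT.node 1665 (BT.leaf c3_225) (BT.leaf c3_226)) (BT.leaf c3_227)) (BT.node 1669 (BT.node 1668 (BT.leaf c3_228) (BT.leaf c3_229)) (BT.leaf c3_230))) (BT.node 1673 (BT.node 1672 (BT.node 1671 (BT.leaf c3_231) (BT.leaf c3_232)) (BT.leaf c3_233)) (BT.node 1675 (BT.node 1674 (BT.leaf c3_234) (BT.leaf c3_235)) (BT.leaf c3_236)))) (BT.node 1682 (BT.node 1679 (BT.node 1678 (BT.node 1677 (BT.leaf c3_237) (BT.leaf c3_238)) (BT.leaf c3_239)) (BT.node 1681 (BT.node 1680 (BT.leaf c3_240) (BT.leaf c3_241)) (BT.leaf c3_242))) (BT.node 1685 (BT.node 1684 (BT.node 1683 (BT.leaf c3_243) (BT.leaf c3_244)) (BT.leaf c3_245)) (BT.node 1686 (BT.leaf c3_246) (BT.leaf c3_247))))) (BT.node 1698 (BT.node 1693 (BT.node 1690 (BT.node 1689 (BT.node 1688 (BT.leaf c3_248) (BT.leaf c3_249)) (BT.leaf c3_250)) (BT.node 1692 (BT.node 1691 (BT.leaf c3_251) (BT.leaf c3_252)) (BT.leaf c3_253))) (BT.node 1696 (BT.node 1695 (BT.node 1694 (BT.leaf c3_254) (BT.leaf c3_255)) (BT.leaf c3_256)) (BT.node 1697 (BT.leaf c3_257) (BT.leaf c3_258)))) (BT.node 1704 (BT.node 1701 (BT.node 1700 (BT.node 1699 (BT.leaf c3_259) (BT.leaf c3_260)) (BT.leaf c3_261)) (BT.node 1703 (BT.node 1702 (BT.leaf c3_262) (BT.leaf c3_263)) (BT.leaf c3_264))) (BT.node 1707 (BT.node 1706 (BT.node 1705 (BT.leaf c3_265) (BT.leaf c3_266)) (BT.leaf c3_267)) (BT.node 1708 (BT.leaf c3_268) (BT.leaf c3_269))))))) (BT.node 1754 (BT.node 1732 (BT.node 1721 (BT.node 1715 (BT.node 1712 (BT.node 1711 (BT.node 1710 (BT.leaf c3_270) (BT.leaf c3_271)) (BT.leaf c3_272)) (BT.node 1714 (BT.node 1713 (BT.leaf c3_273) (BT.leaf c3_274)) (BT.leaf c3_275))) (BT.node 1718 (BT.node 1717 (BT.node 1716 (BT.leaf c3_276) (BT.leaf c3_277)) (BT.leaf c3_278)) (BT.node 1720 (BT.node 1719 (BT.leaf c3_279) (BT.leaf c3_280)) (BT.leaf c3_281)))) (BT.node 1727 (BT.node 1724 (BT.node 1723 (BT.node 1722 (BT.leaf c3_282) (BT.leaf c3_283)) (BT.leaf c3_284)) (BT.node 1726 (BT.node 1725 (BT.leaf c3_285) (BT.leaf c3_286)) (BT.leaf c3_287))) (BT.node 1730 (BT.node 1729 (BT.node 1728 (BT.leaf c3_288) (BT.leaf c3_289)) (BT.leaf c3_290)) (BT.node 1731 (BT.leaf c3_291) (BT.leaf c3_292))))) (BT.node 1743 (BT.node 1738 (BT.node 1735 (BT.node 1734 (BT.node 1733 (BT.leaf c3_293) (BT.leaf c3_294)) (BT.leaf c3_295)) (BT.node 1737 (BT.node 1736 (BT.leaf c3_296) (BT.leaf c3_297)) (BT.leaf c3_298))) (BT.node 1741 (BT.node 1740 (BT.node 1739 (BT.leaf c3_299) (BT.leaf c3_300)) (BT.leaf c3_301)) (BT.node 1742 (BT.leaf c3_302) (BT.leaf c3_303)))) (BT.node 1749 (BT.node 1746 (BT.node 1745 (BT.node 1744 (BT.leaf c3_304) (BT.leaf c3_305)) (BT.leaf c3_306)) (BT.node 1748 (BT.node 1747 (BT.leaf c3_307) (BT.leaf c3_308)) (BT.leaf c3_309))) (BT.node 1752 (BT.node 1751 (BT.node 1750 (BT.leaf c3_310) (BT.leaf c3_311)) (BT.leaf c3_312)) (BT.node 1753 (BT.leaf c3_313) (BT.leaf c3_314)))))) (BT.node 1777 (BT.node 1766 (BT.node 1760 (BT.node 1757 (BT.node 1756 (BT.node 1755 (BT.leaf c3_315) (BT.leaf c3_316)) (BT.leaf c3_317)) (BT.node 1759 (BT.node 1758 (BT.leaf c3_318) (BT.leaf c3_319)) (BT.leaf c3_320))) (BT.node 1763 (BT.node 1762 (BT.node 1761 (BT.leaf c3_321) (BT.leaf c3_322)) (BT.leaf c3_323)) (BT.node 1765 (BT.node 1764 (BT.leaf c3_324) (BT.leaf c3_325)) (BT.leaf c3_326)))) (BT.node 1772 (BT.node 1769 (BT.node 1768 (BT.node 1767 (BT.leaf c3_327) (BT.leaf c3_328)) (BT.leaf c3_329)) (BT.node 1771 (BT.node 1770 (BT.leaf c3_330) (BT.leaf c3_331)) (BT.leaf c3_332))) (BT.node 1775 (BT.node 1774 (BT.node 1773 (BT.leaf c3_333) (BT.leaf c3_334)) (BT.leaf c3_335)) (BT.node 1776 (BT.leaf c3_336) (BT.leaf c3_337))))) (BT.node 1788 (BT.node 1783 (BT.node 1780 (BT.node 1779 (BT.node 1778 (BT.leaf c3_338) (BT.leaf c3_339)) (BT.leaf c3_340)) (BT.node 1782 (BT.node 1781 (BT.leaf c3_341) (BT.leaf c3_342)) (BT.leaf c3_343))) (BT.node 1786 (BT.node 1785 (BT.node 1784 (BT.leaf c3_344) (BT.leaf c3_345)) (BT.leaf c3_346)) (BT.node 1787 (BT.leaf c3_347) (BT.leaf c3_348)))) (BT.node 1794 (BT.node 1791 (BT.node 1790 (BT.node 1789 (BT.leaf c3_349) (BT.leaf c3_350)) (BT.leaf c3_351)) (BT.node 1793 (BT.node 1792 (BT.leaf c3_352) (BT.leaf c3_353)) (BT.leaf c3_354))) (BT.node 1797 (BT.node 1796 (BT.node 1795 (BT.leaf c3_355) (BT.leaf c3_356)) (BT.leaf c3_357)) (BT.node 1798 (BT.leaf c3_358) (BT.leaf c3_359))))))))) (BT.node 1979 (BT.node 1889 (BT.node 1844 (BT.node 1822 (BT.node 1811 (BT.node 1805 (BT.node 1802 (BT.node 1801 (BT.node 1800 (BT.leaf c3_0) (BT.leaf c3_1)) (BT.leaf c3_2)) (BT.node 1804 (BT.node 1803 (BT.leaf c3_3) (BT.leaf c3_4)) (BT.leaf c3_5))) (BT.node 1808 (BT.node 1807 (BT.node 1806 (BT.leaf c3_6) (BT.leaf c3_7)) (BT.leaf c3_8)) (BT.node 1810 (BT.node 1809 (BT.leaf c3_9) (BT.leaf c3_10)) (BT.leaf c3_11)))) (BT.node 1817 (BT.node 1814 (BT.node 1813 (BT.node 1812 (BT.leaf c3_12) (BT.leaf c3_13)) (BT.leaf c3_14)) (BT.node 1816 (BT.node 1815 (BT.leaf c3_15) (BT.leaf c3_16)) (BT.leaf c3_17))) (BT.node 1820 (BT.node 1819 (BT.node 1818 (BT.leaf c3_18) (BT.leaf c3_19)) (BT.leaf c3_20)) (BT.node 1821 (BT.leaf c3_21) (BT.leaf c3_22))))) (BT.node 1833 (BT.node 1828 (BT.node 1825 (BT.node 1824 (BT.node 1823 (BT.leaf c3_23) (BT.leaf c3_24)) (BT.leaf c3_25)) (BT.node 1827 (BT.node 1826 (BT.leaf c3_26) (BT.leaf c3_27)) (BT.leaf c3_28))) (BT.node 1831 (BT.node 1830 (BT.node 1829 (BT.leaf c3_29) (BT.leaf c3_30)) (BT.leaf c3_31)) (BT.node 1832 (BT.leaf c3_32) (BT.leaf c3_33)))) (BT.node 1839 (BT.node 1836 (BT.node 1835 (BT.node 1834 (BT.leaf c3_34) (BT.leaf c3_35)) (BT.leaf c3_36)) (BT.node 1838 (BT.node 1837 (BT.leaf c3_37) (BT.leaf c3_38)) (BT.leaf c3_39))) (BT.node 1842 (BT.node 1841 (BT.node 1840 (BT.leaf c3_40) (BT.leaf c3_41)) (BT.leaf c3_42)) (BT.node 1843 (BT.leaf c3_43) (BT.leaf c3_44)))))) (BT.node 1867 (BT.node 1856 (BT.node 1850 (BT.node 1847 (BT.node 1846 (BT.node 1845 (BT.leaf c3_45) (BT.leaf c3_46)) (BT.leaf c3_47)) (BT.node 1849 (BT.node 1848 (BT.leaf c3_48) (BT.leaf c3_49)) (BT.leaf c3_50))) (BT.node 1853 (BT.node 1852 (BT.node 1851 (BT.leaf c3_51) (BT.leaf c3_52)) (BT.leaf c3_53)) (BT.node 1855 (BT.node 1854 (BT.leaf c3_54) (BT.leaf c3_55)) (BT.leaf c3_56)))) (BT.node 1862 (BT.node 1859 (BT.node 1858 (BT.node 1857 (BT.leaf c3_57) (BT.leaf c3_58)) (BT.leaf c3_59)) (BT.node 1861 (BT.node 1860 (BT.leaf c3_60) (BT.leaf c3_61)) (BT.leaf c3_62))) (BT.node 1865 (BT.node 1864 (BT.node 1863 (BT.leaf c3_63) (BT.leaf c3_64)) (BT.leaf c3_65)) (BT.node 1866 (BT.leaf c3_66) (BT.leaf c3_67))))) (BT.node 1878 (BT.node 1873 (BT.node 1870 (BT.node 1869 (BT.node 1868 (BT.leaf c3_68) (BT.leaf c3_69)) (BT.leaf c3_70)) (BT.node 1872 (BT.node 1871 (BT.leaf c3_71) (BT.leaf c3_72)) (BT.leaf c3_73))) (BT.node 1876 (BT.node 1875 (BT.node 1874 (BT.leaf c3_74) (BT.leaf c3_75)) (BT.leaf c3_76)) (BT.node 1877 (BT.leaf c3_77) (BT.leaf c3_78)))) (BT.node 1884 (BT.node 1881 (BT.node 1880 (BT.node 1879 (BT.leaf c3_79) (BT.leaf c3_80)) (BT.leaf c3_81)) (BT.node 1883 (BT.node 1882 (BT.leaf c3_82) (BT.leaf c3_83)) (BT.leaf c3_84))) (BT.node 1887 (BT.node 1886 (BT.node 1885 (BT.leaf c3_85) (BT.leaf c3_86)) (BT.leaf c3_87)) (BT.node 1888 (BT.leaf c3_88) (BT.leaf c3_89))))))) (BT.node 1934 (BT.node 1912 (BT.node 1901 (BT.node 1895 (BT.node 1892 (BT.node 1891 (BT.node 1890 (BT.leaf c3_90) (BT.leaf c3_91)) (BT.leaf c3_92)) (BT.node 1894 (BT.node 1893 (BT.leaf c3_93) (BT.leaf c3_94)) (BT.leaf c3_95))) (BT.node 1898 (BT.node 1897 (BT.node 1896 (BT.leaf c3_96) (BT.leaf c3_97)) (BT.leaf c3_98)) (BT.node 1900 (BT.node 1899 (BT.leaf c3_99) (BT.leaf c3_100)) (BT.leaf c3_101)))) (BT.node 1907 (BT.node 1904 (BT.node 1903 (BT.node 1902 (BT.leaf c3_102) (BT.leaf c3_103)) (BT.leaf c3_104)) (BT.node 1906 (BT.node 1905 (BT.leaf c3_105) (BT.leaf c3_106)) (BT.leaf c3_107))) (BT.node 1910 (BT.node 1909 (BT.node 1908 (BT.leaf c3_108) (BT.leaf c3_109)) (BT.leaf c3_110)) (BT.node 1911 (BT.leaf c3_111) (BT.leaf c3_112))))) (BT.node 1923 (BT.node 1918 (BT.node 1915 (BT.node 1914 (BT.node 1913 (BT.leaf c3_113) (BT.leaf c3_114)) (BT.leaf c3_115)) (BT.node 1917 (BT.node 1916 (BT.leaf c3_116) (BT.leaf c3_117)) (BT.leaf c3_118))) (BT.node 1921 (BT.node 1920 (BT.node 1919 (BT.leaf c3_119) (BT.leaf c3_120)) (BT.leaf c3_121)) (BT.node 1922 (BT.leaf c3_122) (BT.leaf c3_123)))) (BT.node 1929 (BT.node 1926 (BT.node 1925 (BT.node 1924 (BT.leaf c3_124) (BT.leaf c3_125)) (BT.leaf c3_126)) (BT.node 1928 (BT.node 1927 (BT.leaf c3_127) (BT.leaf c3_128)) (BT.leaf c3_129))) (BT.node 1932 (BT.node 1931 (BT.node 1930 (BT.leaf c3_130) (BT.leaf c3_131)) (BT.leaf c3_132)) (BT.node 1933 (BT.leaf c3_133) (BT.leaf c3_134)))))) (BT.node 1957 (BT.node 1946 (BT.node 1940 (BT.node 1937 (BT.node 1936 (BT.node 1935 (BT.leaf c3_135) (BT.leaf c3_136)) (BT.leaf c3_137)) (BT.node 1939 (BT.node 1938 (BT.leaf c3_138) (BT.leaf c3_139)) (BT.leaf c3_140))) (BT.node 1943 (BT.node 1942 (BT.node 1941 (BT.leaf c3_141) (BT.leaf c3_142)) (BT.leaf c3_143)) (BT.node 1945 (BT.node 1944 (BT.leaf c3_144) (BT.leaf c3_145)) (BT.leaf c3_146)))) (BT.node 1952 (BT.node 1949 (BT.node 1948 (BT.node 1947 (BT.leaf c3_147) (BT.leaf c3_148)) (BT.leaf c3_149)) (BT.node 1951 (BT.node 1950 (BT.leaf c3_150) (BT.leaf c3_151)) (BT.leaf c3_152))) (BT.node 1955 (BT.node 1954 (BT.node 1953 (BT.leaf c3_153) (BT.leaf c3_154)) (BT.leaf c3_155)) (BT.node 1956 (BT.leaf c3_156) (BT.leaf c3_157))))) (BT.node 1968 (BT.node 1963 (BT.node 1960 (BT.node 1959 (BT.node 1958 (BT.leaf c3_158) (BT.leaf c3_159)) (BT.leaf c3_160)) (BT.node 1962 (BT.node 1961 (BT.leaf c3_161) (BT.leaf c3_162)) (BT.leaf c3_163))) (BT.node 1966 (BT.node 1965 (BT.node 1964 (BT.leaf c3_164) (BT.leaf c3_165)) (BT.leaf c3_166)) (BT.node 1967 (BT.leaf c3_167) (BT.leaf c3_168)))) (BT.node 1974 (BT.node 1971 (BT.node 1970 (BT.node 1969 (BT.leaf c3_169) (BT.leaf c3_170)) (BT.leaf c3_171)) (BT.node 1973 (BT.node 1972 (BT.leaf c3_172) (BT.leaf c3_173)) (BT.leaf c3_174))) (BT.node 1977 (BT.node 1976 (BT.node 1975 (BT.leaf c3_175) (BT.leaf c3_176)) (BT.leaf c3_177)) (BT.node 1978 (BT.leaf c3_178) (BT.leaf c3_179)))))))) (BT.node 2069 (BT.node 2024 (BT.node 2002 (BT.node 1991 (BT.node 1985 (BT.node 1982 (BT.node 1981 (BT.node 1980 (BT.leaf c3_180) (BT.leaf c3_181)) (BT.leaf c3_182)) (BT.node 1984 (BT.node 1983 (BT.leaf c3_183) (BT.leaf c3_184)) (BT.leaf c3_185))) (BT.node 1988 (BT.node 1987 (BT.node 1986 (BT.leaf c3_186) (BT.leaf c3_187)) (BT.leaf c3_188)) (BT.node 1990 (BT.node 1989 (BT.leaf c3_189) (BT.leaf c3_190)) (BT.leaf c3_191)))) (BT.node 1997 (BT.node 1994 (BT.node 1993 (BT.node 1992 (BT.leaf c3_192) (BT.leaf c3_193)) (BT.leaf c3_194)) (BT.node 1996 (BT.node 1995 (BT.leaf c3_195) (BT.leaf c3_196)) (BT.leaf c3_197))) (BT.node 2000 (BT.node 1999 (BT.node 1998 (BT.leaf c3_198) (BT.leaf c3_199)) (BT.leaf c3_200)) (BT.node 2001 (BT.leaf c3_201) (BT.leaf c3_202))))) (BT.node 2013 (BT.node 2008 (BT.node 2005 (BT.node 2004 (BT.node 2003 (BT.leaf c3_203) (BT.leaf c3_204)) (BT.leaf c3_205)) (BT.node 2007 (BT.node 2006 (BT.leaf c3_206) (BT.leaf c3_207)) (BT.leaf c3_208))) (BT.node 2011 (BT.node 2010 (BT.node 2009 (BT.leaf c3_209) (BT.leaf c3_210)) (BT.leaf c3_211)) (BT.node 2012 (BT.leaf c3_212) (BT.leaf c3_213)))) (BT.node 2019 (BT.node 2016 (BT.node 2015 (BT.node 2014 (BT.leaf c3_214) (BT.leaf c3_215)) (BT.leaf c3_216)) (BT.node 2018 (BT.node 2017 (BT.leaf c3_217) (BT.leaf c3_218)) (BT.leaf c3_219))) (BT.node 2022 (BT.node 2021 (BT.node 2020 (BT.leaf c3_220) (BT.leaf c3_221)) (BT.leaf c3_222)) (BT.node 2023 (BT.leaf c3_223) (BT.leaf c3_224)))))) (BT.node 2047 (BT.node 2036 (BT.node 2030 (BT.node 2027 (BT.node 2026 (BT.node 2025 (BT.leaf c3_225) (BT.leaf c3_226)) (BT.leaf c3_227)) (BT.node 2029 (BT.node 2028 (BT.leaf c3_228) (BT.leaf c3_229)) (BT.leaf c3_230))) (BT.node 2033 (BT.node 2032 (BT.node 2031 (BT.leaf c3_231) (BT.leaf c3_232)) (BT.leaf c3_233)) (BT.node 2035 (BT.node 2034 (BT.leaf c3_234) (BT.leaf c3_235)) (BT.leaf c3_236)))) (BT.node 2042 (BT.node 2039 (BT.node 2038 (BT.node 2037 (BT.leaf c3_237) (BT.leaf c3_238)) (BT.leaf c3_239)) (BT.node 2041 (BT.node 2040 (BT.leaf c3_240) (BT.leaf c3_241)) (BT.leaf c3_242))) (BT.node 2045 (BT.node 2044 (BT.node 2043 (BT.leaf c3_243) (BT.leaf c3_244)) (BT.leaf c3_245)) (BT.node 2046 (BT.leaf c3_246) (BT.leaf c3_247))))) (BT.node 2058 (BT.node 2053 (BT.node 2050 (BT.node 2049 (BT.node 2048 (BT.leaf c3_248) (BT.leaf c3_249)) (BT.leaf c3_250)) (BT.node 2052 (BT.node 2051 (BT.leaf c3_251) (BT.leaf c3_252)) (BT.leaf c3_253))) (BT.node 2056 (BT.node 2055 (BT.node 2054 (BT.leaf c3_254) (BT.leaf c3_255)) (BT.leaf c3_256)) (BT.node 2057 (BT.leaf c3_257) (BT.leaf c3_258)))) (BT.node 2064 (BT.node 2061 (BT.node 2060 (BT.node 2059 (BT.leaf c3_259) (BT.leaf c3_260)) (BT.leaf c3_261)) (BT.node 2063 (BT.node 2062 (BT.leaf c3_262) (BT.leaf c3_263)) (BT.leaf c3_264))) (BT.node 2067 (BT.node 2066 (BT.node 2065 (BT.leaf c3_265) (BT.leaf c3_266)) (BT.leaf c3_267)) (BT.node 2068 (BT.leaf c3_268) (BT.leaf c3_269))))))) (BT.node 2114 (BT.node 2092 (BT.node 2081 (BT.node 2075 (BT.node 2072 (BT.node 2071 (BT.node 2070 (BT.leaf c3_270) (BT.leaf c3_271)) (BT.leaf c3_272)) (BT.node 2074 (BT.node 2073 (BT.leaf c3_273) (BT.leaf c3_274)) (BT.leaf c3_275))) (BT.node 2078 (BT.node 2077 (BT.node 2076 (BT.leaf c3_276) (BT.leaf c3_277)) (BT.leaf c3_278)) (BT.node 2080 (BT.node 2079 (BT.leaf c3_279) (BT.leaf c3_280)) (BT.leaf c3_281)))) (BT.node 2087 (BT.node 2084 (BT.node 2083 (BT.node 2082 (BT.leaf c3_282) (BT.leaf c3_283)) (BT.leaf c3_284)) (BT.node 2086 (BT.node 2085 (BT.leaf c3_285) (BT.leaf c3_286)) (BT.leaf c3_287))) (BT.node 2090 (BT.node 2089 (BT.node 2088 (BT.leaf c3_288) (BT.leaf c3_289)) (BT.leaf c3_290)) (BT.node 2091 (BT.leaf c3_291) (BT.leaf c3_292))))) (BT.node 2103 (BT.node 2098 (BT.node 2095 (BT.node 2094 (BT.node 2093 (BT.leaf c3_293) (BT.leaf c3_294)) (BT.leaf c3_295)) (BT.node 2097 (BT.node 2096 (BT.leaf c3_296) (BT.leaf c3_297)) (BT.leaf c3_298))) (BT.node 2101 (BT.node 2100 (BT.node 2099 (BT.leaf c3_299) (BT.leaf c3_300)) (BT.leaf c3_301)) (BT.node 2102 (BT.leaf c3_302) (BT.leaf c3_303)))) (BT.node 2109 (BT.node 2106 (BT.node 2105 (BT.node 2104 (BT.leaf c3_304) (BT.leaf c3_305)) (BT.leaf c3_306)) (BT.node 2108 (BT.node 2107 (BT.leaf c3_307) (BT.leaf c3_308)) (BT.leaf c3_309))) (BT.node 2112 (BT.node 2111 (BT.node 2110 (BT.leaf c3_310) (BT.leaf c3_311)) (BT.leaf c3_312)) (BT.node 2113 (BT.leaf c3_313) (BT.leaf c3_314)))))) (BT.node 2137 (BT.node 2126 (BT.node 2120 (BT.node 2117 (BT.node 2116 (BT.node 2115 (BT.leaf c3_315) (BT.leaf c3_316)) (BT.leaf c3_317)) (BT.node 2119 (BT.node 2118 (BT.leaf c3_318) (BT.leaf c3_319)) (BT.leaf c3_320))) (BT.node 2123 (BT.node 2122 (BT.node 2121 (BT.leaf c3_321) (BT.leaf c3_322)) (BT.leaf c3_323)) (BT.node 2125 (BT.node 2124 (BT.leaf c3_324) (BT.leaf c3_325)) (BT.leaf c3_326)))) (BT.node 2132 (BT.node 2129 (BT.node 2128 (BT.node 2127 (BT.leaf c3_327) (BT.leaf c3_328)) (BT.leaf c3_329)) (BT.node 2131 (BT.node 2130 (BT.leaf c3_330) (BT.leaf c3_331)) (BT.leaf c3_332))) (BT.node 2135 (BT.node 2134 (BT.node 2133 (BT.leaf c3_333) (BT.leaf c3_334)) (BT.leaf c3_335)) (BT.node 2136 (BT.leaf c3_336) (BT.leaf c3_337))))) (BT.node 2148 (BT.node 2143 (BT.node 2140 (BT.node 2139 (BT.node 2138 (BT.leaf c3_338) (BT.leaf c3_339)) (BT.leaf c3_340)) (BT.node 2142 (BT.node 2141 (BT.leaf c3_341) (BT.leaf c3_342)) (BT.leaf c3_343))) (BT.node 2146 (BT.node 2145 (BT.node 2144 (BT.leaf c3_344) (BT.leaf c3_345)) (BT.leaf c3_346)) (BT.node 2147 (BT.leaf c3_347) (BT.leaf c3_348)))) (BT.node 2154 (BT.node 2151 (BT.node 2150 (BT.node 2149 (BT.leaf c3_349) (BT.leaf c3_350)) (BT.leaf c3_351)) (BT.node 2153 (BT.node 2152 (BT.leaf c3_352) (BT.leaf c3_353)) (BT.leaf c3_354))) (BT.node 2157 (BT.node 2156 (BT.node 2155 (BT.leaf c3_355) (BT.leaf c3_356)) (BT.leaf c3_357)) (BT.node 2158 (BT.leaf c3_358) (BT.leaf c3_359)))))))))) (BT.node 2519 (BT.node 2339 (BT.node 2249 (BT.node 2204 (BT.node 2182 (BT.node 2171 (BT.node 2165 (BT.node 2162 (BT.node 2161 (BT.node 2160 (BT.leaf c4_0) (BT.leaf c4_1)) (BT.leaf c4_2)) (BT.node 2164 (BT.node 2163 (BT.leaf c4_3) (BT.leaf c4_4)) (BT.leaf c4_5))) (BT.node 2168 (BT.node 2167 (BT.node 2166 (BT.leaf c4_6) (BT.leaf c4_7)) (BT.leaf c4_8)) (BT.node 2170 (BT.node 2169 (BT.leaf c4_9) (BT.leaf c4_10)) (BT.leaf c4_11)))) (BT.node 2177 (BT.node 2174 (BT.node 2173 (BT.node 2172 (BT.leaf c4_12) (BT.leaf c4_13)) (BT.leaf c4_14)) (BT.node 2176 (BT.node 2175 (BT.leaf c4_15) (BT.leaf c4_16)) (BT.leaf c4_17))) (BT.node 2180 (BT.node 2179 (BT.node 2178 (BT.leaf c4_18) (BT.leaf c4_19)) (BT.leaf c4_20)) (BT.node 2181 (BT.leaf c4_21) (BT.leaf c4_22))))) (BT.node 2193 (BT.node 2188 (BT.node 2185 (BT.node 2184 (BT.node 2183 (BT.leaf c4_23) (BT.leaf c4_24)) (BT.leaf c4_25)) (BT.node 2187 (BT.node 2186 (BT.leaf c4_26) (BT.leaf c4_27)) (BT.leaf c4_28))) (BT.node 2191 (BT.node 2190 (BT.node 2189 (BT.leaf c4_29) (BT.leaf c4_30)) (BT.leaf c4_31)) (BT.node 2192 (BT.leaf c4_32) (BT.leaf c4_33)))) (BT.node 2199 (BT.node 2196 (BT.node 2195 (BT.node 2194 (BT.leaf c4_34) (BT.leaf c4_35)) (BT.leaf c4_36)) (BT.node 2198 (BT.node 2197 (BT.leaf c4_37) (BT.leaf c4_38)) (BT.leaf c4_39))) (BT.node 2202 (BT.node 2201 (BT.node 2200 (BT.leaf c4_40) (BT.leaf c4_41)) (BT.leaf c4_42)) (BT.node 2203 (BT.leaf c4_43) (BT.leaf c4_44)))))) (BT.node 2227 (BT.node 2216 (BT.node 2210 (BT.node 2207 (BT.node 2206 (BT.node 2205 (BT.leaf c4_45) (BT.leaf c4_46)) (BT.leaf c4_47)) (BT.node 2209 (BT.node 2208 (BT.leaf c4_48) (BT.leaf c4_49)) (BT.leaf c4_50))) (BT.node 2213 (BT.node 2212 (BT.node 2211 (BT.leaf c4_51) (BT.leaf c4_52)) (BT.leaf c4_53)) (BT.node 2215 (BT.node 2214 (BT.leaf c4_54) (BT.leaf c4_55)) (BT.leaf c4_56)))) (BT.node 2222 (BT.node 2219 (BT.node 2218 (BT.node 2217 (BT.leaf c4_57) (BT.leaf c4_58)) (BT.leaf c4_59)) (BT.node 2221 (BT.node 2220 (BT.leaf c4_60) (BT.leaf c4_61)) (BT.leaf c4_62))) (BT.node 2225 (BT.node 2224 (BT.node 2223 (BT.leaf c4_63) (BT.leaf c4_64)) (BT.leaf c4_65)) (BT.node 2226 (BT.leaf c4_66) (BT.leaf c4_67))))) (BT.node 2238 (BT.node 2233 (BT.node 2230 (BT.node 2229 (BT.node 2228 (BT.leaf c4_68) (BT.leaf c4_69)) (BT.leaf c4_70)) (BT.node 2232 (BT.node 2231 (BT.leaf c4_71) (BT.leaf c4_72)) (BT.leaf c4_73))) (BT.node 2236 (BT.node 2235 (BT.node 2234 (BT.leaf c4_74) (BT.leaf c4_75)) (BT.leaf c4_76)) (BT.node 2237 (BT.leaf c4_77) (BT.leaf c4_78)))) (BT.node 2244 (BT.node 2241 (BT.node 2240 (BT.node 2239 (BT.leaf c4_79) (BT.leaf c4_80)) (BT.leaf c4_81)) (BT.node 2243 (BT.node 2242 (BT.leaf c4_82) (BT.leaf c4_83)) (BT.leaf c4_84))) (BT.node 2247 (BT.node 2246 (BT.node 2245 (BT.leaf c4_85) (BT.leaf c4_86)) (BT.leaf c4_87)) (BT.node 2248 (BT.leaf c4_88) (BT.leaf c4_89))))))) (BT.node 2294 (BT.node 2272 (BT.node 2261 (BT.node 2255 (BT.node 2252 (BT.node 2251 (BT.node 2250 (BT.leaf c4_90) (BT.leaf c4_91)) (BT.leaf c4_92)) (BT.node 2254 (BT.node 2253 (BT.leaf c4_93) (BT.leaf c4_94)) (BT.leaf c4_95))) (BT.node 2258 (BT.node 2257 (BT.node 2256 (BT.leaf c4_96) (BT.leaf c4_97)) (BT.leaf c4_98)) (BT.node 2260 (BT.node 2259 (BT.leaf c4_99) (BT.leaf c4_100)) (BT.leaf c4_101)))) (BT.node 2267 (BT.node 2264 (BT.node 2263 (BT.node 2262 (BT.leaf c4_102) (BT.leaf c4_103)) (BT.leaf c4_104)) (BT.node 2266 (BT.node 2265 (BT.leaf c4_105) (BT.leaf c4_106)) (BT.leaf c4_107))) (BT.node 2270 (BT.node 2269 (BT.node 2268 (BT.leaf c4_108) (BT.leaf c4_109)) (BT.leaf c4_110)) (BT.node 2271 (BT.leaf c4_111) (BT.leaf c4_112))))) (BT.node 2283 (BT.node 2278 (BT.node 2275 (BT.node 2274 (BT.node 2273 (BT.leaf c4_113) (BT.leaf c4_114)) (BT.leaf c4_115)) (BT.node 2277 (BT.node 2276 (BT.leaf c4_116) (BT.leaf c4_117)) (BT.leaf c4_118))) (BT.node 2281 (BT.node 2280 (BT.node 2279 (BT.leaf c4_119) (BT.leaf c4_120)) (BT.leaf c4_121)) (BT.node 2282 (BT.leaf c4_122) (BT.leaf c4_123)))) (BT.node 2289 (BT.node 2286 (BT.node 2285 (BT.node 2284 (BT.leaf c4_124) (BT.leaf c4_125)) (BT.leaf c4_126)) (BT.node 2288 (BT.node 2287 (BT.leaf c4_127) (BT.leaf c4_128)) (BT.leaf c4_129))) (BT.node 2292 (BT.node 2291 (BT.node 2290 (BT.leaf c4_130) (BT.leaf c4_131)) (BT.leaf c4_132)) (BT.node 2293 (BT.leaf c4_133) (BT.leaf c4_134)))))) (BT.node 2317 (BT.node 2306 (BT.node 2300 (BT.node 2297 (BT.node 2296 (BT.node 2295 (BT.leaf c4_135) (BT.leaf c4_136)) (BT.leaf c4_137)) (BT.node 2299 (BT.node 2298 (BT.leaf c4_138) (BT.leaf c4_139)) (BT.leaf c4_140))) (BT.node 2303 (BT.node 2302 (BT.node 2301 (BT.leaf c4_141) (BT.leaf c4_142)) (BT.leaf c4_143)) (BT.node 2305 (BT.node 2304 (BT.leaf c4_144) (BT.leaf c4_145)) (BT.leaf c4_146)))) (BT.node 2312 (BT.node 2309 (BT.node 2308 (BT.node 2307 (BT.leaf c4_147) (BT.leaf c4_148)) (BT.leaf c4_149)) (BT.node 2311 (BT.node 2310 (BT.leaf c4_150) (BT.leaf c4_151)) (BT.leaf c4_152))) (BT.node 2315 (BT.node 2314 (BT.node 2313 (BT.leaf c4_153) (BT.leaf c4_154)) (BT.leaf c4_155)) (BT.node 2316 (BT.leaf c4_156) (BT.leaf c4_157))))) (BT.node 2328 (BT.node 2323 (BT.node 2320 (BT.node 2319 (BT.node 2318 (BT.leaf c4_158) (BT.leaf c4_159)) (BT.leaf c4_160)) (BT.node 2322 (BT.node 2321 (BT.leaf c4_161) (BT.leaf c4_162)) (BT.leaf c4_163))) (BT.node 2326 (BT.node 2325 (BT.node 2324 (BT.leaf c4_164) (BT.leaf c4_165)) (BT.leaf c4_166)) (BT.node 2327 (BT.leaf c4_167) (BT.leaf c4_168)))) (BT.node 2334 (BT.node 2331 (BT.node 2330 (BT.node 2329 (BT.leaf c4_169) (BT.leaf c4_170)) (BT.leaf c4_171)) (BT.node 2333 (BT.node 2332 (BT.leaf c4_172) (BT.leaf c4_173)) (BT.leaf c4_174))) (BT.node 2337 (BT.node 2336 (BT.node 2335 (BT.leaf c4_175) (BT.leaf c4_176)) (BT.leaf c4_177)) (BT.node 2338 (BT.leaf c4_178) (BT.leaf c4_179)))))))) (BT.node 2429 (BT.node 2384 (BT.node 2362 (BT.node 2351 (BT.node 2345 (BT.node 2342 (BT.node 2341 (BT.node 2340 (BT.leaf c4_180) (BT.leaf c4_181)) (BT.leaf c4_182)) (BT.node 2344 (BT.node 2343 (BT.leaf c4_183) (BT.leaf c4_184)) (BT.leaf c4_185))) (BT.node 2348 (BT.node 2347 (BT.node 2346 (BT.leaf c4_186) (BT.leaf c4_187)) (BT.leaf c4_188)) (BT.node 2350 (BT.node 2349 (BT.leaf c4_189) (BT.leaf c4_190)) (BT.leaf c4_191)))) (BT.node 2357 (BT.node 2354 (BT.node 2353 (BT.node 2352 (BT.leaf c4_192) (BT.leaf c4_193)) (BT.leaf c4_194)) (BT.node 2356 (BT.node 2355 (BT.leaf c4_195) (BT.leaf c4_196)) (BT.leaf c4_197))) (BT.node 2360 (BT.node 2359 (BT.node 2358 (BT.leaf c4_198) (BT.leaf c4_199)) (BT.leaf c4_200)) (BT.node 2361 (BT.leaf c4_201) (BT.leaf c4_202))))) (BT.node 2373 (BT.node 2368 (BT.node 2365 (BT.node 2364 (BT.node 2363 (BT.leaf c4_203) (BT.leaf c4_204)) (BT.leaf c4_205)) (BT.node 2367 (BT.node 2366 (BT.leaf c4_206) (BT.leaf c4_207)) (BT.leaf c4_208))) (BT.node 2371 (BT.node 2370 (BT.node 2369 (BT.leaf c4_209) (BT.leaf c4_210)) (BT.leaf c4_211)) (BT.node 2372 (BT.leaf c4_212) (BT.leaf c4_213)))) (BT.node 2379 (BT.node 2376 (BT.node 2375 (BT.node 2374 (BT.leaf c4_214) (BT.leaf c4_215)) (BT.leaf c4_216)) (BT.node 2378 (BT.node 2377 (BT.leaf c4_217) (BT.leaf c4_218)) (BT.leaf c4_219))) (BT.node 2382 (BT.node 2381 (BT.node 2380 (BT.leaf c4_220) (BT.leaf c4_221)) (BT.leaf c4_222)) (BT.node 2383 (BT.leaf c4_223) (BT.leaf c4_224)))))) (BT.node 2407 (BT.node 2396 (BT.node 2390 (BT.node 2387 (BT.node 2386 (BT.node 2385 (BT.leaf c4_225) (BT.leaf c4_226)) (BT.leaf c4_227)) (BT.node 2389 (BT.node 2388 (BT.leaf c4_228) (BT.leaf c4_229)) (BT.leaf c4_230))) (BT.node 2393 (BT.node 2392 (BT.node 2391 (BT.leaf c4_231) (BT.leaf c4_232)) (BT.leaf c4_233)) (BT.node 2395 (BT.node 2394 (BT.leaf c4_234) (BT.leaf c4_235)) (BT.leaf c4_236)))) (BT.node 2402 (BT.node 2399 (BT.node 2398 (BT.node 2397 (BT.leaf c4_237) (BT.leaf c4_238)) (BT.leaf c4_239)) (BT.node 2401 (BT.node 2400 (BT.leaf c4_240) (BT.leaf c4_241)) (BT.leaf c4_242))) (BT.node 2405 (BT.node 2404 (BT.node 2403 (BT.leaf c4_243) (BT.leaf c4_244)) (BT.leaf c4_245)) (BT.node 2406 (BT.leaf c4_246) (BT.leaf c4_247))))) (BT.node 2418 (BT.node 2413 (BT.node 2410 (BT.node 2409 (BT.node 2408 (BT.leaf c4_248) (BT.leaf c4_249)) (BT.leaf c4_250)) (BT.node 2412 (BT.node 2411 (BT.leaf c4_251) (BT.leaf c4_252)) (BT.leaf c4_253))) (BT.node 2416 (BT.node 2415 (BT.node 2414 (BT.leaf c4_254) (BT.leaf c4_255)) (BT.leaf c4_256)) (BT.node 2417 (BT.leaf c4_257) (BT.leaf c4_258)))) (BT.node 2424 (BT.node 2421 (BT.node 2420 (BT.node 2419 (BT.leaf c4_259) (BT.leaf c4_260)) (BT.leaf c4_261)) (BT.node 2423 (BT.node 2422 (BT.leaf c4_262) (BT.leaf c4_263)) (BT.leaf c4_264))) (BT.node 2427 (BT.node 2426 (BT.node 2425 (BT.leaf c4_265) (BT.leaf c4_266)) (BT.leaf c4_267)) (BT.node 2428 (BT.leaf c4_268) (BT.leaf c4_269))))))) (BT.node 2474 (BT.node 2452 (BT.node 2441 (BT.node 2435 (BT.node 2432 (BT.node 2431 (BT.node 2430 (BT.leaf c4_270) (BT.leaf c4_271)) (BT.leaf c4_272)) (BT.node 2434 (BT.node 2433 (BT.leaf c4_273) (BT.leaf c4_274)) (BT.leaf c4_275))) (BT.node 2438 (BT.node 2437 (BT.node 2436 (BT.leaf c4_276) (BT.leaf c4_277)) (BT.leaf c4_278)) (BT.node 2440 (BT.node 2439 (BT.leaf c4_279) (BT.leaf c4_280)) (BT.leaf c4_281)))) (BT.node 2447 (BT.node 2444 (BT.node 2443 (BT.node 2442 (BT.leaf c4_282) (BT.leaf c4_283)) (BT.leaf c4_284)) (BT.node 2446 (BT.node 2445 (BT.leaf c4_285) (BT.leaf c4_286)) (BT.leaf c4_287))) (BT.node 2450 (BT.node 2449 (BT.node 2448 (BT.leaf c4_288) (BT.leaf c4_289)) (BT.leaf c4_290)) (BT.node 2451 (BT.leaf c4_291) (BT.leaf c4_292))))) (BT.node 2463 (BT.node 2458 (BT.node 2455 (BT.node 2454 (BT.node 2453 (BT.leaf c4_293) (BT.leaf c4_294)) (BT.leaf c4_295)) (BT.node 2457 (BT.node 2456 (BT.leaf c4_296) (BT.leaf c4_297)) (BT.leaf c4_298))) (BT.node 2461 (BT.node 2460 (BT.node 2459 (BT.leaf c4_299) (BT.leaf c4_300)) (BT.leaf c4_301)) (BT.node 2462 (BT.leaf c4_302) (BT.leaf c4_303)))) (BT.node 2469 (BT.node 2466 (BT.node 2465 (BT.node 2464 (BT.leaf c4_304) (BT.leaf c4_305)) (BT.leaf c4_306)) (BT.node 2468 (BT.node 2467 (BT.leaf c4_307) (BT.leaf c4_308)) (BT.leaf c4_309))) (BT.node 2472 (BT.node 2471 (BT.node 2470 (BT.leaf c4_310) (BT.leaf c4_311)) (BT.leaf c4_312)) (BT.node 2473 (BT.leaf c4_313) (BT.leaf c4_314)))))) (BT.node 2497 (BT.node 2486 (BT.node 2480 (BT.node 2477 (BT.node 2476 (BT.node 2475 (BT.leaf c4_315) (BT.leaf c4_316)) (BT.leaf c4_317)) (BT.node 2479 (BT.node 2478 (BT.leaf c4_318) (BT.leaf c4_319)) (BT.leaf c4_320))) (BT.node 2483 (BT.node 2482 (BT.node 2481 (BT.leaf c4_321) (BT.leaf c4_322)) (BT.leaf c4_323)) (BT.node 2485 (BT.node 2484 (BT.leaf c4_324) (BT.leaf c4_325)) (BT.leaf c4_326)))) (BT.node 2492 (BT.node 2489 (BT.node 2488 (BT.node 2487 (BT.leaf c4_327) (BT.leaf c4_328)) (BT.leaf c4_329)) (BT.node 2491 (BT.node 2490 (BT.leaf c4_330) (BT.leaf c4_331)) (BT.leaf c4_332))) (BT.node 2495 (BT.node 2494 (BT.node 2493 (BT.leaf c4_333) (BT.leaf c4_334)) (BT.leaf c4_335)) (BT.node 2496 (BT.leaf c4_336) (BT.leaf c4_337))))) (BT.node 2508 (BT.node 2503 (BT.node 2500 (BT.node 2499 (BT.node 2498 (BT.leaf c4_338) (BT.leaf c4_339)) (BT.leaf c4_340)) (BT.node 2502 (BT.node 2501 (BT.leaf c4_341) (BT.leaf c4_342)) (BT.leaf c4_343))) (BT.node 2506 (BT.node 2505 (BT.node 2504 (BT.leaf c4_344) (BT.leaf c4_345)) (BT.leaf c4_346)) (BT.node 2507 (BT.leaf c4_347) (BT.leaf c4_348)))) (BT.node 2514 (BT.node 2511 (BT.node 2510 (BT.node 2509 (BT.leaf c4_349) (BT.leaf c4_350)) (BT.leaf c4_351)) (BT.node 2513 (BT.node 2512 (BT.leaf c4_352) (BT.leaf c4_353)) (BT.leaf c4_354))) (BT.node 2517 (BT.node 2516 (BT.node 2515 (BT.leaf c4_355) (BT.leaf c4_356)) (BT.leaf c4_357)) (BT.node 2518 (BT.leaf c4_358) (BT.leaf c4_359))))))))) (BT.node 2699 (BT.node 2609 (BT.node 2564 (BT.node 2542 (BT.node 2531 (BT.node 2525 (BT.node 2522 (BT.node 2521 (BT.node 2520 (BT.leaf c4_0) (BT.leaf c4_1)) (BT.leaf c4_2)) (BT.node 2524 (BT.node 2523 (BT.leaf c4_3) (BT.leaf c4_4)) (BT.leaf c4_5))) (BT.node 2528 (BT.node 2527 (BT.node 2526 (BT.leaf c4_6) (BT.leaf c4_7)) (BT.leaf c4_8)) (BT.node 2530 (BT.node 2529 (BT.leaf c4_9) (BT.leaf c4_10)) (BT.leaf c4_11)))) (BT.node 2537 (BT.node 2534 (BT.node 2533 (BT.node 2532 (BT.leaf c4_12) (BT.leaf c4_13)) (BT.leaf c4_14)) (BT.node 2536 (BT.node 2535 (BT.leaf c4_15) (BT.leaf c4_16)) (BT.leaf c4_17))) (BT.node 2540 (BT.node 2539 (BT.node 2538 (BT.leaf c4_18) (BT.leaf c4_19)) (BT.leaf c4_20)) (BT.node 2541 (BT.leaf c4_21) (BT.leaf c4_22))))) (BT.node 2553 (BT.node 2548 (BT.node 2545 (BT.node 2544 (BT.node 2543 (BT.leaf c4_23) (BT.leaf c4_24)) (BT.leaf c4_25)) (BT.node 2547 (BT.node 2546 (BT.leaf c4_26) (BT.leaf c4_27)) (BT.leaf c4_28))) (BT.node 2551 (BT.node 2550 (BT.node 2549 (BT.leaf c4_29) (BT.leaf c4_30)) (BT.leaf c4_31)) (BT.node 2552 (BT.leaf c4_32) (BT.leaf c4_33)))) (BT.node 2559 (BT.node 2556 (BT.node 2555 (BT.node 2554 (BT.leaf c4_34) (BT.leaf c4_35)) (BT.leaf c4_36)) (BT.node 2558 (BT.node 2557 (BT.leaf c4_37) (BT.leaf c4_38)) (BT.leaf c4_39))) (BT.node 2562 (BT.node 2561 (BT.node 2560 (BT.leaf c4_40) (BT.leaf c4_41)) (BT.leaf c4_42)) (BT.node 2563 (BT.leaf c4_43) (BT.leaf c4_44)))))) (BT.node 2587 (BT.node 2576 (BT.node 2570 (BT.node 2567 (BT.node 2566 (BT.node 2565 (BT.leaf c4_45) (BT.leaf c4_46)) (BT.leaf c4_47)) (BT.node 2569 (BT.node 2568 (BT.leaf c4_48) (BT.leaf c4_49)) (BT.leaf c4_50))) (BT.node 2573 (BT.node 2572 (BT.node 2571 (BT.leaf c4_51) (BT.leaf c4_52)) (BT.leaf c4_53)) (BT.node 2575 (BT.node 2574 (BT.leaf c4_54) (BT.leaf c4_55)) (BT.leaf c4_56)))) (BT.node 2582 (BT.node 2579 (BT.node 2578 (BT.node 2577 (BT.leaf c4_57) (BT.leaf c4_58)) (BT.leaf c4_59)) (BT.node 2581 (BT.node 2580 (BT.leaf c4_60) (BT.leaf c4_61)) (BT.leaf c4_62))) (BT.node 2585 (BT.node 2584 (BT.node 2583 (BT.leaf c4_63) (BT.leaf c4_64)) (BT.leaf c4_65)) (BT.node 2586 (BT.leaf c4_66) (BT.leaf c4_67))))) (BT.node 2598 (BT.node 2593 (BT.node 2590 (BT.node 2589 (BT.node 2588 (BT.leaf c4_68) (BT.leaf c4_69)) (BT.leaf c4_70)) (BT.node 2592 (BT.node 2591 (BT.leaf c4_71) (BT.leaf c4_72)) (BT.leaf c4_73))) (BT.node 2596 (BT.node 2595 (BT.node 2594 (BT.leaf c4_74) (BT.leaf c4_75)) (BT.leaf c4_76)) (BT.node 2597 (BT.leaf c4_77) (BT.leaf c4_78)))) (BT.node 2604 (BT.node 2601 (BT.node 2600 (BT.node 2599 (BT.leaf c4_79) (BT.leaf c4_80)) (BT.leaf c4_81)) (BT.node 2603 (BT.node 2602 (BT.leaf c4_82) (BT.leaf c4_83)) (BT.leaf c4_84))) (BT.node 2607 (BT.node 2606 (BT.node 2605 (BT.leaf c4_85) (BT.leaf c4_86)) (BT.leaf c4_87)) (BT.node 2608 (BT.leaf c4_88) (BT.leaf c4_89))))))) (BT.node 2654 (BT.node 2632 (BT.node 2621 (BT.node 2615 (BT.node 2612 (BT.node 2611 (BT.node 2610 (BT.leaf c4_90) (BT.leaf c4_91)) (BT.leaf c4_92)) (BT.node 2614 (BT.node 2613 (BT.leaf c4_93) (BT.leaf c4_94)) (BT.leaf c4_95))) (BT.node 2618 (BT.node 2617 (BT.node 2616 (BT.leaf c4_96) (BT.leaf c4_97)) (BT.leaf c4_98)) (BT.node 2620 (BT.node 2619 (BT.leaf c4_99) (BT.leaf c4_100)) (BT.leaf c4_101)))) (BT.node 2627 (BT.node 2624 (BT.node 2623 (BT.node 2622 (BT.leaf c4_102) (BT.leaf c4_103)) (BT.leaf c4_104)) (BT.node 2626 (BT.node 2625 (BT.leaf c4_105) (BT.leaf c4_106)) (BT.leaf c4_107))) (BT.node 2630 (BT.node 2629 (BT.node 2628 (BT.leaf c4_108) (BT.leaf c4_109)) (BT.leaf c4_110)) (BT.node 2631 (BT.leaf c4_111) (BT.leaf c4_112))))) (BT.node 2643 (BT.node 2638 (BT.node 2635 (BT.node 2634 (BT.node 2633 (BT.leaf c4_113) (BT.leaf c4_114)) (BT.leaf c4_115)) (BT.node 2637 (BT.node 2636 (BT.leaf c4_116) (BT.leaf c4_117)) (BT.leaf c4_118))) (BT.node 2641 (BT.node 2640 (BT.node 2639 (BT.leaf c4_119) (BT.leaf c4_120)) (BT.leaf c4_121)) (BT.node 2642 (BT.leaf c4_122) (BT.leaf c4_123)))) (BT.node 2649 (BT.node 2646 (BT.node 2645 (BT.node 2644 (BT.leaf c4_124) (BT.leaf c4_125)) (BT.leaf c4_126)) (BT.node 2648 (BT.node 2647 (BT.leaf c4_127) (BT.leaf c4_128)) (BT.leaf c4_129))) (BT.node 2652 (BT.node 2651 (BT.node 2650 (BT.leaf c4_130) (BT.leaf c4_131)) (BT.leaf c4_132)) (BT.node 2653 (BT.leaf c4_133) (BT.leaf c4_134)))))) (BT.node 2677 (BT.node 2666 (BT.node 2660 (BT.node 2657 (BT.node 2656 (BT.node 2655 (BT.leaf c4_135) (BT.leaf c4_136)) (BT.leaf c4_137)) (BT.node 2659 (BT.node 2658 (BT.leaf c4_138) (BT.leaf c4_139)) (BT.leaf c4_140))) (BT.node 2663 (BT.node 2662 (BT.node 2661 (BT.leaf c4_141) (BT.leaf c4_142)) (BT.leaf c4_143)) (BT.node 2665 (BT.node 2664 (BT.leaf c4_144) (BT.leaf c4_145)) (BT.leaf c4_146)))) (BT.node 2672 (BT.node 2669 (BT.node 2668 (BT.node 2667 (BT.leaf c4_147) (BT.leaf c4_148)) (BT.leaf c4_149)) (BT.node 2671 (BT.node 2670 (BT.leaf c4_150) (BT.leaf c4_151)) (BT.leaf c4_152))) (BT.node 2675 (BT.node 2674 (BT.node 2673 (BT.leaf c4_153) (BT.leaf c4_154)) (BT.leaf c4_155)) (BT.node 2676 (BT.leaf c4_156) (BT.leaf c4_157))))) (BT.node 2688 (BT.node 2683 (BT.node 2680 (BT.node 2679 (BT.node 2678 (BT.leaf c4_158) (BT.leaf c4_159)) (BT.leaf c4_160)) (BT.node 2682 (BT.node 2681 (BT.leaf c4_161) (BT.leaf c4_162)) (BT.leaf c4_163))) (BT.node 2686 (BT.node 2685 (BT.node 2684 (BT.leaf c4_164) (BT.leaf c4_165)) (BT.leaf c4_166)) (BT.node 2687 (BT.leaf c4_167) (BT.leaf c4_168)))) (BT.node 2694 (BT.node 2691 (BT.node 2690 (BT.node 2689 (BT.leaf c4_169) (BT.leaf c4_170)) (BT.leaf c4_171)) (BT.node 2693 (BT.node 2692 (BT.leaf c4_172) (BT.leaf c4_173)) (BT.leaf c4_174))) (BT.node 2697 (BT.node 2696 (BT.node 2695 (BT.leaf c4_175) (BT.leaf c4_176)) (BT.leaf c4_177)) (BT.node 2698 (BT.leaf c4_178) (BT.leaf c4_179)))))))) (BT.node 2789 (BT.node 2744 (BT.node 2722 (BT.node 2711 (BT.node 2705 (BT.node 2702 (BT.node 2701 (BT.node 2700 (BT.leaf c4_180) (BT.leaf c4_181)) (BT.leaf c4_182)) (BT.node 2704 (BT.node 2703 (BT.leaf c4_183) (BT.leaf c4_184)) (BT.leaf c4_185))) (BT.node 2708 (BT.node 2707 (BT.node 2706 (BT.leaf c4_186) (BT.leaf c4_187)) (BT.leaf c4_188)) (BT.node 2710 (BT.node 2709 (BT.leaf c4_189) (BT.leaf c4_190)) (BT.leaf c4_191)))) (BT.node 2717 (BT.node 2714 (BT.node 2713 (BT.node 2712 (BT.leaf c4_192) (BT.leaf c4_193)) (BT.leaf c4_194)) (BT.node 2716 (BT.node 2715 (BT.leaf c4_195) (BT.leaf c4_196)) (BT.leaf c4_197))) (BT.node 2720 (BT.node 2719 (BT.node 2718 (BT.leaf c4_198) (BT.leaf c4_199)) (BT.leaf c4_200)) (BT.node 2721 (BT.leaf c4_201) (BT.leaf c4_202))))) (BT.node 2733 (BT.node 2728 (BT.node 2725 (BT.node 2724 (BT.node 2723 (BT.leaf c4_203) (BT.leaf c4_204)) (BT.leaf c4_205)) (BT.node 2727 (BT.node 2726 (BT.leaf c4_206) (BT.leaf c4_207)) (BT.leaf c4_208))) (BT.node 2731 (BT.node 2730 (BT.node 2729 (BT.leaf c4_209) (BT.leaf c4_210)) (BT.leaf c4_211)) (BT.node 2732 (BT.leaf c4_212) (BT.leaf c4_213)))) (BT.node 2739 (BT.node 2736 (BT.node 2735 (BT.node 2734 (BT.leaf c4_214) (BT.leaf c4_215)) (BT.leaf c4_216)) (BT.node 2738 (BT.node 2737 (BT.leaf c4_217) (BT.leaf c4_218)) (BT.leaf c4_219))) (BT.node 2742 (BT.node 2741 (BT.node 2740 (BT.leaf c4_220) (BT.leaf c4_221)) (BT.leaf c4_222)) (BT.node 2743 (BT.leaf c4_223) (BT.leaf c4_224)))))) (BT.node 2767 (BT.node 2756 (BT.node 2750 (BT.node 2747 (BT.node 2746 (BT.node 2745 (BT.leaf c4_225) (BT.leaf c4_226)) (BT.leaf c4_227)) (BT.node 2749 (BT.node 2748 (BT.leaf c4_228) (BT.leaf c4_229)) (BT.leaf c4_230))) (BT.node 2753 (BT.node 2752 (BT.node 2751 (BT.leaf c4_231) (BT.leaf c4_232)) (BT.leaf c4_233)) (BT.node 2755 (BT.node 2754 (BT.leaf c4_234) (BT.leaf c4_235)) (BT.leaf c4_236)))) (BT.node 2762 (BT.node 2759 (BT.node 2758 (BT.node 2757 (BT.leaf c4_237) (BT.leaf c4_238)) (BT.leaf c4_239)) (BT.node 2761 (BT.node 2760 (BT.leaf c4_240) (BT.leaf c4_241)) (BT.leaf c4_242))) (BT.node 2765 (BT.node 2764 (BT.node 2763 (BT.leaf c4_243) (BT.leaf c4_244)) (BT.leaf c4_245)) (BT.node 2766 (BT.leaf c4_246) (BT.leaf c4_247))))) (BT.node 2778 (BT.node 2773 (BT.node 2770 (BT.node 2769 (BT.node 2768 (BT.leaf c4_248) (BT.leaf c4_249)) (BT.leaf c4_250)) (BT.node 2772 (BT.node 2771 (BT.leaf c4_251) (BT.leaf c4_252)) (BT.leaf c4_253))) (BT.node 2776 (BT.node 2775 (BT.node 2774 (BT.leaf c4_254) (BT.leaf c4_255)) (BT.leaf c4_256)) (BT.node 2777 (BT.leaf c4_257) (BT.leaf c4_258)))) (BT.node 2784 (BT.node 2781 (BT.node 2780 (BT.node 2779 (BT.leaf c4_259) (BT.leaf c4_260)) (BT.leaf c4_261)) (BT.node 2783 (BT.node 2782 (BT.leaf c4_262) (BT.leaf c4_263)) (BT.leaf c4_264))) (BT.node 2787 (BT.node 2786 (BT.node 2785 (BT.leaf c4_265) (BT.leaf c4_266)) (BT.leaf c4_267)) (BT.node 2788 (BT.leaf c4_268) (BT.leaf c4_269))))))) (BT.node 2834 (BT.node 2812 (BT.node 2801 (BT.node 2795 (BT.node 2792 (BT.node 2791 (BT.node 2790 (BT.leaf c4_270) (BT.leaf c4_271)) (BT.leaf c4_272)) (BT.node 2794 (BT.node 2793 (BT.leaf c4_273) (BT.leaf c4_274)) (BT.leaf c4_275))) (BT.node 2798 (BT.node 2797 (BT.node 2796 (BT.leaf c4_276) (BT.leaf c4_277)) (BT.leaf c4_278)) (BT.node 2800 (BT.node 2799 (BT.leaf c4_279) (BT.leaf c4_280)) (BT.leaf c4_281)))) (BT.node 2807 (BT.node 2804 (BT.node 2803 (BT.node 2802 (BT.leaf c4_282) (BT.leaf c4_283)) (BT.leaf c4_284)) (BT.node 2806 (BT.node 2805 (BT.leaf c4_285) (BT.leaf c4_286)) (BT.leaf c4_287))) (BT.node 2810 (BT.node 2809 (BT.node 2808 (BT.leaf c4_288) (BT.leaf c4_289)) (BT.leaf c4_290)) (BT.node 2811 (BT.leaf c4_291) (BT.leaf c4_292))))) (BT.node 2823 (BT.node 2818 (BT.node 2815 (BT.node 2814 (BT.node 2813 (BT.leaf c4_293) (BT.leaf c4_294)) (BT.leaf c4_295)) (BT.node 2817 (BT.node 2816 (BT.leaf c4_296) (BT.leaf c4_297)) (BT.leaf c4_298))) (BT.node 2821 (BT.node 2820 (BT.node 2819 (BT.leaf c4_299) (BT.leaf c4_300)) (BT.leaf c4_301)) (BT.node 2822 (BT.leaf c4_302) (BT.leaf c4_303)))) (BT.node 2829 (BT.node 2826 (BT.node 2825 (BT.node 2824 (BT.leaf c4_304) (BT.leaf c4_305)) (BT.leaf c4_306)) (BT.node 2828 (BT.node 2827 (BT.leaf c4_307) (BT.leaf c4_308)) (BT.leaf c4_309))) (BT.node 2832 (BT.node 2831 (BT.node 2830 (BT.leaf c4_310) (BT.leaf c4_311)) (BT.leaf c4_312)) (BT.node 2833 (BT.leaf c4_313) (BT.leaf c4_314)))))) (BT.node 2857 (BT.node 2846 (BT.node 2840 (BT.node 2837 (BT.node 2836 (BT.node 2835 (BT.leaf c4_315) (BT.leaf c4_316)) (BT.leaf c4_317)) (BT.node 2839 (BT.node 2838 (BT.leaf c4_318) (BT.leaf c4_319)) (BT.leaf c4_320))) (BT.node 2843 (BT.node 2842 (BT.node 2841 (BT.leaf c4_321) (BT.leaf c4_322)) (BT.leaf c4_323)) (BT.node 2845 (BT.node 2844 (BT.leaf c4_324) (BT.leaf c4_325)) (BT.leaf c4_326)))) (BT.node 2852 (BT.node 2849 (BT.node 2848 (BT.node 2847 (BT.leaf c4_327) (BT.leaf c4_328)) (BT.leaf c4_329)) (BT.node 2851 (BT.node 2850 (BT.leaf c4_330) (BT.leaf c4_331)) (BT.leaf c4_332))) (BT.node 2855 (BT.node 2854 (BT.node 2853 (BT.leaf c4_333) (BT.leaf c4_334)) (BT.leaf c4_335)) (BT.node 2856 (BT.leaf c4_336) (BT.leaf c4_337))))) (BT.node 2868 (BT.node 2863 (BT.node 2860 (BT.node 2859 (BT.node 2858 (BT.leaf c4_338) (BT.leaf c4_339)) (BT.leaf c4_340)) (BT.node 2862 (BT.node 2861 (BT.leaf c4_341) (BT.leaf c4_342)) (BT.leaf c4_343))) (BT.node 2866 (BT.node 2865 (BT.node 2864 (BT.leaf c4_344) (BT.leaf c4_345)) (BT.leaf c4_346)) (BT.node 2867 (BT.leaf c4_347) (BT.leaf c4_348)))) (BT.node 2874 (BT.node 2871 (BT.node 2870 (BT.node 2869 (BT.leaf c4_349) (BT.leaf c4_350)) (BT.leaf c4_351)) (BT.node 2873 (BT.node 2872 (BT.leaf c4_352) (BT.leaf c4_353)) (BT.leaf c4_354))) (BT.node 2877 (BT.node 2876 (BT.node 2875 (BT.leaf c4_355) (BT.leaf c4_356)) (BT.leaf c4_357)) (BT.node 2878 (BT.leaf c4_358) (BT.leaf c4_359)))))))))))) (BT.node 4319 (BT.node 3599 (BT.node 3239 (BT.node 3059 (BT.node 2969 (BT.node 2924 (BT.node 2902 (BT.node 2891 (BT.node 2885 (BT.node 2882 (BT.node 2881 (BT.node 2880 (BT.leaf c5_0) (BT.leaf c5_1)) (BT.leaf c5_2)) (BT.node 2884 (BT.node 2883 (BT.leaf c5_3) (BT.leaf c5_4)) (BT.leaf c5_5))) (BT.node 2888 (BT.node 2887 (BT.node 2886 (BT.leaf c5_6) (BT.leaf c5_7)) (BT.leaf c5_8)) (BT.node 2890 (BT.node 2889 (BT.leaf c5_9) (BT.leaf c5_10)) (BT.leaf c5_11)))) (BT.node 2897 (BT.node 2894 (BT.node 2893 (BT.node 2892 (BT.leaf c5_12) (BT.leaf c5_13)) (BT.leaf c5_14)) (BT.node 2896 (BT.node 2895 (BT.leaf c5_15) (BT.leaf c5_16)) (BT.leaf c5_17))) (BT.node 2900 (BT.node 2899 (BT.node 2898 (BT.leaf c5_18) (BT.leaf c5_19)) (BT.leaf c5_20)) (BT.node 2901 (BT.leaf c5_21) (BT.leaf c5_22))))) (BT.node 2913 (BT.node 2908 (BT.node 2905 (BT.node 2904 (BT.node 2903 (BT.leaf c5_23) (BT.leaf c5_24)) (BT.leaf c5_25)) (BT.node 2907 (BT.node 2906 (BT.leaf c5_26) (BT.leaf c5_27)) (BT.leaf c5_28))) (BT.node 2911 (BT.node 2910 (BT.node 2909 (BT.leaf c5_29) (BT.leaf c5_30)) (BT.leaf c5_31)) (BT.node 2912 (BT.leaf c5_32) (BT.leaf c5_33)))) (BT.node 2919 (BT.node 2916 (BT.node 2915 (BT.node 2914 (BT.leaf c5_34) (BT.leaf c5_35)) (BT.leaf c5_36)) (BT.node 2918 (BT.node 2917 (BT.leaf c5_37) (BT.leaf c5_38)) (BT.leaf c5_39))) (BT.node 2922 (BT.node 2921 (BT.node 2920 (BT.leaf c5_40) (BT.leaf c5_41)) (BT.leaf c5_42)) (BT.node 2923 (BT.leaf c5_43) (BT.leaf c5_44)))))) (BT.node 2947 (BT.node 2936 (BT.node 2930 (BT.node 2927 (BT.node 2926 (BT.node 2925 (BT.leaf c5_45) (BT.leaf c5_46)) (BT.leaf c5_47)) (BT.node 2929 (BT.node 2928 (BT.leaf c5_48) (BT.leaf c5_49)) (BT.leaf c5_50))) (BT.node 2933 (BT.node 2932 (BT.node 2931 (BT.leaf c5_51) (BT.leaf c5_52)) (BT.leaf c5_53)) (BT.node 2935 (BT.node 2934 (BT.leaf c5_54) (BT.leaf c5_55)) (BT.leaf c5_56)))) (BT.node 2942 (BT.node 2939 (BT.node 2938 (BT.node 2937 (BT.leaf c5_57) (BT.leaf c5_58)) (BT.leaf c5_59)) (BT.node 2941 (BT.node 2940 (BT.leaf c5_60) (BT.leaf c5_61)) (BT.leaf c5_62))) (BT.node 2945 (BT.node 2944 (BT.node 2943 (BT.leaf c5_63) (BT.leaf c5_64)) (BT.leaf c5_65)) (BT.node 2946 (BT.leaf c5_66) (BT.leaf c5_67))))) (BT.node 2958 (BT.node 2953 (BT.node 2950 (BT.node 2949 (BT.node 2948 (BT.leaf c5_68) (BT.leaf c5_69)) (BT.leaf c5_70)) (BT.node 2952 (BT.node 2951 (BT.leaf c5_71) (BT.leaf c5_72)) (BT.leaf c5_73))) (BT.node 2956 (BT.node 2955 (BT.node 2954 (BT.leaf c5_74) (BT.leaf c5_75)) (BT.leaf c5_76)) (BT.node 2957 (BT.leaf c5_77) (BT.leaf c5_78)))) (BT.node 2964 (BT.node 2961 (BT.node 2960 (BT.node 2959 (BT.leaf c5_79) (BT.leaf c5_80)) (BT.leaf c5_81)) (BT.node 2963 (BT.node 2962 (BT.leaf c5_82) (BT.leaf c5_83)) (BT.leaf c5_84))) (BT.node 2967 (BT.node 2966 (BT.node 2965 (BT.leaf c5_85) (BT.leaf c5_86)) (BT.leaf c5_87)) (BT.node 2968 (BT.leaf c5_88) (BT.leaf c5_89))))))) (BT.node 3014 (BT.node 2992 (BT.node 2981 (BT.node 2975 (BT.node 2972 (BT.node 2971 (BT.node 2970 (BT.leaf c5_90) (BT.leaf c5_91)) (BT.leaf c5_92)) (BT.node 2974 (BT.node 2973 (BT.leaf c5_93) (BT.leaf c5_94)) (BT.leaf c5_95))) (BT.node 2978 (BT.node 2977 (BT.node 2976 (BT.leaf c5_96) (BT.leaf c5_97)) (BT.leaf c5_98)) (BT.node 2980 (BT.node 2979 (BT.leaf c5_99) (BT.leaf c5_100)) (BT.leaf c5_101)))) (BT.node 2987 (BT.node 2984 (BT.node 2983 (BT.node 2982 (BT.leaf c5_102) (BT.leaf c5_103)) (BT.leaf c5_104)) (BT.node 2986 (BT.node 2985 (BT.leaf c5_105) (BT.leaf c5_106)) (BT.leaf c5_107))) (BT.node 2990 (BT.node 2989 (BT.node 2988 (BT.leaf c5_108) (BT.leaf c5_109)) (BT.leaf c5_110)) (BT.node 2991 (BT.leaf c5_111) (BT.leaf c5_112))))) (BT.node 3003 (BT.node 2998 (BT.node 2995 (BT.node 2994 (BT.node 2993 (BT.leaf c5_113) (BT.leaf c5_114)) (BT.leaf c5_115)) (BT.node 2997 (BT.node 2996 (BT.leaf c5_116) (BT.leaf c5_117)) (BT.leaf c5_118))) (BT.node 3001 (BT.node 3000 (BT.node 2999 (BT.leaf c5_119) (BT.leaf c5_120)) (BT.leaf c5_121)) (BT.node 3002 (BT.leaf c5_122) (BT.leaf c5_123)))) (BT.node 3009 (BT.node 3006 (BT.node 3005 (BT.node 3004 (BT.leaf c5_124) (BT.leaf c5_125)) (BT.leaf c5_126)) (BT.node 3008 (BT.node 3007 (BT.leaf c5_127) (BT.leaf c5_128)) (BT.leaf c5_129))) (BT.node 3012 (BT.node 3011 (BT.node 3010 (BT.leaf c5_130) (BT.leaf c5_131)) (BT.leaf c5_132)) (BT.node 3013 (BT.leaf c5_133) (BT.leaf c5_134)))))) (BT.node 3037 (BT.node 3026 (BT.node 3020 (BT.node 3017 (BT.node 3016 (BT.node 3015 (BT.leaf c5_135) (BT.leaf c5_136)) (BT.leaf c5_137)) (BT.node 3019 (BT.node 3018 (BT.leaf c5_138) (BT.leaf c5_139)) (BT.leaf c5_140))) (BT.node 3023 (BT.node 3022 (BT.node 3021 (BT.leaf c5_141) (BT.leaf c5_142)) (BT.leaf c5_143)) (BT.node 3025 (BT.node 3024 (BT.leaf c5_144) (BT.leaf c5_145)) (BT.leaf c5_146)))) (BT.node 3032 (BT.node 3029 (BT.node 3028 (BT.node 3027 (BT.leaf c5_147) (BT.leaf c5_148)) (BT.leaf c5_149)) (BT.node 3031 (BT.node 3030 (BT.leaf c5_150) (BT.leaf c5_151)) (BT.leaf c5_152))) (BT.node 3035 (BT.node 3034 (BT.node 3033 (BT.leaf c5_153) (BT.leaf c5_154)) (BT.leaf c5_155)) (BT.node 3036 (BT.leaf c5_156) (BT.leaf c5_157))))) (BT.node 3048 (BT.node 3043 (BT.node 3040 (BT.node 3039 (BT.node 3038 (BT.leaf c5_158) (BT.leaf c5_159)) (BT.leaf c5_160)) (BT.node 3042 (BT.node 3041 (BT.leaf c5_161) (BT.leaf c5_162)) (BT.leaf c5_163))) (BT.node 3046 (BT.node 3045 (BT.node 3044 (BT.leaf c5_164) (BT.leaf c5_165)) (BT.leaf c5_166)) (BT.node 3047 (BT.leaf c5_167) (BT.leaf c5_168)))) (BT.node 3054 (BT.node 3051 (BT.node 3050 (BT.node 3049 (BT.leaf c5_169) (BT.leaf c5_170)) (BT.leaf c5_171)) (BT.node 3053 (BT.node 3052 (BT.leaf c5_172) (BT.leaf c5_173)) (BT.leaf c5_174))) (BT.node 3057 (BT.node 3056 (BT.node 3055 (BT.leaf c5_175) (BT.leaf c5_176)) (BT.leaf c5_177)) (BT.node 3058 (BT.leaf c5_178) (BT.leaf c5_179)))))))) (BT.node 3149 (BT.node 3104 (BT.node 3082 (BT.node 3071 (BT.node 3065 (BT.node 3062 (BT.node 3061 (BT.node 3060 (BT.leaf c5_180) (BT.leaf c5_181)) (BT.leaf c5_182)) (BT.node 3064 (BT.node 3063 (BT.leaf c5_183) (BT.leaf c5_184)) (BT.leaf c5_185))) (BT.node 3068 (BT.node 3067 (BT.node 3066 (BT.leaf c5_186) (BT.leaf c5_187)) (BT.leaf c5_188)) (BT.node 3070 (BT.node 3069 (BT.leaf c5_189) (BT.leaf c5_190)) (BT.leaf c5_191)))) (BT.node 3077 (BT.node 3074 (BT.node 3073 (BT.node 3072 (BT.leaf c5_192) (BT.leaf c5_193)) (BT.leaf c5_194)) (BT.node 3076 (BT.node 3075 (BT.leaf c5_195) (BT.leaf c5_196)) (BT.leaf c5_197))) (BT.node 3080 (BT.node 3079 (BT.node 3078 (BT.leaf c5_198) (BT.leaf c5_199)) (BT.leaf c5_200)) (BT.node 3081 (BT.leaf c5_201) (BT.leaf c5_202))))) (BT.node 3093 (BT.node 3088 (BT.node 3085 (BT.node 3084 (BT.node 3083 (BT.leaf c5_203) (BT.leaf c5_204)) (BT.leaf c5_205)) (BT.node 3087 (BT.node 3086 (BT.leaf c5_206) (BT.leaf c5_207)) (BT.leaf c5_208))) (BT.node 3091 (BT.node 3090 (BT.node 3089 (BT.leaf c5_209) (BT.leaf c5_210)) (BT.leaf c5_211)) (BT.node 3092 (BT.leaf c5_212) (BT.leaf c5_213)))) (BT.node 3099 (BT.node 3096 (BT.node 3095 (BT.node 3094 (BT.leaf c5_214) (BT.leaf c5_215)) (BT.leaf c5_216)) (BT.node 3098 (BT.node 3097 (BT.leaf c5_217) (BT.leaf c5_218)) (BT.leaf c5_219))) (BT.node 3102 (BT.node 3101 (BT.node 3100 (BT.leaf c5_220) (BT.leaf c5_221)) (BT.leaf c5_222)) (BT.node 3103 (BT.leaf c5_223) (BT.leaf c5_224)))))) (BT.node 3127 (BT.node 3116 (BT.node 3110 (BT.node 3107 (BT.node 3106 (BT.node 3105 (BT.leaf c5_225) (BT.leaf c5_226)) (BT.leaf c5_227)) (BT.node 3109 (BT.node 3108 (BT.leaf c5_228) (BT.leaf c5_229)) (BT.leaf c5_230))) (BT.node 3113 (BT.node 3112 (BT.node 3111 (BT.leaf c5_231) (BT.leaf c5_232)) (BT.leaf c5_233)) (BT.node 3115 (BT.node 3114 (BT.leaf c5_234) (BT.leaf c5_235)) (BT.leaf c5_236)))) (BT.node 3122 (BT.node 3119 (BT.node 3118 (BT.node 3117 (BT.leaf c5_237) (BT.leaf c5_238)) (BT.leaf c5_239)) (BT.node 3121 (BT.node 3120 (BT.leaf c5_240) (BT.leaf c5_241)) (BT.leaf c5_242))) (BT.node 3125 (BT.node 3124 (BT.node 3123 (BT.leaf c5_243) (BT.leaf c5_244)) (BT.leaf c5_245)) (BT.node 3126 (BT.leaf c5_246) (BT.leaf c5_247))))) (BT.node 3138 (BT.node 3133 (BT.node 3130 (BT.node 3129 (BT.node 3128 (BT.leaf c5_248) (BT.leaf c5_249)) (BT.leaf c5_250)) (BT.node 3132 (BT.node 3131 (BT.leaf c5_251) (BT.leaf c5_252)) (BT.leaf c5_253))) (BT.node 3136 (BT.node 3135 (BT.node 3134 (BT.leaf c5_254) (BT.leaf c5_255)) (BT.leaf c5_256)) (BT.node 3137 (BT.leaf c5_257) (BT.leaf c5_258)))) (BT.node 3144 (BT.node 3141 (BT.node 3140 (BT.node 3139 (BT.leaf c5_259) (BT.leaf c5_260)) (BT.leaf c5_261)) (BT.node 3143 (BT.node 3142 (BT.leaf c5_262) (BT.leaf c5_263)) (BT.leaf c5_264))) (BT.node 3147 (BT.node 3146 (BT.node 3145 (BT.leaf c5_265) (BT.leaf c5_266)) (BT.leaf c5_267)) (BT.node 3148 (BT.leaf c5_268) (BT.leaf c5_269))))))) (BT.node 3194 (BT.node 3172 (BT.node 3161 (BT.node 3155 (BT.node 3152 (BT.node 3151 (BT.node 3150 (BT.leaf c5_270) (BT.leaf c5_271)) (BT.leaf c5_272)) (BT.node 3154 (BT.node 3153 (BT.leaf c5_273) (BT.leaf c5_274)) (BT.leaf c5_275))) (BT.node 3158 (BT.node 3157 (BT.node 3156 (BT.leaf c5_276) (BT.leaf c5_277)) (BT.leaf c5_278)) (BT.node 3160 (BT.node 3159 (BT.leaf c5_279) (BT.leaf c5_280)) (BT.leaf c5_281)))) (BT.node 3167 (BT.node 3164 (BT.node 3163 (BT.node 3162 (BT.leaf c5_282) (BT.leaf c5_283)) (BT.leaf c5_284)) (BT.node 3166 (BT.node 3165 (BT.leaf c5_285) (BT.leaf c5_286)) (BT.leaf c5_287))) (BT.node 3170 (BT.node 3169 (BT.node 3168 (BT.leaf c5_288) (BT.leaf c5_289)) (BT.leaf c5_290)) (BT.node 3171 (BT.leaf c5_291) (BT.leaf c5_292))))) (BT.node 3183 (BT.node 3178 (BT.node 3175 (BT.node 3174 (BT.node 3173 (BT.leaf c5_293) (BT.leaf c5_294)) (BT.leaf c5_295)) (BT.node 3177 (BT.node 3176 (BT.leaf c5_296) (BT.leaf c5_297)) (BT.leaf c5_298))) (BT.node 3181 (BT.node 3180 (BT.node 3179 (BT.leaf c5_299) (BT.leaf c5_300)) (BT.leaf c5_301)) (BT.node 3182 (BT.leaf c5_302) (BT.leaf c5_303)))) (BT.node 3189 (BT.node 3186 (BT.node 3185 (BT.node 3184 (BT.leaf c5_304) (BT.leaf c5_305)) (BT.leaf c5_306)) (BT.node 3188 (BT.node 3187 (BT.leaf c5_307) (BT.leaf c5_308)) (BT.leaf c5_309))) (BT.node 3192 (BT.node 3191 (BT.node 3190 (BT.leaf c5_310) (BT.leaf c5_311)) (BT.leaf c5_312)) (BT.node 3193 (BT.leaf c5_313) (BT.leaf c5_314)))))) (BT.node 3217 (BT.node 3206 (BT.node 3200 (BT.node 3197 (BT.node 3196 (BT.node 3195 (BT.leaf c5_315) (BT.leaf c5_316)) (BT.leaf c5_317)) (BT.node 3199 (BT.node 3198 (BT.leaf c5_318) (BT.leaf c5_319)) (BT.leaf c5_320))) (BT.node 3203 (BT.node 3202 (BT.node 3201 (BT.leaf c5_321) (BT.leaf c5_322)) (BT.leaf c5_323)) (BT.node 3205 (BT.node 3204 (BT.leaf c5_324) (BT.leaf c5_325)) (BT.leaf c5_326)))) (BT.node 3212 (BT.node 3209 (BT.node 3208 (BT.node 3207 (BT.leaf c5_327) (BT.leaf c5_328)) (BT.leaf c5_329)) (BT.node 3211 (BT.node 3210 (BT.leaf c5_330) (BT.leaf c5_331)) (BT.leaf c5_332))) (BT.node 3215 (BT.node 3214 (BT.node 3213 (BT.leaf c5_333) (BT.leaf c5_334)) (BT.leaf c5_335)) (BT.node 3216 (BT.leaf c5_336) (BT.leaf c5_337))))) (BT.node 3228 (BT.node 3223 (BT.node 3220 (BT.node 3219 (BT.node 3218 (BT.leaf c5_338) (BT.leaf c5_339)) (BT.leaf c5_340)) (BT.node 3222 (BT.node 3221 (BT.leaf c5_341) (BT.leaf c5_342)) (BT.leaf c5_343))) (BT.node 3226 (BT.node 3225 (BT.node 3224 (BT.leaf c5_344) (BT.leaf c5_345)) (BT.leaf c5_346)) (BT.node 3227 (BT.leaf c5_347) (BT.leaf c5_348)))) (BT.node 3234 (BT.node 3231 (BT.node 3230 (BT.node 3229 (BT.leaf c5_349) (BT.leaf c5_350)) (BT.leaf c5_351)) (BT.node 3233 (BT.node 3232 (BT.leaf c5_352) (BT.leaf c5_353)) (BT.leaf c5_354))) (BT.node 3237 (BT.node 3236 (BT.node 3235 (BT.leaf c5_355) (BT.leaf c5_356)) (BT.leaf c5_357)) (BT.node 3238 (BT.leaf c5_358) (BT.leaf c5_359))))))))) (BT.node 3419 (BT.node 3329 (BT.node 3284 (BT.node 3262 (BT.node 3251 (BT.node 3245 (BT.node 3242 (BT.node 3241 (BT.node 3240 (BT.leaf c5_0) (BT.leaf c5_1)) (BT.leaf c5_2)) (BT.node 3244 (BT.node 3243 (BT.leaf c5_3) (BT.leaf c5_4)) (BT.leaf c5_5))) (BT.node 3248 (BT.node 3247 (BT.node 3246 (BT.leaf c5_6) (BT.leaf c5_7)) (BT.leaf c5_8)) (BT.node 3250 (BT.node 3249 (BT.leaf c5_9) (BT.leaf c5_10)) (BT.leaf c5_11)))) (BT.node 3257 (BT.node 3254 (BT.node 3253 (BT.node 3252 (BT.leaf c5_12) (BT.leaf c5_13)) (BT.leaf c5_14)) (BT.node 3256 (BT.node 3255 (BT.leaf c5_15) (BT.leaf c5_16)) (BT.leaf c5_17))) (BT.node 3260 (BT.node 3259 (BT.node 3258 (BT.leaf c5_18) (BT.leaf c5_19)) (BT.leaf c5_20)) (BT.node 3261 (BT.leaf c5_21) (BT.leaf c5_22))))) (BT.node 3273 (BT.node 3268 (BT.node 3265 (BT.node 3264 (BT.node 3263 (BT.leaf c5_23) (BT.leaf c5_24)) (BT.leaf c5_25)) (BT.node 3267 (BT.node 3266 (BT.leaf c5_26) (BT.leaf c5_27)) (BT.leaf c5_28))) (BT.node 3271 (BT.node 3270 (BT.node 3269 (BT.leaf c5_29) (BT.leaf c5_30)) (BT.leaf c5_31)) (BT.node 3272 (BT.leaf c5_32) (BT.leaf c5_33)))) (BT.node 3279 (BT.node 3276 (BT.node 3275 (BT.node 3274 (BT.leaf c5_34) (BT.leaf c5_35)) (BT.leaf c5_36)) (BT.node 3278 (BT.node 3277 (BT.leaf c5_37) (BT.leaf c5_38)) (BT.leaf c5_39))) (BT.node 3282 (BT.node 3281 (BT.node 3280 (BT.leaf c5_40) (BT.leaf c5_41)) (BT.leaf c5_42)) (BT.node 3283 (BT.leaf c5_43) (BT.leaf c5_44)))))) (BT.node 3307 (BT.node 3296 (BT.node 3290 (BT.node 3287 (BT.node 3286 (BT.node 3285 (BT.leaf c5_45) (BT.leaf c5_46)) (BT.leaf c5_47)) (BT.node 3289 (BT.node 3288 (BT.leaf c5_48) (BT.leaf c5_49)) (BT.leaf c5_50))) (BT.node 3293 (BT.node 3292 (BT.node 3291 (BT.leaf c5_51) (BT.leaf c5_52)) (BT.leaf c5_53)) (BT.node 3295 (BT.node 3294 (BT.leaf c5_54) (BT.leaf c5_55)) (BT.leaf c5_56)))) (BT.node 3302 (BT.node 3299 (BT.node 3298 (BT.node 3297 (BT.leaf c5_57) (BT.leaf c5_58)) (BT.leaf c5_59)) (BT.node 3301 (BT.node 3300 (BT.leaf c5_60) (BT.leaf c5_61)) (BT.leaf c5_62))) (BT.node 3305 (BT.node 3304 (BT.node 3303 (BT.leaf c5_63) (BT.leaf c5_64)) (BT.leaf c5_65)) (BT.node 3306 (BT.leaf c5_66) (BT.leaf c5_67))))) (BT.node 3318 (BT.node 3313 (BT.node 3310 (BT.node 3309 (BT.node 3308 (BT.leaf c5_68) (BT.leaf c5_69)) (BT.leaf c5_70)) (BT.node 3312 (BT.node 3311 (BT.leaf c5_71) (BT.leaf c5_72)) (BT.leaf c5_73))) (BT.node 3316 (BT.node 3315 (BT.node 3314 (BT.leaf c5_74) (BT.leaf c5_75)) (BT.leaf c5_76)) (BT.node 3317 (BT.leaf c5_77) (BT.leaf c5_78)))) (BT.node 3324 (BT.node 3321 (BT.node 3320 (BT.node 3319 (BT.leaf c5_79) (BT.leaf c5_80)) (BT.leaf c5_81)) (BT.node 3323 (BT.node 3322 (BT.leaf c5_82) (BT.leaf c5_83)) (BT.leaf c5_84))) (BT.node 3327 (BT.node 3326 (BT.node 3325 (BT.leaf c5_85) (BT.leaf c5_86)) (BT.leaf c5_87)) (BT.node 3328 (BT.leaf c5_88) (BT.leaf c5_89))))))) (BT.node 3374 (BT.node 3352 (BT.node 3341 (BT.node 3335 (BT.node 3332 (BT.node 3331 (BT.node 3330 (BT.leaf c5_90) (BT.leaf c5_91)) (BT.leaf c5_92)) (BT.node 3334 (BT.node 3333 (BT.leaf c5_93) (BT.leaf c5_94)) (BT.leaf c5_95))) (BT.node 3338 (BT.node 3337 (BT.node 3336 (BT.leaf c5_96) (BT.leaf c5_97)) (BT.leaf c5_98)) (BT.node 3340 (BT.node 3339 (BT.leaf c5_99) (BT.leaf c5_100)) (BT.leaf c5_101)))) (BT.node 3347 (BT.node 3344 (BT.node 3343 (BT.node 3342 (BT.leaf c5_102) (BT.leaf c5_103)) (BT.leaf c5_104)) (BT.node 3346 (BT.node 3345 (BT.leaf c5_105) (BT.leaf c5_106)) (BT.leaf c5_107))) (BT.node 3350 (BT.node 3349 (BT.node 3348 (BT.leaf c5_108) (BT.leaf c5_109)) (BT.leaf c5_110)) (BT.node 3351 (BT.leaf c5_111) (BT.leaf c5_112))))) (BT.node 3363 (BT.node 3358 (BT.node 3355 (BT.node 3354 (BT.node 3353 (BT.leaf c5_113) (BT.leaf c5_114)) (BT.leaf c5_115)) (BT.node 3357 (BT.node 3356 (BT.leaf c5_116) (BT.leaf c5_117)) (BT.leaf c5_118))) (BT.node 3361 (BT.node 3360 (BT.node 3359 (BT.leaf c5_119) (BT.leaf c5_120)) (BT.leaf c5_121)) (BT.node 3362 (BT.leaf c5_122) (BT.leaf c5_123)))) (BT.node 3369 (BT.node 3366 (BT.node 3365 (BT.node 3364 (BT.leaf c5_124) (BT.leaf c5_125)) (BT.leaf c5_126)) (BT.node 3368 (BT.node 3367 (BT.leaf c5_127) (BT.leaf c5_128)) (BT.leaf c5_129))) (BT.node 3372 (BT.node 3371 (BT.node 3370 (BT.leaf c5_130) (BT.leaf c5_131)) (BT.leaf c5_132)) (BT.node 3373 (BT.leaf c5_133) (BT.leaf c5_134)))))) (BT.node 3397 (BT.node 3386 (BT.node 3380 (BT.node 3377 (BT.node 3376 (BT.node 3375 (BT.leaf c5_135) (BT.leaf c5_136)) (BT.leaf c5_137)) (BT.node 3379 (BT.node 3378 (BT.leaf c5_138) (BT.leaf c5_139)) (BT.leaf c5_140))) (BT.node 3383 (BT.node 3382 (BT.node 3381 (BT.leaf c5_141) (BT.leaf c5_142)) (BT.leaf c5_143)) (BT.node 3385 (BT.node 3384 (BT.leaf c5_144) (BT.leaf c5_145)) (BT.leaf c5_146)))) (BT.node 3392 (BT.node 3389 (BT.node 3388 (BT.node 3387 (BT.leaf c5_147) (BT.leaf c5_148)) (BT.leaf c5_149)) (BT.node 3391 (BT.node 3390 (BT.leaf c5_150) (BT.leaf c5_151)) (BT.leaf c5_152))) (BT.node 3395 (BT.node 3394 (BT.node 3393 (BT.leaf c5_153) (BT.leaf c5_154)) (BT.leaf c5_155)) (BT.node 3396 (BT.leaf c5_156) (BT.leaf c5_157))))) (BT.node 3408 (BT.node 3403 (BT.node 3400 (BT.node 3399 (BT.node 3398 (BT.leaf c5_158) (BT.leaf c5_159)) (BT.leaf c5_160)) (BT.node 3402 (BT.node 3401 (BT.leaf c5_161) (BT.leaf c5_162)) (BT.leaf c5_163))) (BT.node 3406 (BT.node 3405 (BT.node 3404 (BT.leaf c5_164) (BT.leaf c5_165)) (BT.leaf c5_166)) (BT.node 3407 (BT.leaf c5_167) (BT.leaf c5_168)))) (BT.node 3414 (BT.node 3411 (BT.node 3410 (BT.node 3409 (BT.leaf c5_169) (BT.leaf c5_170)) (BT.leaf c5_171)) (BT.node 3413 (BT.node 3412 (BT.leaf c5_172) (BT.leaf c5_173)) (BT.leaf c5_174))) (BT.node 3417 (BT.node 3416 (BT.node 3415 (BT.leaf c5_175) (BT.leaf c5_176)) (BT.leaf c5_177)) (BT.node 3418 (BT.leaf c5_178) (BT.leaf c5_179)))))))) (BT.node 3509 (BT.node 3464 (BT.node 3442 (BT.node 3431 (BT.node 3425 (BT.node 3422 (BT.node 3421 (BT.node 3420 (BT.leaf c5_180) (BT.leaf c5_181)) (BT.leaf c5_182)) (BT.node 3424 (BT.node 3423 (BT.leaf c5_183) (BT.leaf c5_184)) (BT.leaf c5_185))) (BT.node 3428 (BT.node 3427 (BT.node 3426 (BT.leaf c5_186) (BT.leaf c5_187)) (BT.leaf c5_188)) (BT.node 3430 (BT.node 3429 (BT.leaf c5_189) (BT.leaf c5_190)) (BT.leaf c5_191)))) (BT.node 3437 (BT.node 3434 (BT.node 3433 (BT.node 3432 (BT.leaf c5_192) (BT.leaf c5_193)) (BT.leaf c5_194)) (BT.node 3436 (BT.node 3435 (BT.leaf c5_195) (BT.leaf c5_196)) (BT.leaf c5_197))) (BT.node 3440 (BT.node 3439 (BT.node 3438 (BT.leaf c5_198) (BT.leaf c5_199)) (BT.leaf c5_200)) (BT.node 3441 (BT.leaf c5_201) (BT.leaf c5_202))))) (BT.node 3453 (BT.node 3448 (BT.node 3445 (BT.node 3444 (BT.node 3443 (BT.leaf c5_203) (BT.leaf c5_204)) (BT.leaf c5_205)) (BT.node 3447 (BT.node 3446 (BT.leaf c5_206) (BT.leaf c5_207)) (BT.leaf c5_208))) (BT.node 3451 (BT.node 3450 (BT.node 3449 (BT.leaf c5_209) (BT.leaf c5_210)) (BT.leaf c5_211)) (BT.node 3452 (BT.leaf c5_212) (BT.leaf c5_213)))) (BT.node 3459 (BT.node 3456 (BT.node 3455 (BT.node 3454 (BT.leaf c5_214) (BT.leaf c5_215)) (BT.leaf c5_216)) (BT.node 3458 (BT.node 3457 (BT.leaf c5_217) (BT.leaf c5_218)) (BT.leaf c5_219))) (BT.node 3462 (BT.node 3461 (BT.node 3460 (BT.leaf c5_220) (BT.leaf c5_221)) (BT.leaf c5_222)) (BT.node 3463 (BT.leaf c5_223) (BT.leaf c5_224)))))) (BT.node 3487 (BT.node 3476 (BT.node 3470 (BT.node 3467 (BT.node 3466 (BT.node 3465 (BT.leaf c5_225) (BT.leaf c5_226)) (BT.leaf c5_227)) (BT.node 3469 (BT.node 3468 (BT.leaf c5_228) (BT.leaf c5_229)) (BT.leaf c5_230))) (BT.node 3473 (BT.node 3472 (BT.node 3471 (BT.leaf c5_231) (BT.leaf c5_232)) (BT.leaf c5_233)) (BT.node 3475 (BT.node 3474 (BT.leaf c5_234) (BT.leaf c5_235)) (BT.leaf c5_236)))) (BT.node 3482 (BT.node 3479 (BT.node 3478 (BT.node 3477 (BT.leaf c5_237) (BT.leaf c5_238)) (BT.leaf c5_239)) (BT.node 3481 (BT.node 3480 (BT.leaf c5_240) (BT.leaf c5_241)) (BT.leaf c5_242))) (BT.node 3485 (BT.node 3484 (BT.node 3483 (BT.leaf c5_243) (BT.leaf c5_244)) (BT.leaf c5_245)) (BT.node 3486 (BT.leaf c5_246) (BT.leaf c5_247))))) (BT.node 3498 (BT.node 3493 (BT.node 3490 (BT.node 3489 (BT.node 3488 (BT.leaf c5_248) (BT.leaf c5_249)) (BT.leaf c5_250)) (BT.node 3492 (BT.node 3491 (BT.leaf c5_251) (BT.leaf c5_252)) (BT.leaf c5_253))) (BT.node 3496 (BT.node 3495 (BT.node 3494 (BT.leaf c5_254) (BT.leaf c5_255)) (BT.leaf c5_256)) (BT.node 3497 (BT.leaf c5_257) (BT.leaf c5_258)))) (BT.node 3504 (BT.node 3501 (BT.node 3500 (BT.node 3499 (BT.leaf c5_259) (BT.leaf c5_260)) (BT.leaf c5_261)) (BT.node 3503 (BT.node 3502 (BT.leaf c5_262) (BT.leaf c5_263)) (BT.leaf c5_264))) (BT.node 3507 (BT.node 3506 (BT.node 3505 (BT.leaf c5_265) (BT.leaf c5_266)) (BT.leaf c5_267)) (BT.node 3508 (BT.leaf c5_268) (BT.leaf c5_269))))))) (BT.node 3554 (BT.node 3532 (BT.node 3521 (BT.node 3515 (BT.node 3512 (BT.node 3511 (BT.node 3510 (BT.leaf c5_270) (BT.leaf c5_271)) (BT.leaf c5_272)) (BT.node 3514 (BT.node 3513 (BT.leaf c5_273) (BT.leaf c5_274)) (BT.leaf c5_275))) (BT.node 3518 (BT.node 3517 (BT.node 3516 (BT.leaf c5_276) (BT.leaf c5_277)) (BT.leaf c5_278)) (BT.node 3520 (BT.node 3519 (BT.leaf c5_279) (BT.leaf c5_280)) (BT.leaf c5_281)))) (BT.node 3527 (BT.node 3524 (BT.node 3523 (BT.node 3522 (BT.leaf c5_282) (BT.leaf c5_283)) (BT.leaf c5_284)) (BT.node 3526 (BT.node 3525 (BT.leaf c5_285) (BT.leaf c5_286)) (BT.leaf c5_287))) (BT.node 3530 (BT.node 3529 (BT.node 3528 (BT.leaf c5_288) (BT.leaf c5_289)) (BT.leaf c5_290)) (BT.node 3531 (BT.leaf c5_291) (BT.leaf c5_292))))) (BT.node 3543 (BT.node 3538 (BT.node 3535 (BT.node 3534 (BT.node 3533 (BT.leaf c5_293) (BT.leaf c5_294)) (BT.leaf c5_295)) (BT.node 3537 (BT.node 3536 (BT.leaf c5_296) (BT.leaf c5_297)) (BT.leaf c5_298))) (BT.node 3541 (BT.node 3540 (BT.node 3539 (BT.leaf c5_299) (BT.leaf c5_300)) (BT.leaf c5_301)) (BT.node 3542 (BT.leaf c5_302) (BT.leaf c5_303)))) (BT.node 3549 (BT.node 3546 (BT.node 3545 (BT.node 3544 (BT.leaf c5_304) (BT.leaf c5_305)) (BT.leaf c5_306)) (BT.node 3548 (BT.node 3547 (BT.leaf c5_307) (BT.leaf c5_308)) (BT.leaf c5_309))) (BT.node 3552 (BT.node 3551 (BT.node 3550 (BT.leaf c5_310) (BT.leaf c5_311)) (BT.leaf c5_312)) (BT.node 3553 (BT.leaf c5_313) (BT.leaf c5_314)))))) (BT.node 3577 (BT.node 3566 (BT.node 3560 (BT.node 3557 (BT.node 3556 (BT.node 3555 (BT.leaf c5_315) (BT.leaf c5_316)) (BT.leaf c5_317)) (BT.node 3559 (BT.node 3558 (BT.leaf c5_318) (BT.leaf c5_319)) (BT.leaf c5_320))) (BT.node 3563 (BT.node 3562 (BT.node 3561 (BT.leaf c5_321) (BT.leaf c5_322)) (BT.leaf c5_323)) (BT.node 3565 (BT.node 3564 (BT.leaf c5_324) (BT.leaf c5_325)) (BT.leaf c5_326)))) (BT.node 3572 (BT.node 3569 (BT.node 3568 (BT.node 3567 (BT.leaf c5_327) (BT.leaf c5_328)) (BT.leaf c5_329)) (BT.node 3571 (BT.node 3570 (BT.leaf c5_330) (BT.leaf c5_331)) (BT.leaf c5_332))) (BT.node 3575 (BT.node 3574 (BT.node 3573 (BT.leaf c5_333) (BT.leaf c5_334)) (BT.leaf c5_335)) (BT.node 3576 (BT.leaf c5_336) (BT.leaf c5_337))))) (BT.node 3588 (BT.node 3583 (BT.node 3580 (BT.node 3579 (BT.node 3578 (BT.leaf c5_338) (BT.leaf c5_339)) (BT.leaf c5_340)) (BT.node 3582 (BT.node 3581 (BT.leaf c5_341) (BT.leaf c5_342)) (BT.leaf c5_343))) (BT.node 3586 (BT.node 3585 (BT.node 3584 (BT.leaf c5_344) (BT.leaf c5_345)) (BT.leaf c5_346)) (BT.node 3587 (BT.leaf c5_347) (BT.leaf c5_348)))) (BT.node 3594 (BT.node 3591 (BT.node 3590 (BT.node 3589 (BT.leaf c5_349) (BT.leaf c5_350)) (BT.leaf c5_351)) (BT.node 3593 (BT.node 3592 (BT.leaf c5_352) (BT.leaf c5_353)) (BT.leaf c5_354))) (BT.node 3597 (BT.node 3596 (BT.node 3595 (BT.leaf c5_355) (BT.leaf c5_356)) (BT.leaf c5_357)) (BT.node 3598 (BT.leaf c5_358) (BT.leaf c5_359)))))))))) (BT.node 3959 (BT.node 3779 (BT.node 3689 (BT.node 3644 (BT.node 3622 (BT.node 3611 (BT.node 3605 (BT.node 3602 (BT.node 3601 (BT.node 3600 (BT.leaf c6_0) (BT.leaf c6_1)) (BT.leaf c6_2)) (BT.node 3604 (BT.node 3603 (BT.leaf c6_3) (BT.leaf c6_4)) (BT.leaf c6_5))) (BT.node 3608 (BT.node 3607 (BT.node 3606 (BT.leaf c6_6) (BT.leaf c6_7)) (BT.leaf c6_8)) (BT.node 3610 (BT.node 3609 (BT.leaf c6_9) (BT.leaf c6_10)) (BT.leaf c6_11)))) (BT.node 3617 (BT.node 3614 (BT.node 3613 (BT.node 3612 (BT.leaf c6_12) (BT.leaf c6_13)) (BT.leaf c6_14)) (BT.node 3616 (BT.node 3615 (BT.leaf c6_15) (BT.leaf c6_16)) (BT.leaf c6_17))) (BT.node 3620 (BT.node 3619 (BT.node 3618 (BT.leaf c6_18) (BT.leaf c6_19)) (BT.leaf c6_20)) (BT.node 3621 (BT.leaf c6_21) (BT.leaf c6_22))))) (BT.node 3633 (BT.node 3628 (BT.node 3625 (BT.node 3624 (BT.node 3623 (BT.leaf c6_23) (BT.leaf c6_24)) (BT.leaf c6_25)) (BT.node 3627 (BT.node 3626 (BT.leaf c6_26) (BT.leaf c6_27)) (BT.leaf c6_28))) (BT.node 3631 (BT.node 3630 (BT.node 3629 (BT.leaf c6_29) (BT.leaf c6_30)) (BT.leaf c6_31)) (BT.node 3632 (BT.leaf c6_32) (BT.leaf c6_33)))) (BT.node 3639 (BT.node 3636 (BT.node 3635 (BT.node 3634 (BT.leaf c6_34) (BT.leaf c6_35)) (BT.leaf c6_36)) (BT.node 3638 (BT.node 3637 (BT.leaf c6_37) (BT.leaf c6_38)) (BT.leaf c6_39))) (BT.node 3642 (BT.node 3641 (BT.node 3640 (BT.leaf c6_40) (BT.leaf c6_41)) (BT.leaf c6_42)) (BT.node 3643 (BT.leaf c6_43) (BT.leaf c6_44)))))) (BT.node 3667 (BT.node 3656 (BT.node 3650 (BT.node 3647 (BT.node 3646 (BT.node 3645 (BT.leaf c6_45) (BT.leaf c6_46)) (BT.leaf c6_47)) (BT.node 3649 (BT.node 3648 (BT.leaf c6_48) (BT.leaf c6_49)) (BT.leaf c6_50))) (BT.node 3653 (BT.node 3652 (BT.node 3651 (BT.leaf c6_51) (BT.leaf c6_52)) (BT.leaf c6_53)) (BT.node 3655 (BT.node 3654 (BT.leaf c6_54) (BT.leaf c6_55)) (BT.leaf c6_56)))) (BT.node 3662 (BT.node 3659 (BT.node 3658 (BT.node 3657 (BT.leaf c6_57) (BT.leaf c6_58)) (BT.leaf c6_59)) (BT.node 3661 (BT.node 3660 (BT.leaf c6_60) (BT.leaf c6_61)) (BT.leaf c6_62))) (BT.node 3665 (BT.node 3664 (BT.node 3663 (BT.leaf c6_63) (BT.leaf c6_64)) (BT.leaf c6_65)) (BT.node 3666 (BT.leaf c6_66) (BT.leaf c6_67))))) (BT.node 3678 (BT.node 3673 (BT.node 3670 (BT.node 3669 (BT.node 3668 (BT.leaf c6_68) (BT.leaf c6_69)) (BT.leaf c6_70)) (BT.node 3672 (BT.node 3671 (BT.leaf c6_71) (BT.leaf c6_72)) (BT.leaf c6_73))) (BT.node 3676 (BT.node 3675 (BT.node 3674 (BT.leaf c6_74) (BT.leaf c6_75)) (BT.leaf c6_76)) (BT.node 3677 (BT.leaf c6_77) (BT.leaf c6_78)))) (BT.node 3684 (BT.node 3681 (BT.node 3680 (BT.node 3679 (BT.leaf c6_79) (BT.leaf c6_80)) (BT.leaf c6_81)) (BT.node 3683 (BT.node 3682 (BT.leaf c6_82) (BT.leaf c6_83)) (BT.leaf c6_84))) (BT.node 3687 (BT.node 3686 (BT.node 3685 (BT.leaf c6_85) (BT.leaf c6_86)) (BT.leaf c6_87)) (BT.node 3688 (BT.leaf c6_88) (BT.leaf c6_89))))))) (BT.node 3734 (BT.node 3712 (BT.node 3701 (BT.node 3695 (BT.node 3692 (BT.node 3691 (BT.node 3690 (BT.leaf c6_90) (BT.leaf c6_91)) (BT.leaf c6_92)) (BT.node 3694 (BT.node 3693 (BT.leaf c6_93) (BT.leaf c6_94)) (BT.leaf c6_95))) (BT.node 3698 (BT.node 3697 (BT.node 3696 (BT.leaf c6_96) (BT.leaf c6_97)) (BT.leaf c6_98)) (BT.node 3700 (BT.node 3699 (BT.leaf c6_99) (BT.leaf c6_100)) (BT.leaf c6_101)))) (BT.node 3707 (BT.node 3704 (BT.node 3703 (BT.node 3702 (BT.leaf c6_102) (BT.leaf c6_103)) (BT.leaf c6_104)) (BT.node 3706 (BT.node 3705 (BT.leaf c6_105) (BT.leaf c6_106)) (BT.leaf c6_107))) (BT.node 3710 (BT.node 3709 (BT.node 3708 (BT.leaf c6_108) (BT.leaf c6_109)) (BT.leaf c6_110)) (BT.node 3711 (BT.leaf c6_111) (BT.leaf c6_112))))) (BT.node 3723 (BT.node 3718 (BT.node 3715 (BT.node 3714 (BT.node 3713 (BT.leaf c6_113) (BT.leaf c6_114)) (BT.leaf c6_115)) (BT.node 3717 (BT.node 3716 (BT.leaf c6_116) (BT.leaf c6_117)) (BT.leaf c6_118))) (BT.node 3721 (BT.node 3720 (BT.node 3719 (BT.leaf c6_119) (BT.leaf c6_120)) (BT.leaf c6_121)) (BT.node 3722 (BT.leaf c6_122) (BT.leaf c6_123)))) (BT.node 3729 (BT.node 3726 (BT.node 3725 (BT.node 3724 (BT.leaf c6_124) (BT.leaf c6_125)) (BT.leaf c6_126)) (BT.node 3728 (BT.node 3727 (BT.leaf c6_127) (BT.leaf c6_128)) (BT.leaf c6_129))) (BT.node 3732 (BT.node 3731 (BT.node 3730 (BT.leaf c6_130) (BT.leaf c6_131)) (BT.leaf c6_132)) (BT.node 3733 (BT.leaf c6_133) (BT.leaf c6_134)))))) (BT.node 3757 (BT.node 3746 (BT.node 3740 (BT.node 3737 (BT.node 3736 (BT.node 3735 (BT.leaf c6_135) (BT.leaf c6_136)) (BT.leaf c6_137)) (BT.node 3739 (BT.node 3738 (BT.leaf c6_138) (BT.leaf c6_139)) (BT.leaf c6_140))) (BT.node 3743 (BT.node 3742 (BT.node 3741 (BT.leaf c6_141) (BT.leaf c6_142)) (BT.leaf c6_143)) (BT.node 3745 (BT.node 3744 (BT.leaf c6_144) (BT.leaf c6_145)) (BT.leaf c6_146)))) (BT.node 3752 (BT.node 3749 (BT.node 3748 (BT.node 3747 (BT.leaf c6_147) (BT.leaf c6_148)) (BT.leaf c6_149)) (BT.node 3751 (BT.node 3750 (BT.leaf c6_150) (BT.leaf c6_151)) (BT.leaf c6_152))) (BT.node 3755 (BT.node 3754 (BT.node 3753 (BT.leaf c6_153) (BT.leaf c6_154)) (BT.leaf c6_155)) (BT.node 3756 (BT.leaf c6_156) (BT.leaf c6_157))))) (BT.node 3768 (BT.node 3763 (BT.node 3760 (BT.node 3759 (BT.node 3758 (BT.leaf c6_158) (BT.leaf c6_159)) (BT.leaf c6_160)) (BT.node 3762 (BT.node 3761 (BT.leaf c6_161) (BT.leaf c6_162)) (BT.leaf c6_163))) (BT.node 3766 (BT.node 3765 (BT.node 3764 (BT.leaf c6_164) (BT.leaf c6_165)) (BT.leaf c6_166)) (BT.node 3767 (BT.leaf c6_167) (BT.leaf c6_168)))) (BT.node 3774 (BT.node 3771 (BT.node 3770 (BT.node 3769 (BT.leaf c6_169) (BT.leaf c6_170)) (BT.leaf c6_171)) (BT.node 3773 (BT.node 3772 (BT.leaf c6_172) (BT.leaf c6_173)) (BT.leaf c6_174))) (BT.node 3777 (BT.node 3776 (BT.node 3775 (BT.leaf c6_175) (BT.leaf c6_176)) (BT.leaf c6_177)) (BT.node 3778 (BT.leaf c6_178) (BT.leaf c6_179)))))))) (BT.node 3869 (BT.node 3824 (BT.node 3802 (BT.node 3791 (BT.node 3785 (BT.node 3782 (BT.node 3781 (BT.node 3780 (BT.leaf c6_180) (BT.leaf c6_181)) (BT.leaf c6_182)) (BT.node 3784 (BT.node 3783 (BT.leaf c6_183) (BT.leaf c6_184)) (BT.leaf c6_185))) (BT.node 3788 (BT.node 3787 (BT.node 3786 (BT.leaf c6_186) (BT.leaf c6_187)) (BT.leaf c6_188)) (BT.node 3790 (BT.node 3789 (BT.leaf c6_189) (BT.leaf c6_190)) (BT.leaf c6_191)))) (BT.node 3797 (BT.node 3794 (BT.node 3793 (BT.node 3792 (BT.leaf c6_192) (BT.leaf c6_193)) (BT.leaf c6_194)) (BT.node 3796 (BT.node 3795 (BT.leaf c6_195) (BT.leaf c6_196)) (BT.leaf c6_197))) (BT.node 3800 (BT.node 3799 (BT.node 3798 (BT.leaf c6_198) (BT.leaf c6_199)) (BT.leaf c6_200)) (BT.node 3801 (BT.leaf c6_201) (BT.leaf c6_202))))) (BT.node 3813 (BT.node 3808 (BT.node 3805 (BT.node 3804 (BT.node 3803 (BT.leaf c6_203) (BT.leaf c6_204)) (BT.leaf c6_205)) (BT.node 3807 (BT.node 3806 (BT.leaf c6_206) (BT.leaf c6_207)) (BT.leaf c6_208))) (BT.node 3811 (BT.node 3810 (BT.node 3809 (BT.leaf c6_209) (BT.leaf c6_210)) (BT.leaf c6_211)) (BT.node 3812 (BT.leaf c6_212) (BT.leaf c6_213)))) (BT.node 3819 (BT.node 3816 (BT.node 3815 (BT.node 3814 (BT.leaf c6_214) (BT.leaf c6_215)) (BT.leaf c6_216)) (BT.node 3818 (BT.node 3817 (BT.leaf c6_217) (BT.leaf c6_218)) (BT.leaf c6_219))) (BT.node 3822 (BT.node 3821 (BT.node 3820 (BT.leaf c6_220) (BT.leaf c6_221)) (BT.leaf c6_222)) (BT.node 3823 (BT.leaf c6_223) (BT.leaf c6_224)))))) (BT.node 3847 (BT.node 3836 (BT.node 3830 (BT.node 3827 (BT.node 3826 (BT.node 3825 (BT.leaf c6_225) (BT.leaf c6_226)) (BT.leaf c6_227)) (BT.node 3829 (BT.node 3828 (BT.leaf c6_228) (BT.leaf c6_229)) (BT.leaf c6_230))) (BT.node 3833 (BT.node 3832 (BT.node 3831 (BT.leaf c6_231) (BT.leaf c6_232)) (BT.leaf c6_233)) (BT.node 3835 (BT.node 3834 (BT.leaf c6_234) (BT.leaf c6_235)) (BT.leaf c6_236)))) (BT.node 3842 (BT.node 3839 (BT.node 3838 (BT.node 3837 (BT.leaf c6_237) (BT.leaf c6_238)) (BT.leaf c6_239)) (BT.node 3841 (BT.node 3840 (BT.leaf c6_240) (BT.leaf c6_241)) (BT.leaf c6_242))) (BT.node 3845 (BT.node 3844 (BT.node 3843 (BT.leaf c6_243) (BT.leaf c6_244)) (BT.leaf c6_245)) (BT.node 3846 (BT.leaf c6_246) (BT.leaf c6_247))))) (BT.node 3858 (BT.node 3853 (BT.node 3850 (BT.node 3849 (BT.node 3848 (BT.leaf c6_248) (BT.leaf c6_249)) (BT.leaf c6_250)) (BT.node 3852 (BT.node 3851 (BT.leaf c6_251) (BT.leaf c6_252)) (BT.leaf c6_253))) (BT.node 3856 (BT.node 3855 (BT.node 3854 (BT.leaf c6_254) (BT.leaf c6_255)) (BT.leaf c6_256)) (BT.node 3857 (BT.leaf c6_257) (BT.leaf c6_258)))) (BT.node 3864 (BT.node 3861 (BT.node 3860 (BT.node 3859 (BT.leaf c6_259) (BT.leaf c6_260)) (BT.leaf c6_261)) (BT.node 3863 (BT.node 3862 (BT.leaf c6_262) (BT.leaf c6_263)) (BT.leaf c6_264))) (BT.node 3867 (BT.node 3866 (BT.node 3865 (BT.leaf c6_265) (BT.leaf c6_266)) (BT.leaf c6_267)) (BT.node 3868 (BT.leaf c6_268) (BT.leaf c6_269))))))) (BT.node 3914 (BT.node 3892 (BT.node 3881 (BT.node 3875 (BT.node 3872 (BT.node 3871 (BT.node 3870 (BT.leaf c6_270) (BT.leaf c6_271)) (BT.leaf c6_272)) (BT.node 3874 (BT.node 3873 (BT.leaf c6_273) (BT.leaf c6_274)) (BT.leaf c6_275))) (BT.node 3878 (BT.node 3877 (BT.node 3876 (BT.leaf c6_276) (BT.leaf c6_277)) (BT.leaf c6_278)) (BT.node 3880 (BT.node 3879 (BT.leaf c6_279) (BT.leaf c6_280)) (BT.leaf c6_281)))) (BT.node 3887 (BT.node 3884 (BT.node 3883 (BT.node 3882 (BT.leaf c6_282) (BT.leaf c6_283)) (BT.leaf c6_284)) (BT.node 3886 (BT.node 3885 (BT.leaf c6_285) (BT.leaf c6_286)) (BT.leaf c6_287))) (BT.node 3890 (BT.node 3889 (BT.node 3888 (BT.leaf c6_288) (BT.leaf c6_289)) (BT.leaf c6_290)) (BT.node 3891 (BT.leaf c6_291) (BT.leaf c6_292))))) (BT.node 3903 (BT.node 3898 (BT.node 3895 (BT.node 3894 (BT.node 3893 (BT.leaf c6_293) (BT.leaf c6_294)) (BT.leaf c6_295)) (BT.node 3897 (BT.node 3896 (BT.leaf c6_296) (BT.leaf c6_297)) (BT.leaf c6_298))) (BT.node 3901 (BT.node 3900 (BT.node 3899 (BT.leaf c6_299) (BT.leaf c6_300)) (BT.leaf c6_301)) (BT.node 3902 (BT.leaf c6_302) (BT.leaf c6_303)))) (BT.node 3909 (BT.node 3906 (BT.node 3905 (BT.node 3904 (BT.leaf c6_304) (BT.leaf c6_305)) (BT.leaf c6_306)) (BT.node 3908 (BT.node 3907 (BT.leaf c6_307) (BT.leaf c6_308)) (BT.leaf c6_309))) (BT.node 3912 (BT.node 3911 (BT.node 3910 (BT.leaf c6_310) (BT.leaf c6_311)) (BT.leaf c6_312)) (BT.node 3913 (BT.leaf c6_313) (BT.leaf c6_314)))))) (BT.node 3937 (BT.node 3926 (BT.node 3920 (BT.node 3917 (BT.node 3916 (BT.node 3915 (BT.leaf c6_315) (BT.leaf c6_316)) (BT.leaf c6_317)) (BT.node 3919 (BT.node 3918 (BT.leaf c6_318) (BT.leaf c6_319)) (BT.leaf c6_320))) (BT.node 3923 (BT.node 3922 (BT.node 3921 (BT.leaf c6_321) (BT.leaf c6_322)) (BT.leaf c6_323)) (BT.node 3925 (BT.node 3924 (BT.leaf c6_324) (BT.leaf c6_325)) (BT.leaf c6_326)))) (BT.node 3932 (BT.node 3929 (BT.node 3928 (BT.node 3927 (BT.leaf c6_327) (BT.leaf c6_328)) (BT.leaf c6_329)) (BT.node 3931 (BT.node 3930 (BT.leaf c6_330) (BT.leaf c6_331)) (BT.leaf c6_332))) (BT.node 3935 (BT.node 3934 (BT.node 3933 (BT.leaf c6_333) (BT.leaf c6_334)) (BT.leaf c6_335)) (BT.node 3936 (BT.leaf c6_336) (BT.leaf c6_337))))) (BT.node 3948 (BT.node 3943 (BT.node 3940 (BT.node 3939 (BT.node 3938 (BT.leaf c6_338) (BT.leaf c6_339)) (BT.leaf c6_340)) (BT.node 3942 (BT.node 3941 (BT.leaf c6_341) (BT.leaf c6_342)) (BT.leaf c6_343))) (BT.node 3946 (BT.node 3945 (BT.node 3944 (BT.leaf c6_344) (BT.leaf c6_345)) (BT.leaf c6_346)) (BT.node 3947 (BT.leaf c6_347) (BT.leaf c6_348)))) (BT.node 3954 (BT.node 3951 (BT.node 3950 (BT.node 3949 (BT.leaf c6_349) (BT.leaf c6_350)) (BT.leaf c6_351)) (BT.node 3953 (BT.node 3952 (BT.leaf c6_352) (BT.leaf c6_353)) (BT.leaf c6_354))) (BT.node 3957 (BT.node 3956 (BT.node 3955 (BT.leaf c6_355) (BT.leaf c6_356)) (BT.leaf c6_357)) (BT.node 3958 (BT.leaf c6_358) (BT.leaf c6_359))))))))) (BT.node 4139 (BT.node 4049 (BT.node 4004 (BT.node 3982 (BT.node 3971 (BT.node 3965 (BT.node 3962 (BT.node 3961 (BT.node 3960 (BT.leaf c6_0) (BT.leaf c6_1)) (BT.leaf c6_2)) (BT.node 3964 (BT.node 3963 (BT.leaf c6_3) (BT.leaf c6_4)) (BT.leaf c6_5))) (BT.node 3968 (BT.node 3967 (BT.node 3966 (BT.leaf c6_6) (BT.leaf c6_7)) (BT.leaf c6_8)) (BT.node 3970 (BT.node 3969 (BT.leaf c6_9) (BT.leaf c6_10)) (BT.leaf c6_11)))) (BT.node 3977 (BT.node 3974 (BT.node 3973 (BT.node 3972 (BT.leaf c6_12) (BT.leaf c6_13)) (BT.leaf c6_14)) (BT.node 3976 (BT.node 3975 (BT.leaf c6_15) (BT.leaf c6_16)) (BT.leaf c6_17))) (BT.node 3980 (BT.node 3979 (BT.node 3978 (BT.leaf c6_18) (BT.leaf c6_19)) (BT.leaf c6_20)) (BT.node 3981 (BT.leaf c6_21) (BT.leaf c6_22))))) (BT.node 3993 (BT.node 3988 (BT.node 3985 (BT.node 3984 (BT.node 3983 (BT.leaf c6_23) (BT.leaf c6_24)) (BT.leaf c6_25)) (BT.node 3987 (BT.node 3986 (BT.leaf c6_26) (BT.leaf c6_27)) (BT.leaf c6_28))) (BT.node 3991 (BT.node 3990 (BT.node 3989 (BT.leaf c6_29) (BT.leaf c6_30)) (BT.leaf c6_31)) (BT.node 3992 (BT.leaf c6_32) (BT.leaf c6_33)))) (BT.node 3999 (BT.node 3996 (BT.node 3995 (BT.node 3994 (BT.leaf c6_34) (BT.leaf c6_35)) (BT.leaf c6_36)) (BT.node 3998 (BT.node 3997 (BT.leaf c6_37) (BT.leaf c6_38)) (BT.leaf c6_39))) (BT.node 4002 (BT.node 4001 (BT.node 4000 (BT.leaf c6_40) (BT.leaf c6_41)) (BT.leaf c6_42)) (BT.node 4003 (BT.leaf c6_43) (BT.leaf c6_44)))))) (BT.node 4027 (BT.node 4016 (BT.node 4010 (BT.node 4007 (BT.node 4006 (BT.node 4005 (BT.leaf c6_45) (BT.leaf c6_46)) (BT.leaf c6_47)) (BT.node 4009 (BT.node 4008 (BT.leaf c6_48) (BT.leaf c6_49)) (BT.leaf c6_50))) (BT.node 4013 (BT.node 4012 (BT.node 4011 (BT.leaf c6_51) (BT.leaf c6_52)) (BT.leaf c6_53)) (BT.node 4015 (BT.node 4014 (BT.leaf c6_54) (BT.leaf c6_55)) (BT.leaf c6_56)))) (BT.node 4022 (BT.node 4019 (BT.node 4018 (BT.node 4017 (BT.leaf c6_57) (BT.leaf c6_58)) (BT.leaf c6_59)) (BT.node 4021 (BT.node 4020 (BT.leaf c6_60) (BT.leaf c6_61)) (BT.leaf c6_62))) (BT.node 4025 (BT.node 4024 (BT.node 4023 (BT.leaf c6_63) (BT.leaf c6_64)) (BT.leaf c6_65)) (BT.node 4026 (BT.leaf c6_66) (BT.leaf c6_67))))) (BT.node 4038 (BT.node 4033 (BT.node 4030 (BT.node 4029 (BT.node 4028 (BT.leaf c6_68) (BT.leaf c6_69)) (BT.leaf c6_70)) (BT.node 4032 (BT.node 4031 (BT.leaf c6_71) (BT.leaf c6_72)) (BT.leaf c6_73))) (BT.node 4036 (BT.node 4035 (BT.node 4034 (BT.leaf c6_74) (BT.leaf c6_75)) (BT.leaf c6_76)) (BT.node 4037 (BT.leaf c6_77) (BT.leaf c6_78)))) (BT.node 4044 (BT.node 4041 (BT.node 4040 (BT.node 4039 (BT.leaf c6_79) (BT.leaf c6_80)) (BT.leaf c6_81)) (BT.node 4043 (BT.node 4042 (BT.leaf c6_82) (BT.leaf c6_83)) (BT.leaf c6_84))) (BT.node 4047 (BT.node 4046 (BT.node 4045 (BT.leaf c6_85) (BT.leaf c6_86)) (BT.leaf c6_87)) (BT.node 4048 (BT.leaf c6_88) (BT.leaf c6_89))))))) (BT.node 4094 (BT.node 4072 (BT.node 4061 (BT.node 4055 (BT.node 4052 (BT.node 4051 (BT.node 4050 (BT.leaf c6_90) (BT.leaf c6_91)) (BT.leaf c6_92)) (BT.node 4054 (BT.node 4053 (BT.leaf c6_93) (BT.leaf c6_94)) (BT.leaf c6_95))) (BT.node 4058 (BT.node 4057 (BT.node 4056 (BT.leaf c6_96) (BT.leaf c6_97)) (BT.leaf c6_98)) (BT.node 4060 (BT.node 4059 (BT.leaf c6_99) (BT.leaf c6_100)) (BT.leaf c6_101)))) (BT.node 4067 (BT.node 4064 (BT.node 4063 (BT.node 4062 (BT.leaf c6_102) (BT.leaf c6_103)) (BT.leaf c6_104)) (BT.node 4066 (BT.node 4065 (BT.leaf c6_105) (BT.leaf c6_106)) (BT.leaf c6_107))) (BT.node 4070 (BT.node 4069 (BT.node 4068 (BT.leaf c6_108) (BT.leaf c6_109)) (BT.leaf c6_110)) (BT.node 4071 (BT.leaf c6_111) (BT.leaf c6_112))))) (BT.node 4083 (BT.node 4078 (BT.node 4075 (BT.node 4074 (BT.node 4073 (BT.leaf c6_113) (BT.leaf c6_114)) (BT.leaf c6_115)) (BT.node 4077 (BT.node 4076 (BT.leaf c6_116) (BT.leaf c6_117)) (BT.leaf c6_118))) (BT.node 4081 (BT.node 4080 (BT.node 4079 (BT.leaf c6_119) (BT.leaf c6_120)) (BT.leaf c6_121)) (BT.node 4082 (BT.leaf c6_122) (BT.leaf c6_123)))) (BT.node 4089 (BT.node 4086 (BT.node 4085 (BT.node 4084 (BT.leaf c6_124) (BT.leaf c6_125)) (BT.leaf c6_126)) (BT.node 4088 (BT.node 4087 (BT.leaf c6_127) (BT.leaf c6_128)) (BT.leaf c6_129))) (BT.node 4092 (BT.node 4091 (BT.node 4090 (BT.leaf c6_130) (BT.leaf c6_131)) (BT.leaf c6_132)) (BT.node 4093 (BT.leaf c6_133) (BT.leaf c6_134)))))) (BT.node 4117 (BT.node 4106 (BT.node 4100 (BT.node 4097 (BT.node 4096 (BT.node 4095 (BT.leaf c6_135) (BT.leaf c6_136)) (BT.leaf c6_137)) (BT.node 4099 (BT.node 4098 (BT.leaf c6_138) (BT.leaf c6_139)) (BT.leaf c6_140))) (BT.node 4103 (BT.node 4102 (BT.node 4101 (BT.leaf c6_141) (BT.leaf c6_142)) (BT.leaf c6_143)) (BT.node 4105 (BT.node 4104 (BT.leaf c6_144) (BT.leaf c6_145)) (BT.leaf c6_146)))) (BT.node 4112 (BT.node 4109 (BT.node 4108 (BT.node 4107 (BT.leaf c6_147) (BT.leaf c6_148)) (BT.leaf c6_149)) (BT.node 4111 (BT.node 4110 (BT.leaf c6_150) (BT.leaf c6_151)) (BT.leaf c6_152))) (BT.node 4115 (BT.node 4114 (BT.node 4113 (BT.leaf c6_153) (BT.leaf c6_154)) (BT.leaf c6_155)) (BT.node 4116 (BT.leaf c6_156) (BT.leaf c6_157))))) (BT.node 4128 (BT.node 4123 (BT.node 4120 (BT.node 4119 (BT.node 4118 (BT.leaf c6_158) (BT.leaf c6_159)) (BT.leaf c6_160)) (BT.node 4122 (BT.node 4121 (BT.leaf c6_161) (BT.leaf c6_162)) (BT.leaf c6_163))) (BT.node 4126 (BT.node 4125 (BT.node 4124 (BT.leaf c6_164) (BT.leaf c6_165)) (BT.leaf c6_166)) (BT.node 4127 (BT.leaf c6_167) (BT.leaf c6_168)))) (BT.node 4134 (BT.node 4131 (BT.node 4130 (BT.node 4129 (BT.leaf c6_169) (BT.leaf c6_170)) (BT.leaf c6_171)) (BT.node 4133 (BT.node 4132 (BT.leaf c6_172) (BT.leaf c6_173)) (BT.leaf c6_174))) (BT.node 4137 (BT.node 4136 (BT.node 4135 (BT.leaf c6_175) (BT.leaf c6_176)) (BT.leaf c6_177)) (BT.node 4138 (BT.leaf c6_178) (BT.leaf c6_179)))))))) (BT.node 4229 (BT.node 4184 (BT.node 4162 (BT.node 4151 (BT.node 4145 (BT.node 4142 (BT.node 4141 (BT.node 4140 (BT.leaf c6_180) (BT.leaf c6_181)) (BT.leaf c6_182)) (BT.node 4144 (BT.node 4143 (BT.leaf c6_183) (BT.leaf c6_184)) (BT.leaf c6_185))) (BT.node 4148 (BT.node 4147 (BT.node 4146 (BT.leaf c6_186) (BT.leaf c6_187)) (BT.leaf c6_188)) (BT.node 4150 (BT.node 4149 (BT.leaf c6_189) (BT.leaf c6_190)) (BT.leaf c6_191)))) (BT.node 4157 (BT.node 4154 (BT.node 4153 (BT.node 4152 (BT.leaf c6_192) (BT.leaf c6_193)) (BT.leaf c6_194)) (BT.node 4156 (BT.node 4155 (BT.leaf c6_195) (BT.leaf c6_196)) (BT.leaf c6_197))) (BT.node 4160 (BT.node 4159 (BT.node 4158 (BT.leaf c6_198) (BT.leaf c6_199)) (BT.leaf c6_200)) (BT.node 4161 (BT.leaf c6_201) (BT.leaf c6_202))))) (BT.node 4173 (BT.node 4168 (BT.node 4165 (BT.node 4164 (BT.node 4163 (BT.leaf c6_203) (BT.leaf c6_204)) (BT.leaf c6_205)) (BT.node 4167 (BT.node 4166 (BT.leaf c6_206) (BT.leaf c6_207)) (BT.leaf c6_208))) (BT.node 4171 (BT.node 4170 (BT.node 4169 (BT.leaf c6_209) (BT.leaf c6_210)) (BT.leaf c6_211)) (BT.node 4172 (BT.leaf c6_212) (BT.leaf c6_213)))) (BT.node 4179 (BT.node 4176 (BT.node 4175 (BT.node 4174 (BT.leaf c6_214) (BT.leaf c6_215)) (BT.leaf c6_216)) (BT.node 4178 (BT.node 4177 (BT.leaf c6_217) (BT.leaf c6_218)) (BT.leaf c6_219))) (BT.node 4182 (BT.node 4181 (BT.node 4180 (BT.leaf c6_220) (BT.leaf c6_221)) (BT.leaf c6_222)) (BT.node 4183 (BT.leaf c6_223) (BT.leaf c6_224)))))) (BT.node 4207 (BT.node 4196 (BT.node 4190 (BT.node 4187 (BT.node 4186 (BT.node 4185 (BT.leaf c6_225) (BT.leaf c6_226)) (BT.leaf c6_227)) (BT.node 4189 (BT.node 4188 (BT.leaf c6_228) (BT.leaf c6_229)) (BT.leaf c6_230))) (BT.node 4193 (BT.node 4192 (BT.node 4191 (BT.leaf c6_231) (BT.leaf c6_232)) (BT.leaf c6_233)) (BT.node 4195 (BT.node 4194 (BT.leaf c6_234) (BT.leaf c6_235)) (BT.leaf c6_236)))) (BT.node 4202 (BT.node 4199 (BT.node 4198 (BT.node 4197 (BT.leaf c6_237) (BT.leaf c6_238)) (BT.leaf c6_239)) (BT.node 4201 (BT.node 4200 (BT.leaf c6_240) (BT.leaf c6_241)) (BT.leaf c6_242))) (BT.node 4205 (BT.node 4204 (BT.node 4203 (BT.leaf c6_243) (BT.leaf c6_244)) (BT.leaf c6_245)) (BT.node 4206 (BT.leaf c6_246) (BT.leaf c6_247))))) (BT.node 4218 (BT.node 4213 (BT.node 4210 (BT.node 4209 (BT.node 4208 (BT.leaf c6_248) (BT.leaf c6_249)) (BT.leaf c6_250)) (BT.node 4212 (BT.node 4211 (BT.leaf c6_251) (BT.leaf c6_252)) (BT.leaf c6_253))) (BT.node 4216 (BT.node 4215 (BT.node 4214 (BT.leaf c6_254) (BT.leaf c6_255)) (BT.leaf c6_256)) (BT.node 4217 (BT.leaf c6_257) (BT.leaf c6_258)))) (BT.node 4224 (BT.node 4221 (BT.node 4220 (BT.node 4219 (BT.leaf c6_259) (BT.leaf c6_260)) (BT.leaf c6_261)) (BT.node 4223 (BT.node 4222 (BT.leaf c6_262) (BT.leaf c6_263)) (BT.leaf c6_264))) (BT.node 4227 (BT.node 4226 (BT.node 4225 (BT.leaf c6_265) (BT.leaf c6_266)) (BT.leaf c6_267)) (BT.node 4228 (BT.leaf c6_268) (BT.leaf c6_269))))))) (BT.node 4274 (BT.node 4252 (BT.node 4241 (BT.node 4235 (BT.node 4232 (BT.node 4231 (BT.node 4230 (BT.leaf c6_270) (BT.leaf c6_271)) (BT.leaf c6_272)) (BT.node 4234 (BT.node 4233 (BT.leaf c6_273) (BT.leaf c6_274)) (BT.leaf c6_275))) (BT.node 4238 (BT.node 4237 (BT.node 4236 (BT.leaf c6_276) (BT.leaf c6_277)) (BT.leaf c6_278)) (BT.node 4240 (BT.node 4239 (BT.leaf c6_279) (BT.leaf c6_280)) (BT.leaf c6_281)))) (BT.node 4247 (BT.node 4244 (BT.node 4243 (BT.node 4242 (BT.leaf c6_282) (BT.leaf c6_283)) (BT.leaf c6_284)) (BT.node 4246 (BT.node 4245 (BT.leaf c6_285) (BT.leaf c6_286)) (BT.leaf c6_287))) (BT.node 4250 (BT.node 4249 (BT.node 4248 (BT.leaf c6_288) (BT.leaf c6_289)) (BT.leaf c6_290)) (BT.node 4251 (BT.leaf c6_291) (BT.leaf c6_292))))) (BT.node 4263 (BT.node 4258 (BT.node 4255 (BT.node 4254 (BT.node 4253 (BT.leaf c6_293) (BT.leaf c6_294)) (BT.leaf c6_295)) (BT.node 4257 (BT.node 4256 (BT.leaf c6_296) (BT.leaf c6_297)) (BT.leaf c6_298))) (BT.node 4261 (BT.node 4260 (BT.node 4259 (BT.leaf c6_299) (BT.leaf c6_300)) (BT.leaf c6_301)) (BT.node 4262 (BT.leaf c6_302) (BT.leaf c6_303)))) (BT.node 4269 (BT.node 4266 (BT.node 4265 (BT.node 4264 (BT.leaf c6_304) (BT.leaf c6_305)) (BT.leaf c6_306)) (BT.node 4268 (BT.node 4267 (BT.leaf c6_307) (BT.leaf c6_308)) (BT.leaf c6_309))) (BT.node 4272 (BT.node 4271 (BT.node 4270 (BT.leaf c6_310) (BT.leaf c6_311)) (BT.leaf c6_312)) (BT.node 4273 (BT.leaf c6_313) (BT.leaf c6_314)))))) (BT.node 4297 (BT.node 4286 (BT.node 4280 (BT.node 4277 (BT.node 4276 (BT.node 4275 (BT.leaf c6_315) (BT.leaf c6_316)) (BT.leaf c6_317)) (BT.node 4279 (BT.node 4278 (BT.leaf c6_318) (BT.leaf c6_319)) (BT.leaf c6_320))) (BT.node 4283 (BT.node 4282 (BT.node 4281 (BT.leaf c6_321) (BT.leaf c6_322)) (BT.leaf c6_323)) (BT.node 4285 (BT.node 4284 (BT.leaf c6_324) (BT.leaf c6_325)) (BT.leaf c6_326)))) (BT.node 4292 (BT.node 4289 (BT.node 4288 (BT.node 4287 (BT.leaf c6_327) (BT.leaf c6_328)) (BT.leaf c6_329)) (BT.node 4291 (BT.node 4290 (BT.leaf c6_330) (BT.leaf c6_331)) (BT.leaf c6_332))) (BT.node 4295 (BT.node 4294 (BT.node 4293 (BT.leaf c6_333) (BT.leaf c6_334)) (BT.leaf c6_335)) (BT.node 4296 (BT.leaf c6_336) (BT.leaf c6_337))))) (BT.node 4308 (BT.node 4303 (BT.node 4300 (BT.node 4299 (BT.node 4298 (BT.leaf c6_338) (BT.leaf c6_339)) (BT.leaf c6_340)) (BT.node 4302 (BT.node 4301 (BT.leaf c6_341) (BT.leaf c6_342)) (BT.leaf c6_343))) (BT.node 4306 (BT.node 4305 (BT.node 4304 (BT.leaf c6_344) (BT.leaf c6_345)) (BT.leaf c6_346)) (BT.node 4307 (BT.leaf c6_347) (BT.leaf c6_348)))) (BT.node 4314 (BT.node 4311 (BT.node 4310 (BT.node 4309 (BT.leaf c6_349) (BT.leaf c6_350)) (BT.leaf c6_351)) (BT.node 4313 (BT.node 4312 (BT.leaf c6_352) (BT.leaf c6_353)) (BT.leaf c6_354))) (BT.node 4317 (BT.node 4316 (BT.node 4315 (BT.leaf c6_355) (BT.leaf c6_356)) (BT.leaf c6_357)) (BT.node 4318 (BT.leaf c6_358) (BT.leaf c6_359))))))))))) (BT.node 5039 (BT.node 4679 (BT.node 4499 (BT.node 4409 (BT.node 4364 (BT.node 4342 (BT.node 4331 (BT.node 4325 (BT.node 4322 (BT.node 4321 (BT.node 4320 (BT.leaf c7_0) (BT.leaf c7_1)) (BT.leaf c7_2)) (BT.node 4324 (BT.node 4323 (BT.leaf c7_3) (BT.leaf c7_4)) (BT.leaf c7_5))) (BT.node 4328 (BT.node 4327 (BT.node 4326 (BT.leaf c7_6) (BT.leaf c7_7)) (BT.leaf c7_8)) (BT.node 4330 (BT.node 4329 (BT.leaf c7_9) (BT.leaf c7_10)) (BT.leaf c7_11)))) (BT.node 4337 (BT.node 4334 (BT.node 4333 (BT.node 4332 (BT.leaf c7_12) (BT.leaf c7_13)) (BT.leaf c7_14)) (BT.node 4336 (BT.node 4335 (BT.leaf c7_15) (BT.leaf c7_16)) (BT.leaf c7_17))) (BT.node 4340 (BT.node 4339 (BT.node 4338 (BT.leaf c7_18) (BT.leaf c7_19)) (BT.leaf c7_20)) (BT.node 4341 (BT.leaf c7_21) (BT.leaf c7_22))))) (BT.node 4353 (BT.node 4348 (BT.node 4345 (BT.node 4344 (BT.node 4343 (BT.leaf c7_23) (BT.leaf c7_24)) (BT.leaf c7_25)) (BT.node 4347 (BT.node 4346 (BT.leaf c7_26) (BT.leaf c7_27)) (BT.leaf c7_28))) (BT.node 4351 (BT.node 4350 (BT.node 4349 (BT.leaf c7_29) (BT.leaf c7_30)) (BT.leaf c7_31)) (BT.node 4352 (BT.leaf c7_32) (BT.leaf c7_33)))) (BT.node 4359 (BT.node 4356 (BT.node 4355 (BT.node 4354 (BT.leaf c7_34) (BT.leaf c7_35)) (BT.leaf c7_36)) (BT.node 4358 (BT.node 4357 (BT.leaf c7_37) (BT.leaf c7_38)) (BT.leaf c7_39))) (BT.node 4362 (BT.node 4361 (BT.node 4360 (BT.leaf c7_40) (BT.leaf c7_41)) (BT.leaf c7_42)) (BT.node 4363 (BT.leaf c7_43) (BT.leaf c7_44)))))) (BT.node 4387 (BT.node 4376 (BT.node 4370 (BT.node 4367 (BT.node 4366 (BT.node 4365 (BT.leaf c7_45) (BT.leaf c7_46)) (BT.leaf c7_47)) (BT.node 4369 (BT.node 4368 (BT.leaf c7_48) (BT.leaf c7_49)) (BT.leaf c7_50))) (BT.node 4373 (BT.node 4372 (BT.node 4371 (BT.leaf c7_51) (BT.leaf c7_52)) (BT.leaf c7_53)) (BT.node 4375 (BT.node 4374 (BT.leaf c7_54) (BT.leaf c7_55)) (BT.leaf c7_56)))) (BT.node 4382 (BT.node 4379 (BT.node 4378 (BT.node 4377 (BT.leaf c7_57) (BT.leaf c7_58)) (BT.leaf c7_59)) (BT.node 4381 (BT.node 4380 (BT.leaf c7_60) (BT.leaf c7_61)) (BT.leaf c7_62))) (BT.node 4385 (BT.node 4384 (BT.node 4383 (BT.leaf c7_63) (BT.leaf c7_64)) (BT.leaf c7_65)) (BT.node 4386 (BT.leaf c7_66) (BT.leaf c7_67))))) (BT.node 4398 (BT.node 4393 (BT.node 4390 (BT.node 4389 (BT.node 4388 (BT.leaf c7_68) (BT.leaf c7_69)) (BT.leaf c7_70)) (BT.node 4392 (BT.node 4391 (BT.leaf c7_71) (BT.leaf c7_72)) (BT.leaf c7_73))) (BT.node 4396 (BT.node 4395 (BT.node 4394 (BT.leaf c7_74) (BT.leaf c7_75)) (BT.leaf c7_76)) (BT.node 4397 (BT.leaf c7_77) (BT.leaf c7_78)))) (BT.node 4404 (BT.node 4401 (BT.node 4400 (BT.node 4399 (BT.leaf c7_79) (BT.leaf c7_80)) (BT.leaf c7_81)) (BT.node 4403 (BT.node 4402 (BT.leaf c7_82) (BT.leaf c7_83)) (BT.leaf c7_84))) (BT.node 4407 (BT.node 4406 (BT.node 4405 (BT.leaf c7_85) (BT.leaf c7_86)) (BT.leaf c7_87)) (BT.node 4408 (BT.leaf c7_88) (BT.leaf c7_89))))))) (BT.node 4454 (BT.node 4432 (BT.node 4421 (BT.node 4415 (BT.node 4412 (BT.node 4411 (BT.node 4410 (BT.leaf c7_90) (BT.leaf c7_91)) (BT.leaf c7_92)) (BT.node 4414 (BT.node 4413 (BT.leaf c7_93) (BT.leaf c7_94)) (BT.leaf c7_95))) (BT.node 4418 (BT.node 4417 (BT.node 4416 (BT.leaf c7_96) (BT.leaf c7_97)) (BT.leaf c7_98)) (BT.node 4420 (BT.node 4419 (BT.leaf c7_99) (BT.leaf c7_100)) (BT.leaf c7_101)))) (BT.node 4427 (BT.node 4424 (BT.node 4423 (BT.node 4422 (BT.leaf c7_102) (BT.leaf c7_103)) (BT.leaf c7_104)) (BT.node 4426 (BT.node 4425 (BT.leaf c7_105) (BT.leaf c7_106)) (BT.leaf c7_107))) (BT.node 4430 (BT.node 4429 (BT.node 4428 (BT.leaf c7_108) (BT.leaf c7_109)) (BT.leaf c7_110)) (BT.node 4431 (BT.leaf c7_111) (BT.leaf c7_112))))) (BT.node 4443 (BT.node 4438 (BT.node 4435 (BT.node 4434 (BT.node 4433 (BT.leaf c7_113) (BT.leaf c7_114)) (BT.leaf c7_115)) (BT.node 4437 (BT.node 4436 (BT.leaf c7_116) (BT.leaf c7_117)) (BT.leaf c7_118))) (BT.node 4441 (BT.node 4440 (BT.node 4439 (BT.leaf c7_119) (BT.leaf c7_120)) (BT.leaf c7_121)) (BT.node 4442 (BT.leaf c7_122) (BT.leaf c7_123)))) (BT.node 4449 (BT.node 4446 (BT.node 4445 (BT.node 4444 (BT.leaf c7_124) (BT.leaf c7_125)) (BT.leaf c7_126)) (BT.node 4448 (BT.node 4447 (BT.leaf c7_127) (BT.leaf c7_128)) (BT.leaf c7_129))) (BT.node 4452 (BT.node 4451 (BT.node 4450 (BT.leaf c7_130) (BT.leaf c7_131)) (BT.leaf c7_132)) (BT.node 4453 (BT.leaf c7_133) (BT.leaf c7_134)))))) (BT.node 4477 (BT.node 4466 (BT.node 4460 (BT.node 4457 (BT.node 4456 (BT.node 4455 (BT.leaf c7_135) (BT.leaf c7_136)) (BT.leaf c7_137)) (BT.node 4459 (BT.node 4458 (BT.leaf c7_138) (BT.leaf c7_139)) (BT.leaf c7_140))) (BT.node 4463 (BT.node 4462 (BT.node 4461 (BT.leaf c7_141) (BT.leaf c7_142)) (BT.leaf c7_143)) (BT.node 4465 (BT.node 4464 (BT.leaf c7_144) (BT.leaf c7_145)) (BT.leaf c7_146)))) (BT.node 4472 (BT.node 4469 (BT.node 4468 (BT.node 4467 (BT.leaf c7_147) (BT.leaf c7_148)) (BT.leaf c7_149)) (BT.node 4471 (BT.node 4470 (BT.leaf c7_150) (BT.leaf c7_151)) (BT.leaf c7_152))) (BT.node 4475 (BT.node 4474 (BT.node 4473 (BT.leaf c7_153) (BT.leaf c7_154)) (BT.leaf c7_155)) (BT.node 4476 (BT.leaf c7_156) (BT.leaf c7_157))))) (BT.node 4488 (BT.node 4483 (BT.node 4480 (BT.node 4479 (BT.node 4478 (BT.leaf c7_158) (BT.leaf c7_159)) (BT.leaf c7_160)) (BT.node 4482 (BT.node 4481 (BT.leaf c7_161) (BT.leaf c7_162)) (BT.leaf c7_163))) (BT.node 4486 (BT.node 4485 (BT.node 4484 (BT.leaf c7_164) (BT.leaf c7_165)) (BT.leaf c7_166)) (BT.node 4487 (BT.leaf c7_167) (BT.leaf c7_168)))) (BT.node 4494 (BT.node 4491 (BT.node 4490 (BT.node 4489 (BT.leaf c7_169) (BT.leaf c7_170)) (BT.leaf c7_171)) (BT.node 4493 (BT.node 4492 (BT.leaf c7_172) (BT.leaf c7_173)) (BT.leaf c7_174))) (BT.node 4497 (BT.node 4496 (BT.node 4495 (BT.leaf c7_175) (BT.leaf c7_176)) (BT.leaf c7_177)) (BT.node 4498 (BT.leaf c7_178) (BT.leaf c7_179)))))))) (BT.node 4589 (BT.node 4544 (BT.node 4522 (BT.node 4511 (BT.node 4505 (BT.node 4502 (BT.node 4501 (BT.node 4500 (BT.leaf c7_180) (BT.leaf c7_181)) (BT.leaf c7_182)) (BT.node 4504 (BT.node 4503 (BT.leaf c7_183) (BT.leaf c7_184)) (BT.leaf c7_185))) (BT.node 4508 (BT.node 4507 (BT.node 4506 (BT.leaf c7_186) (BT.leaf c7_187)) (BT.leaf c7_188)) (BT.node 4510 (BT.node 4509 (BT.leaf c7_189) (BT.leaf c7_190)) (BT.leaf c7_191)))) (BT.node 4517 (BT.node 4514 (BT.node 4513 (BT.node 4512 (BT.leaf c7_192) (BT.leaf c7_193)) (BT.leaf c7_194)) (BT.node 4516 (BT.node 4515 (BT.leaf c7_195) (BT.leaf c7_196)) (BT.leaf c7_197))) (BT.node 4520 (BT.node 4519 (BT.node 4518 (BT.leaf c7_198) (BT.leaf c7_199)) (BT.leaf c7_200)) (BT.node 4521 (BT.leaf c7_201) (BT.leaf c7_202))))) (BT.node 4533 (BT.node 4528 (BT.node 4525 (BT.node 4524 (BT.node 4523 (BT.leaf c7_203) (BT.leaf c7_204)) (BT.leaf c7_205)) (BT.node 4527 (BT.node 4526 (BT.leaf c7_206) (BT.leaf c7_207)) (BT.leaf c7_208))) (BT.node 4531 (BT.node 4530 (BT.node 4529 (BT.leaf c7_209) (BT.leaf c7_210)) (BT.leaf c7_211)) (BT.node 4532 (BT.leaf c7_212) (BT.leaf c7_213)))) (BT.node 4539 (BT.node 4536 (BT.node 4535 (BT.node 4534 (BT.leaf c7_214) (BT.leaf c7_215)) (BT.leaf c7_216)) (BT.node 4538 (BT.node 4537 (BT.leaf c7_217) (BT.leaf c7_218)) (BT.leaf c7_219))) (BT.node 4542 (BT.node 4541 (BT.node 4540 (BT.leaf c7_220) (BT.leaf c7_221)) (BT.leaf c7_222)) (BT.node 4543 (BT.leaf c7_223) (BT.leaf c7_224)))))) (BT.node 4567 (BT.node 4556 (BT.node 4550 (BT.node 4547 (BT.node 4546 (BT.node 4545 (BT.leaf c7_225) (BT.leaf c7_226)) (BT.leaf c7_227)) (BT.node 4549 (BT.node 4548 (BT.leaf c7_228) (BT.leaf c7_229)) (BT.leaf c7_230))) (BT.node 4553 (BT.node 4552 (BT.node 4551 (BT.leaf c7_231) (BT.leaf c7_232)) (BT.leaf c7_233)) (BT.node 4555 (BT.node 4554 (BT.leaf c7_234) (BT.leaf c7_235)) (BT.leaf c7_236)))) (BT.node 4562 (BT.node 4559 (BT.node 4558 (BT.node 4557 (BT.leaf c7_237) (BT.leaf c7_238)) (BT.leaf c7_239)) (BT.node 4561 (BT.node 4560 (BT.leaf c7_240) (BT.leaf c7_241)) (BT.leaf c7_242))) (BT.node 4565 (BT.node 4564 (BT.node 4563 (BT.leaf c7_243) (BT.leaf c7_244)) (BT.leaf c7_245)) (BT.node 4566 (BT.leaf c7_246) (BT.leaf c7_247))))) (BT.node 4578 (BT.node 4573 (BT.node 4570 (BT.node 4569 (BT.node 4568 (BT.leaf c7_248) (BT.leaf c7_249)) (BT.leaf c7_250)) (BT.node 4572 (BT.node 4571 (BT.leaf c7_251) (BT.leaf c7_252)) (BT.leaf c7_253))) (BT.node 4576 (BT.node 4575 (BT.node 4574 (BT.leaf c7_254) (BT.leaf c7_255)) (BT.leaf c7_256)) (BT.node 4577 (BT.leaf c7_257) (BT.leaf c7_258)))) (BT.node 4584 (BT.node 4581 (BT.node 4580 (BT.node 4579 (BT.leaf c7_259) (BT.leaf c7_260)) (BT.leaf c7_261)) (BT.node 4583 (BT.node 4582 (BT.leaf c7_262) (BT.leaf c7_263)) (BT.leaf c7_264))) (BT.node 4587 (BT.node 4586 (BT.node 4585 (BT.leaf c7_265) (BT.leaf c7_266)) (BT.leaf c7_267)) (BT.node 4588 (BT.leaf c7_268) (BT.leaf c7_269))))))) (BT.node 4634 (BT.node 4612 (BT.node 4601 (BT.node 4595 (BT.node 4592 (BT.node 4591 (BT.node 4590 (BT.leaf c7_270) (BT.leaf c7_271)) (BT.leaf c7_272)) (BT.node 4594 (BT.node 4593 (BT.leaf c7_273) (BT.leaf c7_274)) (BT.leaf c7_275))) (BT.node 4598 (BT.node 4597 (BT.node 4596 (BT.leaf c7_276) (BT.leaf c7_277)) (BT.leaf c7_278)) (BT.node 4600 (BT.node 4599 (BT.leaf c7_279) (BT.leaf c7_280)) (BT.leaf c7_281)))) (BT.node 4607 (BT.node 4604 (BT.node 4603 (BT.node 4602 (BT.leaf c7_282) (BT.leaf c7_283)) (BT.leaf c7_284)) (BT.node 4606 (BT.node 4605 (BT.leaf c7_285) (BT.leaf c7_286)) (BT.leaf c7_287))) (BT.node 4610 (BT.node 4609 (BT.node 4608 (BT.leaf c7_288) (BT.leaf c7_289)) (BT.leaf c7_290)) (BT.node 4611 (BT.leaf c7_291) (BT.leaf c7_292))))) (BT.node 4623 (BT.node 4618 (BT.node 4615 (BT.node 4614 (BT.node 4613 (BT.leaf c7_293) (BT.leaf c7_294)) (BT.leaf c7_295)) (BT.node 4617 (BT.node 4616 (BT.leaf c7_296) (BT.leaf c7_297)) (BT.leaf c7_298))) (BT.node 4621 (BT.node 4620 (BT.node 4619 (BT.leaf c7_299) (BT.leaf c7_300)) (BT.leaf c7_301)) (BT.node 4622 (BT.leaf c7_302) (BT.leaf c7_303)))) (BT.node 4629 (BT.node 4626 (BT.node 4625 (BT.node 4624 (BT.leaf c7_304) (BT.leaf c7_305)) (BT.leaf c7_306)) (BT.node 4628 (BT.node 4627 (BT.leaf c7_307) (BT.leaf c7_308)) (BT.leaf c7_309))) (BT.node 4632 (BT.node 4631 (BT.node 4630 (BT.leaf c7_310) (BT.leaf c7_311)) (BT.leaf c7_312)) (BT.node 4633 (BT.leaf c7_313) (BT.leaf c7_314)))))) (BT.node 4657 (BT.node 4646 (BT.node 4640 (BT.node 4637 (BT.node 4636 (BT.node 4635 (BT.leaf c7_315) (BT.leaf c7_316)) (BT.leaf c7_317)) (BT.node 4639 (BT.node 4638 (BT.leaf c7_318) (BT.leaf c7_319)) (BT.leaf c7_320))) (BT.node 4643 (BT.node 4642 (BT.node 4641 (BT.leaf c7_321) (BT.leaf c7_322)) (BT.leaf c7_323)) (BT.node 4645 (BT.node 4644 (BT.leaf c7_324) (BT.leaf c7_325)) (BT.leaf c7_326)))) (BT.node 4652 (BT.node 4649 (BT.node 4648 (BT.node 4647 (BT.leaf c7_327) (BT.leaf c7_328)) (BT.leaf c7_329)) (BT.node 4651 (BT.node 4650 (BT.leaf c7_330) (BT.leaf c7_331)) (BT.leaf c7_332))) (BT.node 4655 (BT.node 4654 (BT.node 4653 (BT.leaf c7_333) (BT.leaf c7_334)) (BT.leaf c7_335)) (BT.node 4656 (BT.leaf c7_336) (BT.leaf c7_337))))) (BT.node 4668 (BT.node 4663 (BT.node 4660 (BT.node 4659 (BT.node 4658 (BT.leaf c7_338) (BT.leaf c7_339)) (BT.leaf c7_340)) (BT.node 4662 (BT.node 4661 (BT.leaf c7_341) (BT.leaf c7_342)) (BT.leaf c7_343))) (BT.node 4666 (BT.node 4665 (BT.node 4664 (BT.leaf c7_344) (BT.leaf c7_345)) (BT.leaf c7_346)) (BT.node 4667 (BT.leaf c7_347) (BT.leaf c7_348)))) (BT.node 4674 (BT.node 4671 (BT.node 4670 (BT.node 4669 (BT.leaf c7_349) (BT.leaf c7_350)) (BT.leaf c7_351)) (BT.node 4673 (BT.node 4672 (BT.leaf c7_352) (BT.leaf c7_353)) (BT.leaf c7_354))) (BT.node 4677 (BT.node 4676 (BT.node 4675 (BT.leaf c7_355) (BT.leaf c7_356)) (BT.leaf c7_357)) (BT.node 4678 (BT.leaf c7_358) (BT.leaf c7_359))))))))) (BT.node 4859 (BT.node 4769 (BT.node 4724 (BT.node 4702 (BT.node 4691 (BT.node 4685 (BT.node 4682 (BT.node 4681 (BT.node 4680 (BT.leaf c7_0) (BT.leaf c7_1)) (BT.leaf c7_2)) (BT.node 4684 (BT.node 4683 (BT.leaf c7_3) (BT.leaf c7_4)) (BT.leaf c7_5))) (BT.node 4688 (BT.node 4687 (BT.node 4686 (BT.leaf c7_6) (BT.leaf c7_7)) (BT.leaf c7_8)) (BT.node 4690 (BT.node 4689 (BT.leaf c7_9) (BT.leaf c7_10)) (BT.leaf c7_11)))) (BT.node 4697 (BT.node 4694 (BT.node 4693 (BT.node 4692 (BT.leaf c7_12) (BT.leaf c7_13)) (BT.leaf c7_14)) (BT.node 4696 (BT.node 4695 (BT.leaf c7_15) (BT.leaf c7_16)) (BT.leaf c7_17))) (BT.node 4700 (BT.node 4699 (BT.node 4698 (BT.leaf c7_18) (BT.leaf c7_19)) (BT.leaf c7_20)) (BT.node 4701 (BT.leaf c7_21) (BT.leaf c7_22))))) (BT.node 4713 (BT.node 4708 (BT.node 4705 (BT.node 4704 (BT.node 4703 (BT.leaf c7_23) (BT.leaf c7_24)) (BT.leaf c7_25)) (BT.node 4707 (BT.node 4706 (BT.leaf c7_26) (BT.leaf c7_27)) (BT.leaf c7_28))) (BT.node 4711 (BT.node 4710 (BT.node 4709 (BT.leaf c7_29) (BT.leaf c7_30)) (BT.leaf c7_31)) (BT.node 4712 (BT.leaf c7_32) (BT.leaf c7_33)))) (BT.node 4719 (BT.node 4716 (BT.node 4715 (BT.node 4714 (BT.leaf c7_34) (BT.leaf c7_35)) (BT.leaf c7_36)) (BT.node 4718 (BT.node 4717 (BT.leaf c7_37) (BT.leaf c7_38)) (BT.leaf c7_39))) (BT.node 4722 (BT.node 4721 (BT.node 4720 (BT.leaf c7_40) (BT.leaf c7_41)) (BT.leaf c7_42)) (BT.node 4723 (BT.leaf c7_43) (BT.leaf c7_44)))))) (BT.node 4747 (BT.node 4736 (BT.node 4730 (BT.node 4727 (BT.node 4726 (BT.node 4725 (BT.leaf c7_45) (BT.leaf c7_46)) (BT.leaf c7_47)) (BT.node 4729 (BT.node 4728 (BT.leaf c7_48) (BT.leaf c7_49)) (BT.leaf c7_50))) (BT.node 4733 (BT.node 4732 (BT.node 4731 (BT.leaf c7_51) (BT.leaf c7_52)) (BT.leaf c7_53)) (BT.node 4735 (BT.node 4734 (BT.leaf c7_54) (BT.leaf c7_55)) (BT.leaf c7_56)))) (BT.node 4742 (BT.node 4739 (BT.node 4738 (BT.node 4737 (BT.leaf c7_57) (BT.leaf c7_58)) (BT.leaf c7_59)) (BT.node 4741 (BT.node 4740 (BT.leaf c7_60) (BT.leaf c7_61)) (BT.leaf c7_62))) (BT.node 4745 (BT.node 4744 (BT.node 4743 (BT.leaf c7_63) (BT.leaf c7_64)) (BT.leaf c7_65)) (BT.node 4746 (BT.leaf c7_66) (BT.leaf c7_67))))) (BT.node 4758 (BT.node 4753 (BT.node 4750 (BT.node 4749 (BT.node 4748 (BT.leaf c7_68) (BT.leaf c7_69)) (BT.leaf c7_70)) (BT.node 4752 (BT.node 4751 (BT.leaf c7_71) (BT.leaf c7_72)) (BT.leaf c7_73))) (BT.node 4756 (BT.node 4755 (BT.node 4754 (BT.leaf c7_74) (BT.leaf c7_75)) (BT.leaf c7_76)) (BT.node 4757 (BT.leaf c7_77) (BT.leaf c7_78)))) (BT.node 4764 (BT.node 4761 (BT.node 4760 (BT.node 4759 (BT.leaf c7_79) (BT.leaf c7_80)) (BT.leaf c7_81)) (BT.node 4763 (BT.node 4762 (BT.leaf c7_82) (BT.leaf c7_83)) (BT.leaf c7_84))) (BT.node 4767 (BT.node 4766 (BT.node 4765 (BT.leaf c7_85) (BT.leaf c7_86)) (BT.leaf c7_87)) (BT.node 4768 (BT.leaf c7_88) (BT.leaf c7_89))))))) (BT.node 4814 (BT.node 4792 (BT.node 4781 (BT.node 4775 (BT.node 4772 (BT.node 4771 (BT.node 4770 (BT.leaf c7_90) (BT.leaf c7_91)) (BT.leaf c7_92)) (BT.node 4774 (BT.node 4773 (BT.leaf c7_93) (BT.leaf c7_94)) (BT.leaf c7_95))) (BT.node 4778 (BT.node 4777 (BT.node 4776 (BT.leaf c7_96) (BT.leaf c7_97)) (BT.leaf c7_98)) (BT.node 4780 (BT.node 4779 (BT.leaf c7_99) (BT.leaf c7_100)) (BT.leaf c7_101)))) (BT.node 4787 (BT.node 4784 (BT.node 4783 (BT.node 4782 (BT.leaf c7_102) (BT.leaf c7_103)) (BT.leaf c7_104)) (BT.node 4786 (BT.node 4785 (BT.leaf c7_105) (BT.leaf c7_106)) (BT.leaf c7_107))) (BT.node 4790 (BT.node 4789 (BT.node 4788 (BT.leaf c7_108) (BT.leaf c7_109)) (BT.leaf c7_110)) (BT.node 4791 (BT.leaf c7_111) (BT.leaf c7_112))))) (BT.node 4803 (BT.node 4798 (BT.node 4795 (BT.node 4794 (BT.node 4793 (BT.leaf c7_113) (BT.leaf c7_114)) (BT.leaf c7_115)) (BT.node 4797 (BT.node 4796 (BT.leaf c7_116) (BT.leaf c7_117)) (BT.leaf c7_118))) (BT.node 4801 (BT.node 4800 (BT.node 4799 (BT.leaf c7_119) (BT.leaf c7_120)) (BT.leaf c7_121)) (BT.node 4802 (BT.leaf c7_122) (BT.leaf c7_123)))) (BT.node 4809 (BT.node 4806 (BT.node 4805 (BT.node 4804 (BT.leaf c7_124) (BT.leaf c7_125)) (BT.leaf c7_126)) (BT.node 4808 (BT.node 4807 (BT.leaf c7_127) (BT.leaf c7_128)) (BT.leaf c7_129))) (BT.node 4812 (BT.node 4811 (BT.node 4810 (BT.leaf c7_130) (BT.leaf c7_131)) (BT.leaf c7_132)) (BT.node 4813 (BT.leaf c7_133) (BT.leaf c7_134)))))) (BT.node 4837 (BT.node 4826 (BT.node 4820 (BT.node 4817 (BT.node 4816 (BT.node 4815 (BT.leaf c7_135) (BT.leaf c7_136)) (BT.leaf c7_137)) (BT.node 4819 (BT.node 4818 (BT.leaf c7_138) (BT.leaf c7_139)) (BT.leaf c7_140))) (BT.node 4823 (BT.node 4822 (BT.node 4821 (BT.leaf c7_141) (BT.leaf c7_142)) (BT.leaf c7_143)) (BT.node 4825 (BT.node 4824 (BT.leaf c7_144) (BT.leaf c7_145)) (BT.leaf c7_146)))) (BT.node 4832 (BT.node 4829 (BT.node 4828 (BT.node 4827 (BT.leaf c7_147) (BT.leaf c7_148)) (BT.leaf c7_149)) (BT.node 4831 (BT.node 4830 (BT.leaf c7_150) (BT.leaf c7_151)) (BT.leaf c7_152))) (BT.node 4835 (BT.node 4834 (BT.node 4833 (BT.leaf c7_153) (BT.leaf c7_154)) (BT.leaf c7_155)) (BT.node 4836 (BT.leaf c7_156) (BT.leaf c7_157))))) (BT.node 4848 (BT.node 4843 (BT.node 4840 (BT.node 4839 (BT.node 4838 (BT.leaf c7_158) (BT.leaf c7_159)) (BT.leaf c7_160)) (BT.node 4842 (BT.node 4841 (BT.leaf c7_161) (BT.leaf c7_162)) (BT.leaf c7_163))) (BT.node 4846 (BT.node 4845 (BT.node 4844 (BT.leaf c7_164) (BT.leaf c7_165)) (BT.leaf c7_166)) (BT.node 4847 (BT.leaf c7_167) (BT.leaf c7_168)))) (BT.node 4854 (BT.node 4851 (BT.node 4850 (BT.node 4849 (BT.leaf c7_169) (BT.leaf c7_170)) (BT.leaf c7_171)) (BT.node 4853 (BT.node 4852 (BT.leaf c7_172) (BT.leaf c7_173)) (BT.leaf c7_174))) (BT.node 4857 (BT.node 4856 (BT.node 4855 (BT.leaf c7_175) (BT.leaf c7_176)) (BT.leaf c7_177)) (BT.node 4858 (BT.leaf c7_178) (BT.leaf c7_179)))))))) (BT.node 4949 (BT.node 4904 (BT.node 4882 (BT.node 4871 (BT.node 4865 (BT.node 4862 (BT.node 4861 (BT.node 4860 (BT.leaf c7_180) (BT.leaf c7_181)) (BT.leaf c7_182)) (BT.node 4864 (BT.node 4863 (BT.leaf c7_183) (BT.leaf c7_184)) (BT.leaf c7_185))) (BT.node 4868 (BT.node 4867 (BT.node 4866 (BT.leaf c7_186) (BT.leaf c7_187)) (BT.leaf c7_188)) (BT.node 4870 (BT.node 4869 (BT.leaf c7_189) (BT.leaf c7_190)) (BT.leaf c7_191)))) (BT.node 4877 (BT.node 4874 (BT.node 4873 (BT.node 4872 (BT.leaf c7_192) (BT.leaf c7_193)) (BT.leaf c7_194)) (BT.node 4876 (BT.node 4875 (BT.leaf c7_195) (BT.leaf c7_196)) (BT.leaf c7_197))) (BT.node 4880 (BT.node 4879 (BT.node 4878 (BT.leaf c7_198) (BT.leaf c7_199)) (BT.leaf c7_200)) (BT.node 4881 (BT.leaf c7_201) (BT.leaf c7_202))))) (BT.node 4893 (BT.node 4888 (BT.node 4885 (BT.node 4884 (BT.node 4883 (BT.leaf c7_203) (BT.leaf c7_204)) (BT.leaf c7_205)) (BT.node 4887 (BT.node 4886 (BT.leaf c7_206) (BT.leaf c7_207)) (BT.leaf c7_208))) (BT.node 4891 (BT.node 4890 (BT.node 4889 (BT.leaf c7_209) (BT.leaf c7_210)) (BT.leaf c7_211)) (BT.node 4892 (BT.leaf c7_212) (BT.leaf c7_213)))) (BT.node 4899 (BT.node 4896 (BT.node 4895 (BT.node 4894 (BT.leaf c7_214) (BT.leaf c7_215)) (BT.leaf c7_216)) (BT.node 4898 (BT.node 4897 (BT.leaf c7_217) (BT.leaf c7_218)) (BT.leaf c7_219))) (BT.node 4902 (BT.node 4901 (BT.node 4900 (BT.leaf c7_220) (BT.leaf c7_221)) (BT.leaf c7_222)) (BT.node 4903 (BT.leaf c7_223) (BT.leaf c7_224)))))) (BT.node 4927 (BT.node 4916 (BT.node 4910 (BT.node 4907 (BT.node 4906 (BT.node 4905 (BT.leaf c7_225) (BT.leaf c7_226)) (BT.leaf c7_227)) (BT.node 4909 (BT.node 4908 (BT.leaf c7_228) (BT.leaf c7_229)) (BT.leaf c7_230))) (BT.node 4913 (BT.node 4912 (BT.node 4911 (BT.leaf c7_231) (BT.leaf c7_232)) (BT.leaf c7_233)) (BT.node 4915 (BT.node 4914 (BT.leaf c7_234) (BT.leaf c7_235)) (BT.leaf c7_236)))) (BT.node 4922 (BT.node 4919 (BT.node 4918 (BT.node 4917 (BT.leaf c7_237) (BT.leaf c7_238)) (BT.leaf c7_239)) (BT.node 4921 (BT.node 4920 (BT.leaf c7_240) (BT.leaf c7_241)) (BT.leaf c7_242))) (BT.node 4925 (BT.node 4924 (BT.node 4923 (BT.leaf c7_243) (BT.leaf c7_244)) (BT.leaf c7_245)) (BT.node 4926 (BT.leaf c7_246) (BT.leaf c7_247))))) (BT.node 4938 (BT.node 4933 (BT.node 4930 (BT.node 4929 (BT.node 4928 (BT.leaf c7_248) (BT.leaf c7_249)) (BT.leaf c7_250)) (BT.node 4932 (BT.node 4931 (BT.leaf c7_251) (BT.leaf c7_252)) (BT.leaf c7_253))) (BT.node 4936 (BT.node 4935 (BT.node 4934 (BT.leaf c7_254) (BT.leaf c7_255)) (BT.leaf c7_256)) (BT.node 4937 (BT.leaf c7_257) (BT.leaf c7_258)))) (BT.node 4944 (BT.node 4941 (BT.node 4940 (BT.node 4939 (BT.leaf c7_259) (BT.leaf c7_260)) (BT.leaf c7_261)) (BT.node 4943 (BT.node 4942 (BT.leaf c7_262) (BT.leaf c7_263)) (BT.leaf c7_264))) (BT.node 4947 (BT.node 4946 (BT.node 4945 (BT.leaf c7_265) (BT.leaf c7_266)) (BT.leaf c7_267)) (BT.node 4948 (BT.leaf c7_268) (BT.leaf c7_269))))))) (BT.node 4994 (BT.node 4972 (BT.node 4961 (BT.node 4955 (BT.node 4952 (BT.node 4951 (BT.node 4950 (BT.leaf c7_270) (BT.leaf c7_271)) (BT.leaf c7_272)) (BT.node 4954 (BT.node 4953 (BT.leaf c7_273) (BT.leaf c7_274)) (BT.leaf c7_275))) (BT.node 4958 (BT.node 4957 (BT.node 4956 (BT.leaf c7_276) (BT.leaf c7_277)) (BT.leaf c7_278)) (BT.node 4960 (BT.node 4959 (BT.leaf c7_279) (BT.leaf c7_280)) (BT.leaf c7_281)))) (BT.node 4967 (BT.node 4964 (BT.node 4963 (BT.node 4962 (BT.leaf c7_282) (BT.leaf c7_283)) (BT.leaf c7_284)) (BT.node 4966 (BT.node 4965 (BT.leaf c7_285) (BT.leaf c7_286)) (BT.leaf c7_287))) (BT.node 4970 (BT.node 4969 (BT.node 4968 (BT.leaf c7_288) (BT.leaf c7_289)) (BT.leaf c7_290)) (BT.node 4971 (BT.leaf c7_291) (BT.leaf c7_292))))) (BT.node 4983 (BT.node 4978 (BT.node 4975 (BT.node 4974 (BT.node 4973 (BT.leaf c7_293) (BT.leaf c7_294)) (BT.leaf c7_295)) (BT.node 4977 (BT.node 4976 (BT.leaf c7_296) (BT.leaf c7_297)) (BT.leaf c7_298))) (BT.node 4981 (BT.node 4980 (BT.node 4979 (BT.leaf c7_299) (BT.leaf c7_300)) (BT.leaf c7_301)) (BT.node 4982 (BT.leaf c7_302) (BT.leaf c7_303)))) (BT.node 4989 (BT.node 4986 (BT.node 4985 (BT.node 4984 (BT.leaf c7_304) (BT.leaf c7_305)) (BT.leaf c7_306)) (BT.node 4988 (BT.node 4987 (BT.leaf c7_307) (BT.leaf c7_308)) (BT.leaf c7_309))) (BT.node 4992 (BT.node 4991 (BT.node 4990 (BT.leaf c7_310) (BT.leaf c7_311)) (BT.leaf c7_312)) (BT.node 4993 (BT.leaf c7_313) (BT.leaf c7_314)))))) (BT.node 5017 (BT.node 5006 (BT.node 5000 (BT.node 4997 (BT.node 4996 (BT.node 4995 (BT.leaf c7_315) (BT.leaf c7_316)) (BT.leaf c7_317)) (BT.node 4999 (BT.node 4998 (BT.leaf c7_318) (BT.leaf c7_319)) (BT.leaf c7_320))) (BT.node 5003 (BT.node 5002 (BT.node 5001 (BT.leaf c7_321) (BT.leaf c7_322)) (BT.leaf c7_323)) (BT.node 5005 (BT.node 5004 (BT.leaf c7_324) (BT.leaf c7_325)) (BT.leaf c7_326)))) (BT.node 5012 (BT.node 5009 (BT.node 5008 (BT.node 5007 (BT.leaf c7_327) (BT.leaf c7_328)) (BT.leaf c7_329)) (BT.node 5011 (BT.node 5010 (BT.leaf c7_330) (BT.leaf c7_331)) (BT.leaf c7_332))) (BT.node 5015 (BT.node 5014 (BT.node 5013 (BT.leaf c7_333) (BT.leaf c7_334)) (BT.leaf c7_335)) (BT.node 5016 (BT.leaf c7_336) (BT.leaf c7_337))))) (BT.node 5028 (BT.node 5023 (BT.node 5020 (BT.node 5019 (BT.node 5018 (BT.leaf c7_338) (BT.leaf c7_339)) (BT.leaf c7_340)) (BT.node 5022 (BT.node 5021 (BT.leaf c7_341) (BT.leaf c7_342)) (BT.leaf c7_343))) (BT.node 5026 (BT.node 5025 (BT.node 5024 (BT.leaf c7_344) (BT.leaf c7_345)) (BT.leaf c7_346)) (BT.node 5027 (BT.leaf c7_347) (BT.leaf c7_348)))) (BT.node 5034 (BT.node 5031 (BT.node 5030 (BT.node 5029 (BT.leaf c7_349) (BT.leaf c7_350)) (BT.leaf c7_351)) (BT.node 5033 (BT.node 5032 (BT.leaf c7_352) (BT.leaf c7_353)) (BT.leaf c7_354))) (BT.node 5037 (BT.node 5036 (BT.node 5035 (BT.leaf c7_355) (BT.leaf c7_356)) (BT.leaf c7_357)) (BT.node 5038 (BT.leaf c7_358) (BT.leaf c7_359)))))))))) (BT.node 5399 (BT.node 5219 (BT.node 5129 (BT.node 5084 (BT.node 5062 (BT.node 5051 (BT.node 5045 (BT.node 5042 (BT.node 5041 (BT.node 5040 (BT.leaf c8_0) (BT.leaf c8_1)) (BT.leaf c8_2)) (BT.node 5044 (BT.node 5043 (BT.leaf c8_3) (BT.leaf c8_4)) (BT.leaf c8_5))) (BT.node 5048 (BT.node 5047 (BT.node 5046 (BT.leaf c8_6) (BT.leaf c8_7)) (BT.leaf c8_8)) (BT.node 5050 (BT.node 5049 (BT.leaf c8_9) (BT.leaf c8_10)) (BT.leaf c8_11)))) (BT.node 5057 (BT.node 5054 (BT.node 5053 (BT.node 5052 (BT.leaf c8_12) (BT.leaf c8_13)) (BT.leaf c8_14)) (BT.node 5056 (BT.node 5055 (BT.leaf c8_15) (BT.leaf c8_16)) (BT.leaf c8_17))) (BT.node 5060 (BT.node 5059 (BT.node 5058 (BT.leaf c8_18) (BT.leaf c8_19)) (BT.leaf c8_20)) (BT.node 5061 (BT.leaf c8_21) (BT.leaf c8_22))))) (BT.node 5073 (BT.node 5068 (BT.node 5065 (BT.node 5064 (BT.node 5063 (BT.leaf c8_23) (BT.leaf c8_24)) (BT.leaf c8_25)) (BT.node 5067 (BT.node 5066 (BT.leaf c8_26) (BT.leaf c8_27)) (BT.leaf c8_28))) (BT.node 5071 (BT.node 5070 (BT.node 5069 (BT.leaf c8_29) (BT.leaf c8_30)) (BT.leaf c8_31)) (BT.node 5072 (BT.leaf c8_32) (BT.leaf c8_33)))) (BT.node 5079 (BT.node 5076 (BT.node 5075 (BT.node 5074 (BT.leaf c8_34) (BT.leaf c8_35)) (BT.leaf c8_36)) (BT.node 5078 (BT.node 5077 (BT.leaf c8_37) (BT.leaf c8_38)) (BT.leaf c8_39))) (BT.node 5082 (BT.node 5081 (BT.node 5080 (BT.leaf c8_40) (BT.leaf c8_41)) (BT.leaf c8_42)) (BT.node 5083 (BT.leaf c8_43) (BT.leaf c8_44)))))) (BT.node 5107 (BT.node 5096 (BT.node 5090 (BT.node 5087 (BT.node 5086 (BT.node 5085 (BT.leaf c8_45) (BT.leaf c8_46)) (BT.leaf c8_47)) (BT.node 5089 (BT.node 5088 (BT.leaf c8_48) (BT.leaf c8_49)) (BT.leaf c8_50))) (BT.node 5093 (BT.node 5092 (BT.node 5091 (BT.leaf c8_51) (BT.leaf c8_52)) (BT.leaf c8_53)) (BT.node 5095 (BT.node 5094 (BT.leaf c8_54) (BT.leaf c8_55)) (BT.leaf c8_56)))) (BT.node 5102 (BT.node 5099 (BT.node 5098 (BT.node 5097 (BT.leaf c8_57) (BT.leaf c8_58)) (BT.leaf c8_59)) (BT.node 5101 (BT.node 5100 (BT.leaf c8_60) (BT.leaf c8_61)) (BT.leaf c8_62))) (BT.node 5105 (BT.node 5104 (BT.node 5103 (BT.leaf c8_63) (BT.leaf c8_64)) (BT.leaf c8_65)) (BT.node 5106 (BT.leaf c8_66) (BT.leaf c8_67))))) (BT.node 5118 (BT.node 5113 (BT.node 5110 (BT.node 5109 (BT.node 5108 (BT.leaf c8_68) (BT.leaf c8_69)) (BT.leaf c8_70)) (BT.node 5112 (BT.node 5111 (BT.leaf c8_71) (BT.leaf c8_72)) (BT.leaf c8_73))) (BT.node 5116 (BT.node 5115 (BT.node 5114 (BT.leaf c8_74) (BT.leaf c8_75)) (BT.leaf c8_76)) (BT.node 5117 (BT.leaf c8_77) (BT.leaf c8_78)))) (BT.node 5124 (BT.node 5121 (BT.node 5120 (BT.node 5119 (BT.leaf c8_79) (BT.leaf c8_80)) (BT.leaf c8_81)) (BT.node 5123 (BT.node 5122 (BT.leaf c8_82) (BT.leaf c8_83)) (BT.leaf c8_84))) (BT.node 5127 (BT.node 5126 (BT.node 5125 (BT.leaf c8_85) (BT.leaf c8_86)) (BT.leaf c8_87)) (BT.node 5128 (BT.leaf c8_88) (BT.leaf c8_89))))))) (BT.node 5174 (BT.node 5152 (BT.node 5141 (BT.node 5135 (BT.node 5132 (BT.node 5131 (BT.node 5130 (BT.leaf c8_90) (BT.leaf c8_91)) (BT.leaf c8_92)) (BT.node 5134 (BT.node 5133 (BT.leaf c8_93) (BT.leaf c8_94)) (BT.leaf c8_95))) (BT.node 5138 (BT.node 5137 (BT.node 5136 (BT.leaf c8_96) (BT.leaf c8_97)) (BT.leaf c8_98)) (BT.node 5140 (BT.node 5139 (BT.leaf c8_99) (BT.leaf c8_100)) (BT.leaf c8_101)))) (BT.node 5147 (BT.node 5144 (BT.node 5143 (BT.node 5142 (BT.leaf c8_102) (BT.leaf c8_103)) (BT.leaf c8_104)) (BT.node 5146 (BT.node 5145 (BT.leaf c8_105) (BT.leaf c8_106)) (BT.leaf c8_107))) (BT.node 5150 (BT.node 5149 (BT.node 5148 (BT.leaf c8_108) (BT.leaf c8_109)) (BT.leaf c8_110)) (BT.node 5151 (BT.leaf c8_111) (BT.leaf c8_112))))) (BT.node 5163 (BT.node 5158 (BT.node 5155 (BT.node 5154 (BT.node 5153 (BT.leaf c8_113) (BT.leaf c8_114)) (BT.leaf c8_115)) (BT.node 5157 (BT.node 5156 (BT.leaf c8_116) (BT.leaf c8_117)) (BT.leaf c8_118))) (BT.node 5161 (BT.node 5160 (BT.node 5159 (BT.leaf c8_119) (BT.leaf c8_120)) (BT.leaf c8_121)) (BT.node 5162 (BT.leaf c8_122) (BT.leaf c8_123)))) (BT.node 5169 (BT.node 5166 (BT.node 5165 (BT.node 5164 (BT.leaf c8_124) (BT.leaf c8_125)) (BT.leaf c8_126)) (BT.node 5168 (BT.node 5167 (BT.leaf c8_127) (BT.leaf c8_128)) (BT.leaf c8_129))) (BT.node 5172 (BT.node 5171 (BT.node 5170 (BT.leaf c8_130) (BT.leaf c8_131)) (BT.leaf c8_132)) (BT.node 5173 (BT.leaf c8_133) (BT.leaf c8_134)))))) (BT.node 5197 (BT.node 5186 (BT.node 5180 (BT.node 5177 (BT.node 5176 (BT.node 5175 (BT.leaf c8_135) (BT.leaf c8_136)) (BT.leaf c8_137)) (BT.node 5179 (BT.node 5178 (BT.leaf c8_138) (BT.leaf c8_139)) (BT.leaf c8_140))) (BT.node 5183 (BT.node 5182 (BT.node 5181 (BT.leaf c8_141) (BT.leaf c8_142)) (BT.leaf c8_143)) (BT.node 5185 (BT.node 5184 (BT.leaf c8_144) (BT.leaf c8_145)) (BT.leaf c8_146)))) (BT.node 5192 (BT.node 5189 (BT.node 5188 (BT.node 5187 (BT.leaf c8_147) (BT.leaf c8_148)) (BT.leaf c8_149)) (BT.node 5191 (BT.node 5190 (BT.leaf c8_150) (BT.leaf c8_151)) (BT.leaf c8_152))) (BT.node 5195 (BT.node 5194 (BT.node 5193 (BT.leaf c8_153) (BT.leaf c8_154)) (BT.leaf c8_155)) (BT.node 5196 (BT.leaf c8_156) (BT.leaf c8_157))))) (BT.node 5208 (BT.node 5203 (BT.node 5200 (BT.node 5199 (BT.node 5198 (BT.leaf c8_158) (BT.leaf c8_159)) (BT.leaf c8_160)) (BT.node 5202 (BT.node 5201 (BT.leaf c8_161) (BT.leaf c8_162)) (BT.leaf c8_163))) (BT.node 5206 (BT.node 5205 (BT.node 5204 (BT.leaf c8_164) (BT.leaf c8_165)) (BT.leaf c8_166)) (BT.node 5207 (BT.leaf c8_167) (BT.leaf c8_168)))) (BT.node 5214 (BT.node 5211 (BT.node 5210 (BT.node 5209 (BT.leaf c8_169) (BT.leaf c8_170)) (BT.leaf c8_171)) (BT.node 5213 (BT.node 5212 (BT.leaf c8_172) (BT.leaf c8_173)) (BT.leaf c8_174))) (BT.node 5217 (BT.node 5216 (BT.node 5215 (BT.leaf c8_175) (BT.leaf c8_176)) (BT.leaf c8_177)) (BT.node 5218 (BT.leaf c8_178) (BT.leaf c8_179)))))))) (BT.node 5309 (BT.node 5264 (BT.node 5242 (BT.node 5231 (BT.node 5225 (BT.node 5222 (BT.node 5221 (BT.node 5220 (BT.leaf c8_180) (BT.leaf c8_181)) (BT.leaf c8_182)) (BT.node 5224 (BT.node 5223 (BT.leaf c8_183) (BT.leaf c8_184)) (BT.leaf c8_185))) (BT.node 5228 (BT.node 5227 (BT.node 5226 (BT.leaf c8_186) (BT.leaf c8_187)) (BT.leaf c8_188)) (BT.node 5230 (BT.node 5229 (BT.leaf c8_189) (BT.leaf c8_190)) (BT.leaf c8_191)))) (BT.node 5237 (BT.node 5234 (BT.node 5233 (BT.node 5232 (BT.leaf c8_192) (BT.leaf c8_193)) (BT.leaf c8_194)) (BT.node 5236 (BT.node 5235 (BT.leaf c8_195) (BT.leaf c8_196)) (BT.leaf c8_197))) (BT.node 5240 (BT.node 5239 (BT.node 5238 (BT.leaf c8_198) (BT.leaf c8_199)) (BT.leaf c8_200)) (BT.node 5241 (BT.leaf c8_201) (BT.leaf c8_202))))) (BT.node 5253 (BT.node 5248 (BT.node 5245 (BT.node 5244 (BT.node 5243 (BT.leaf c8_203) (BT.leaf c8_204)) (BT.leaf c8_205)) (BT.node 5247 (BT.node 5246 (BT.leaf c8_206) (BT.leaf c8_207)) (BT.leaf c8_208))) (BT.node 5251 (BT.node 5250 (BT.node 5249 (BT.leaf c8_209) (BT.leaf c8_210)) (BT.leaf c8_211)) (BT.node 5252 (BT.leaf c8_212) (BT.leaf c8_213)))) (BT.node 5259 (BT.node 5256 (BT.node 5255 (BT.node 5254 (BT.leaf c8_214) (BT.leaf c8_215)) (BT.leaf c8_216)) (BT.node 5258 (BT.node 5257 (BT.leaf c8_217) (BT.leaf c8_218)) (BT.leaf c8_219))) (BT.node 5262 (BT.node 5261 (BT.node 5260 (BT.leaf c8_220) (BT.leaf c8_221)) (BT.leaf c8_222)) (BT.node 5263 (BT.leaf c8_223) (BT.leaf c8_224)))))) (BT.node 5287 (BT.node 5276 (BT.node 5270 (BT.node 5267 (BT.node 5266 (BT.node 5265 (BT.leaf c8_225) (BT.leaf c8_226)) (BT.leaf c8_227)) (BT.node 5269 (BT.node 5268 (BT.leaf c8_228) (BT.leaf c8_229)) (BT.leaf c8_230))) (BT.node 5273 (BT.node 5272 (BT.node 5271 (BT.leaf c8_231) (BT.leaf c8_232)) (BT.leaf c8_233)) (BT.node 5275 (BT.node 5274 (BT.leaf c8_234) (BT.leaf c8_235)) (BT.leaf c8_236)))) (BT.node 5282 (BT.node 5279 (BT.node 5278 (BT.node 5277 (BT.leaf c8_237) (BT.leaf c8_238)) (BT.leaf c8_239)) (BT.node 5281 (BT.node 5280 (BT.leaf c8_240) (BT.leaf c8_241)) (BT.leaf c8_242))) (BT.node 5285 (BT.node 5284 (BT.node 5283 (BT.leaf c8_243) (BT.leaf c8_244)) (BT.leaf c8_245)) (BT.node 5286 (BT.leaf c8_246) (BT.leaf c8_247))))) (BT.node 5298 (BT.node 5293 (BT.node 5290 (BT.node 5289 (BT.node 5288 (BT.leaf c8_248) (BT.leaf c8_249)) (BT.leaf c8_250)) (BT.node 5292 (BT.node 5291 (BT.leaf c8_251) (BT.leaf c8_252)) (BT.leaf c8_253))) (BT.node 5296 (BT.node 5295 (BT.node 5294 (BT.leaf c8_254) (BT.leaf c8_255)) (BT.leaf c8_256)) (BT.node 5297 (BT.leaf c8_257) (BT.leaf c8_258)))) (BT.node 5304 (BT.node 5301 (BT.node 5300 (BT.node 5299 (BT.leaf c8_259) (BT.leaf c8_260)) (BT.leaf c8_261)) (BT.node 5303 (BT.node 5302 (BT.leaf c8_262) (BT.leaf c8_263)) (BT.leaf c8_264))) (BT.node 5307 (BT.node 5306 (BT.node 5305 (BT.leaf c8_265) (BT.leaf c8_266)) (BT.leaf c8_267)) (BT.node 5308 (BT.leaf c8_268) (BT.leaf c8_269))))))) (BT.node 5354 (BT.node 5332 (BT.node 5321 (BT.node 5315 (BT.node 5312 (BT.node 5311 (BT.node 5310 (BT.leaf c8_270) (BT.leaf c8_271)) (BT.leaf c8_272)) (BT.node 5314 (BT.node 5313 (BT.leaf c8_273) (BT.leaf c8_274)) (BT.leaf c8_275))) (BT.node 5318 (BT.node 5317 (BT.node 5316 (BT.leaf c8_276) (BT.leaf c8_277)) (BT.leaf c8_278)) (BT.node 5320 (BT.node 5319 (BT.leaf c8_279) (BT.leaf c8_280)) (BT.leaf c8_281)))) (BT.node 5327 (BT.node 5324 (BT.node 5323 (BT.node 5322 (BT.leaf c8_282) (BT.leaf c8_283)) (BT.leaf c8_284)) (BT.node 5326 (BT.node 5325 (BT.leaf c8_285) (BT.leaf c8_286)) (BT.leaf c8_287))) (BT.node 5330 (BT.node 5329 (BT.node 5328 (BT.leaf c8_288) (BT.leaf c8_289)) (BT.leaf c8_290)) (BT.node 5331 (BT.leaf c8_291) (BT.leaf c8_292))))) (BT.node 5343 (BT.node 5338 (BT.node 5335 (BT.node 5334 (BT.node 5333 (BT.leaf c8_293) (BT.leaf c8_294)) (BT.leaf c8_295)) (BT.node 5337 (BT.node 5336 (BT.leaf c8_296) (BT.leaf c8_297)) (BT.leaf c8_298))) (BT.node 5341 (BT.node 5340 (BT.node 5339 (BT.leaf c8_299) (BT.leaf c8_300)) (BT.leaf c8_301)) (BT.node 5342 (BT.leaf c8_302) (BT.leaf c8_303)))) (BT.node 5349 (BT.node 5346 (BT.node 5345 (BT.node 5344 (BT.leaf c8_304) (BT.leaf c8_305)) (BT.leaf c8_306)) (BT.node 5348 (BT.node 5347 (BT.leaf c8_307) (BT.leaf c8_308)) (BT.leaf c8_309))) (BT.node 5352 (BT.node 5351 (BT.node 5350 (BT.leaf c8_310) (BT.leaf c8_311)) (BT.leaf c8_312)) (BT.node 5353 (BT.leaf c8_313) (BT.leaf c8_314)))))) (BT.node 5377 (BT.node 5366 (BT.node 5360 (BT.node 5357 (BT.node 5356 (BT.node 5355 (BT.leaf c8_315) (BT.leaf c8_316)) (BT.leaf c8_317)) (BT.node 5359 (BT.node 5358 (BT.leaf c8_318) (BT.leaf c8_319)) (BT.leaf c8_320))) (BT.node 5363 (BT.node 5362 (BT.node 5361 (BT.leaf c8_321) (BT.leaf c8_322)) (BT.leaf c8_323)) (BT.node 5365 (BT.node 5364 (BT.leaf c8_324) (BT.leaf c8_325)) (BT.leaf c8_326)))) (BT.node 5372 (BT.node 5369 (BT.node 5368 (BT.node 5367 (BT.leaf c8_327) (BT.leaf c8_328)) (BT.leaf c8_329)) (BT.node 5371 (BT.node 5370 (BT.leaf c8_330) (BT.leaf c8_331)) (BT.leaf c8_332))) (BT.node 5375 (BT.node 5374 (BT.node 5373 (BT.leaf c8_333) (BT.leaf c8_334)) (BT.leaf c8_335)) (BT.node 5376 (BT.leaf c8_336) (BT.leaf c8_337))))) (BT.node 5388 (BT.node 5383 (BT.node 5380 (BT.node 5379 (BT.node 5378 (BT.leaf c8_338) (BT.leaf c8_339)) (BT.leaf c8_340)) (BT.node 5382 (BT.node 5381 (BT.leaf c8_341) (BT.leaf c8_342)) (BT.leaf c8_343))) (BT.node 5386 (BT.node 5385 (BT.node 5384 (BT.leaf c8_344) (BT.leaf c8_345)) (BT.leaf c8_346)) (BT.node 5387 (BT.leaf c8_347) (BT.leaf c8_348)))) (BT.node 5394 (BT.node 5391 (BT.node 5390 (BT.node 5389 (BT.leaf c8_349) (BT.leaf c8_350)) (BT.leaf c8_351)) (BT.node 5393 (BT.node 5392 (BT.leaf c8_352) (BT.leaf c8_353)) (BT.leaf c8_354))) (BT.node 5397 (BT.node 5396 (BT.node 5395 (BT.leaf c8_355) (BT.leaf c8_356)) (BT.leaf c8_357)) (BT.node 5398 (BT.leaf c8_358) (BT.leaf c8_359))))))))) (BT.node 5579 (BT.node 5489 (BT.node 5444 (BT.node 5422 (BT.node 5411 (BT.node 5405 (BT.node 5402 (BT.node 5401 (BT.node 5400 (BT.leaf c9_0) (BT.leaf c9_1)) (BT.leaf c9_2)) (BT.node 5404 (BT.node 5403 (BT.leaf c9_3) (BT.leaf c9_4)) (BT.leaf c9_5))) (BT.node 5408 (BT.node 5407 (BT.node 5406 (BT.leaf c9_6) (BT.leaf c9_7)) (BT.leaf c9_8)) (BT.node 5410 (BT.node 5409 (BT.leaf c9_9) (BT.leaf c9_10)) (BT.leaf c9_11)))) (BT.node 5417 (BT.node 5414 (BT.node 5413 (BT.node 5412 (BT.leaf c9_12) (BT.leaf c9_13)) (BT.leaf c9_14)) (BT.node 5416 (BT.node 5415 (BT.leaf c9_15) (BT.leaf c9_16)) (BT.leaf c9_17))) (BT.node 5420 (BT.node 5419 (BT.node 5418 (BT.leaf c9_18) (BT.leaf c9_19)) (BT.leaf c9_20)) (BT.node 5421 (BT.leaf c9_21) (BT.leaf c9_22))))) (BT.node 5433 (BT.node 5428 (BT.node 5425 (BT.node 5424 (BT.node 5423 (BT.leaf c9_23) (BT.leaf c9_24)) (BT.leaf c9_25)) (BT.node 5427 (BT.node 5426 (BT.leaf c9_26) (BT.leaf c9_27)) (BT.leaf c9_28))) (BT.node 5431 (BT.node 5430 (BT.node 5429 (BT.leaf c9_29) (BT.leaf c9_30)) (BT.leaf c9_31)) (BT.node 5432 (BT.leaf c9_32) (BT.leaf c9_33)))) (BT.node 5439 (BT.node 5436 (BT.node 5435 (BT.node 5434 (BT.leaf c9_34) (BT.leaf c9_35)) (BT.leaf c9_36)) (BT.node 5438 (BT.node 5437 (BT.leaf c9_37) (BT.leaf c9_38)) (BT.leaf c9_39))) (BT.node 5442 (BT.node 5441 (BT.node 5440 (BT.leaf c9_40) (BT.leaf c9_41)) (BT.leaf c9_42)) (BT.node 5443 (BT.leaf c9_43) (BT.leaf c9_44)))))) (BT.node 5467 (BT.node 5456 (BT.node 5450 (BT.node 5447 (BT.node 5446 (BT.node 5445 (BT.leaf c9_45) (BT.leaf c9_46)) (BT.leaf c9_47)) (BT.node 5449 (BT.node 5448 (BT.leaf c9_48) (BT.leaf c9_49)) (BT.leaf c9_50))) (BT.node 5453 (BT.node 5452 (BT.node 5451 (BT.leaf c9_51) (BT.leaf c9_52)) (BT.leaf c9_53)) (BT.node 5455 (BT.node 5454 (BT.leaf c9_54) (BT.leaf c9_55)) (BT.leaf c9_56)))) (BT.node 5462 (BT.node 5459 (BT.node 5458 (BT.node 5457 (BT.leaf c9_57) (BT.leaf c9_58)) (BT.leaf c9_59)) (BT.node 5461 (BT.node 5460 (BT.leaf c9_60) (BT.leaf c9_61)) (BT.leaf c9_62))) (BT.node 5465 (BT.node 5464 (BT.node 5463 (BT.leaf c9_63) (BT.leaf c9_64)) (BT.leaf c9_65)) (BT.node 5466 (BT.leaf c9_66) (BT.leaf c9_67))))) (BT.node 5478 (BT.node 5473 (BT.node 5470 (BT.node 5469 (BT.node 5468 (BT.leaf c9_68) (BT.leaf c9_69)) (BT.leaf c9_70)) (BT.node 5472 (BT.node 5471 (BT.leaf c9_71) (BT.leaf c9_72)) (BT.leaf c9_73))) (BT.node 5476 (BT.node 5475 (BT.node 5474 (BT.leaf c9_74) (BT.leaf c9_75)) (BT.leaf c9_76)) (BT.node 5477 (BT.leaf c9_77) (BT.leaf c9_78)))) (BT.node 5484 (BT.node 5481 (BT.node 5480 (BT.node 5479 (BT.leaf c9_79) (BT.leaf c9_80)) (BT.leaf c9_81)) (BT.node 5483 (BT.node 5482 (BT.leaf c9_82) (BT.leaf c9_83)) (BT.leaf c9_84))) (BT.node 5487 (BT.node 5486 (BT.node 5485 (BT.leaf c9_85) (BT.leaf c9_86)) (BT.leaf c9_87)) (BT.node 5488 (BT.leaf c9_88) (BT.leaf c9_89))))))) (BT.node 5534 (BT.node 5512 (BT.node 5501 (BT.node 5495 (BT.node 5492 (BT.node 5491 (BT.node 5490 (BT.leaf c9_90) (BT.leaf c9_91)) (BT.leaf c9_92)) (BT.node 5494 (BT.node 5493 (BT.leaf c9_93) (BT.leaf c9_94)) (BT.leaf c9_95))) (BT.node 5498 (BT.node 5497 (BT.node 5496 (BT.leaf c9_96) (BT.leaf c9_97)) (BT.leaf c9_98)) (BT.node 5500 (BT.node 5499 (BT.leaf c9_99) (BT.leaf c9_100)) (BT.leaf c9_101)))) (BT.node 5507 (BT.node 5504 (BT.node 5503 (BT.node 5502 (BT.leaf c9_102) (BT.leaf c9_103)) (BT.leaf c9_104)) (BT.node 5506 (BT.node 5505 (BT.leaf c9_105) (BT.leaf c9_106)) (BT.leaf c9_107))) (BT.node 5510 (BT.node 5509 (BT.node 5508 (BT.leaf c9_108) (BT.leaf c9_109)) (BT.leaf c9_110)) (BT.node 5511 (BT.leaf c9_111) (BT.leaf c9_112))))) (BT.node 5523 (BT.node 5518 (BT.node 5515 (BT.node 5514 (BT.node 5513 (BT.leaf c9_113) (BT.leaf c9_114)) (BT.leaf c9_115)) (BT.node 5517 (BT.node 5516 (BT.leaf c9_116) (BT.leaf c9_117)) (BT.leaf c9_118))) (BT.node 5521 (BT.node 5520 (BT.node 5519 (BT.leaf c9_119) (BT.leaf c9_120)) (BT.leaf c9_121)) (BT.node 5522 (BT.leaf c9_122) (BT.leaf c9_123)))) (BT.node 5529 (BT.node 5526 (BT.node 5525 (BT.node 5524 (BT.leaf c9_124) (BT.leaf c9_125)) (BT.leaf c9_126)) (BT.node 5528 (BT.node 5527 (BT.leaf c9_127) (BT.leaf c9_128)) (BT.leaf c9_129))) (BT.node 5532 (BT.node 5531 (BT.node 5530 (BT.leaf c9_130) (BT.leaf c9_131)) (BT.leaf c9_132)) (BT.node 5533 (BT.leaf c9_133) (BT.leaf c9_134)))))) (BT.node 5557 (BT.node 5546 (BT.node 5540 (BT.node 5537 (BT.node 5536 (BT.node 5535 (BT.leaf c9_135) (BT.leaf c9_136)) (BT.leaf c9_137)) (BT.node 5539 (BT.node 5538 (BT.leaf c9_138) (BT.leaf c9_139)) (BT.leaf c9_140))) (BT.node 5543 (BT.node 5542 (BT.node 5541 (BT.leaf c9_141) (BT.leaf c9_142)) (BT.leaf c9_143)) (BT.node 5545 (BT.node 5544 (BT.leaf c9_144) (BT.leaf c9_145)) (BT.leaf c9_146)))) (BT.node 5552 (BT.node 5549 (BT.node 5548 (BT.node 5547 (BT.leaf c9_147) (BT.leaf c9_148)) (BT.leaf c9_149)) (BT.node 5551 (BT.node 5550 (BT.leaf c9_150) (BT.leaf c9_151)) (BT.leaf c9_152))) (BT.node 5555 (BT.node 5554 (BT.node 5553 (BT.leaf c9_153) (BT.leaf c9_154)) (BT.leaf c9_155)) (BT.node 5556 (BT.leaf c9_156) (BT.leaf c9_157))))) (BT.node 5568 (BT.node 5563 (BT.node 5560 (BT.node 5559 (BT.node 5558 (BT.leaf c9_158) (BT.leaf c9_159)) (BT.leaf c9_160)) (BT.node 5562 (BT.node 5561 (BT.leaf c9_161) (BT.leaf c9_162)) (BT.leaf c9_163))) (BT.node 5566 (BT.node 5565 (BT.node 5564 (BT.leaf c9_164) (BT.leaf c9_165)) (BT.leaf c9_166)) (BT.node 5567 (BT.leaf c9_167) (BT.leaf c9_168)))) (BT.node 5574 (BT.node 5571 (BT.node 5570 (BT.node 5569 (BT.leaf c9_169) (BT.leaf c9_170)) (BT.leaf c9_171)) (BT.node 5573 (BT.node 5572 (BT.leaf c9_172) (BT.leaf c9_173)) (BT.leaf c9_174))) (BT.node 5577 (BT.node 5576 (BT.node 5575 (BT.leaf c9_175) (BT.leaf c9_176)) (BT.leaf c9_177)) (BT.node 5578 (BT.leaf c9_178) (BT.leaf c9_179)))))))) (BT.node 5669 (BT.node 5624 (BT.node 5602 (BT.node 5591 (BT.node 5585 (BT.node 5582 (BT.node 5581 (BT.node 5580 (BT.leaf c9_180) (BT.leaf c9_181)) (BT.leaf c9_182)) (BT.node 5584 (BT.node 5583 (BT.leaf c9_183) (BT.leaf c9_184)) (BT.leaf c9_185))) (BT.node 5588 (BT.node 5587 (BT.node 5586 (BT.leaf c9_186) (BT.leaf c9_187)) (BT.leaf c9_188)) (BT.node 5590 (BT.node 5589 (BT.leaf c9_189) (BT.leaf c9_190)) (BT.leaf c9_191)))) (BT.node 5597 (BT.node 5594 (BT.node 5593 (BT.node 5592 (BT.leaf c9_192) (BT.leaf c9_193)) (BT.leaf c9_194)) (BT.node 5596 (BT.node 5595 (BT.leaf c9_195) (BT.leaf c9_196)) (BT.leaf c9_197))) (BT.node 5600 (BT.node 5599 (BT.node 5598 (BT.leaf c9_198) (BT.leaf c9_199)) (BT.leaf c9_200)) (BT.node 5601 (BT.leaf c9_201) (BT.leaf c9_202))))) (BT.node 5613 (BT.node 5608 (BT.node 5605 (BT.node 5604 (BT.node 5603 (BT.leaf c9_203) (BT.leaf c9_204)) (BT.leaf c9_205)) (BT.node 5607 (BT.node 5606 (BT.leaf c9_206) (BT.leaf c9_207)) (BT.leaf c9_208))) (BT.node 5611 (BT.node 5610 (BT.node 5609 (BT.leaf c9_209) (BT.leaf c9_210)) (BT.leaf c9_211)) (BT.node 5612 (BT.leaf c9_212) (BT.leaf c9_213)))) (BT.node 5619 (BT.node 5616 (BT.node 5615 (BT.node 5614 (BT.leaf c9_214) (BT.leaf c9_215)) (BT.leaf c9_216)) (BT.node 5618 (BT.node 5617 (BT.leaf c9_217) (BT.leaf c9_218)) (BT.leaf c9_219))) (BT.node 5622 (BT.node 5621 (BT.node 5620 (BT.leaf c9_220) (BT.leaf c9_221)) (BT.leaf c9_222)) (BT.node 5623 (BT.leaf c9_223) (BT.leaf c9_224)))))) (BT.node 5647 (BT.node 5636 (BT.node 5630 (BT.node 5627 (BT.node 5626 (BT.node 5625 (BT.leaf c9_225) (BT.leaf c9_226)) (BT.leaf c9_227)) (BT.node 5629 (BT.node 5628 (BT.leaf c9_228) (BT.leaf c9_229)) (BT.leaf c9_230))) (BT.node 5633 (BT.node 5632 (BT.node 5631 (BT.leaf c9_231) (BT.leaf c9_232)) (BT.leaf c9_233)) (BT.node 5635 (BT.node 5634 (BT.leaf c9_234) (BT.leaf c9_235)) (BT.leaf c9_236)))) (BT.node 5642 (BT.node 5639 (BT.node 5638 (BT.node 5637 (BT.leaf c9_237) (BT.leaf c9_238)) (BT.leaf c9_239)) (BT.node 5641 (BT.node 5640 (BT.leaf c9_240) (BT.leaf c9_241)) (BT.leaf c9_242))) (BT.node 5645 (BT.node 5644 (BT.node 5643 (BT.leaf c9_243) (BT.leaf c9_244)) (BT.leaf c9_245)) (BT.node 5646 (BT.leaf c9_246) (BT.leaf c9_247))))) (BT.node 5658 (BT.node 5653 (BT.node 5650 (BT.node 5649 (BT.node 5648 (BT.leaf c9_248) (BT.leaf c9_249)) (BT.leaf c9_250)) (BT.node 5652 (BT.node 5651 (BT.leaf c9_251) (BT.leaf c9_252)) (BT.leaf c9_253))) (BT.node 5656 (BT.node 5655 (BT.node 5654 (BT.leaf c9_254) (BT.leaf c9_255)) (BT.leaf c9_256)) (BT.node 5657 (BT.leaf c9_257) (BT.leaf c9_258)))) (BT.node 5664 (BT.node 5661 (BT.node 5660 (BT.node 5659 (BT.leaf c9_259) (BT.leaf c9_260)) (BT.leaf c9_261)) (BT.node 5663 (BT.node 5662 (BT.leaf c9_262) (BT.leaf c9_263)) (BT.leaf c9_264))) (BT.node 5667 (BT.node 5666 (BT.node 5665 (BT.leaf c9_265) (BT.leaf c9_266)) (BT.leaf c9_267)) (BT.node 5668 (BT.leaf c9_268) (BT.leaf c9_269))))))) (BT.node 5714 (BT.node 5692 (BT.node 5681 (BT.node 5675 (BT.node 5672 (BT.node 5671 (BT.node 5670 (BT.leaf c9_270) (BT.leaf c9_271)) (BT.leaf c9_272)) (BT.node 5674 (BT.node 5673 (BT.leaf c9_273) (BT.leaf c9_274)) (BT.leaf c9_275))) (BT.node 5678 (BT.node 5677 (BT.node 5676 (BT.leaf c9_276) (BT.leaf c9_277)) (BT.leaf c9_278)) (BT.node 5680 (BT.node 5679 (BT.leaf c9_279) (BT.leaf c9_280)) (BT.leaf c9_281)))) (BT.node 5687 (BT.node 5684 (BT.node 5683 (BT.node 5682 (BT.leaf c9_282) (BT.leaf c9_283)) (BT.leaf c9_284)) (BT.node 5686 (BT.node 5685 (BT.leaf c9_285) (BT.leaf c9_286)) (BT.leaf c9_287))) (BT.node 5690 (BT.node 5689 (BT.node 5688 (BT.leaf c9_288) (BT.leaf c9_289)) (BT.leaf c9_290)) (BT.node 5691 (BT.leaf c9_291) (BT.leaf c9_292))))) (BT.node 5703 (BT.node 5698 (BT.node 5695 (BT.node 5694 (BT.node 5693 (BT.leaf c9_293) (BT.leaf c9_294)) (BT.leaf c9_295)) (BT.node 5697 (BT.node 5696 (BT.leaf c9_296) (BT.leaf c9_297)) (BT.leaf c9_298))) (BT.node 5701 (BT.node 5700 (BT.node 5699 (BT.leaf c9_299) (BT.leaf c9_300)) (BT.leaf c9_301)) (BT.node 5702 (BT.leaf c9_302) (BT.leaf c9_303)))) (BT.node 5709 (BT.node 5706 (BT.node 5705 (BT.node 5704 (BT.leaf c9_304) (BT.leaf c9_305)) (BT.leaf c9_306)) (BT.node 5708 (BT.node 5707 (BT.leaf c9_307) (BT.leaf c9_308)) (BT.leaf c9_309))) (BT.node 5712 (BT.node 5711 (BT.node 5710 (BT.leaf c9_310) (BT.leaf c9_311)) (BT.leaf c9_312)) (BT.node 5713 (BT.leaf c9_313) (BT.leaf c9_314)))))) (BT.node 5737 (BT.node 5726 (BT.node 5720 (BT.node 5717 (BT.node 5716 (BT.node 5715 (BT.leaf c9_315) (BT.leaf c9_316)) (BT.leaf c9_317)) (BT.node 5719 (BT.node 5718 (BT.leaf c9_318) (BT.leaf c9_319)) (BT.leaf c9_320))) (BT.node 5723 (BT.node 5722 (BT.node 5721 (BT.leaf c9_321) (BT.leaf c9_322)) (BT.leaf c9_323)) (BT.node 5725 (BT.node 5724 (BT.leaf c9_324) (BT.leaf c9_325)) (BT.leaf c9_326)))) (BT.node 5732 (BT.node 5729 (BT.node 5728 (BT.node 5727 (BT.leaf c9_327) (BT.leaf c9_328)) (BT.leaf c9_329)) (BT.node 5731 (BT.node 5730 (BT.leaf c9_330) (BT.leaf c9_331)) (BT.leaf c9_332))) (BT.node 5735 (BT.node 5734 (BT.node 5733 (BT.leaf c9_333) (BT.leaf c9_334)) (BT.leaf c9_335)) (BT.node 5736 (BT.leaf c9_336) (BT.leaf c9_337))))) (BT.node 5748 (BT.node 5743 (BT.node 5740 (BT.node 5739 (BT.node 5738 (BT.leaf c9_338) (BT.leaf c9_339)) (BT.leaf c9_340)) (BT.node 5742 (BT.node 5741 (BT.leaf c9_341) (BT.leaf c9_342)) (BT.leaf c9_343))) (BT.node 5746 (BT.node 5745 (BT.node 5744 (BT.leaf c9_344) (BT.leaf c9_345)) (BT.leaf c9_346)) (BT.node 5747 (BT.leaf c9_347) (BT.leaf c9_348)))) (BT.node 5754 (BT.node 5751 (BT.node 5750 (BT.node 5749 (BT.leaf c9_349) (BT.leaf c9_350)) (BT.leaf c9_351)) (BT.node 5753 (BT.node 5752 (BT.leaf c9_352) (BT.leaf c9_353)) (BT.leaf c9_354))) (BT.node 5757 (BT.node 5756 (BT.node 5755 (BT.leaf c9_355) (BT.leaf c9_356)) (BT.leaf c9_357)) (BT.node 5758 (BT.leaf c9_358) (BT.leaf c9_359)))))))))))))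
/-- the tree -/
def tree3 : BT ℕ := (BT.node 179 (BT.node 89 (BT.node 44 (BT.node 22 (BT.node 11 (BT.node 5 (BT.node 2 (BT.node 1 (BT.node 0 (BT.leaf t_0) (BT.leaf t_1)) (BT.leaf t_2)) (BT.node 4 (BT.node 3 (BT.leaf t_3) (BT.leaf t_4)) (BT.leaf t_5))) (BT.node 8 (BT.node 7 (BT.node 6 (BT.leaf t_6) (BT.leaf t_7)) (BT.leaf t_8)) (BT.node 10 (BT.node 9 (BT.leaf t_9) (BT.leaf t_10)) (BT.leaf t_11)))) (BT.node 17 (BT.node 14 (BT.node 13 (BT.node 12 (BT.leaf t_12) (BT.leaf t_13)) (BT.leaf t_14)) (BT.node 16 (BT.node 15 (BT.leaf t_15) (BT.leaf t_16)) (BT.leaf t_17))) (BT.node 20 (BT.node 19 (BT.node 18 (BT.leaf t_18) (BT.leaf t_19)) (BT.leaf t_20)) (BT.node 21 (BT.leaf t_21) (BT.leaf t_22))))) (BT.node 33 (BT.node 28 (BT.node 25 (BT.node 24 (BT.node 23 (BT.leaf t_23) (BT.leaf t_24)) (BT.leaf t_25)) (BT.node 27 (BT.node 26 (BT.leaf t_26) (BT.leaf t_27)) (BT.leaf t_28))) (BT.node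 31 (BT.node 30 (BT.node 29 (BT.leaf t_29) (BT.leaf t_30)) (BT.leaf t_31)) (BT.node 32 (BT.leaf t_32) (BT.leaf t_33)))) (BT.node 39 (BT.node 36 (BT.node 35 (BT.node 34 (BT.leaf t_34) (BT.leaf t_35)) (BT.leaf t_36)) (BT.node 38 (BT.node 37 (BT.leaf t_37) (BT.leaf t_38)) (BT.leaf t_39))) (BT.node 42 (BT.node 41 (BT.node 40 (BT.leaf t_40) (BT.leaf t_41)) (BT.leaf t_42)) (BT.node 43 (BT.leaf t_43) (BT.leaf t_44)))))) (BT.node 67 (BT.node 56 (BT.node 50 (BT.node 47 (BT.node 46 (BT.node 45 (BT.leaf t_45) (BT.leaf t_46)) (BT.leaf t_47)) (BT.node 49 (BT.node 48 (BT.leaf t_48) (BT.leaf t_49)) (BT.leaf t_50))) (BT.node 53 (BT.node 52 (BT.node 51 (BT.leaf t_51) (BT.leaf t_52)) (BT.leaf t_53)) (BT.node 55 (BT.node 54 (BT.leaf t_54) (BT.leaf t_55)) (BT.leaf t_56)))) (BT.node 62 (BT.node 59 (BT.node 58 (BT.node 57 (BT.leaf t_57) (BT.leaf t_58)) (BT.leaf t_59)) (BT.node 61 (BT.node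 60 (BT.leaf t_60) (BT.leaf t_61)) (BT.leaf t_62))) (BT.node 65 (BT.node 64 (BT.node 63 (BT.leaf t_63) (BT.leaf t_64)) (BT.leaf t_65)) (BT.node 66 (BT.leaf t_66) (BT.leaf t_67))))) (BT.node 78 (BT.node 73 (BT.node 70 (BT.node 69 (BT.node 68 (BT.leaf t_68) (BT.leaf t_69)) (BT.leaf t_70)) (BT.node 72 (BT.node 71 (BT.leaf t_71) (BT.leaf t_72)) (BT.leaf t_73))) (BT.node 76 (BT.node 75 (BT.node 74 (BT.leaf t_74) (BT.leaf t_75)) (BT.leaf t_76)) (BT.node 77 (BT.leaf t_77) (BT.leaf t_78)))) (BT.node 84 (BT.node 81 (BT.node 80 (BT.node 79 (BT.leaf t_79) (BT.leaf t_80)) (BT.leaf t_81)) (BT.node 83 (BT.node 82 (BT.leaf t_82) (BT.leaf t_83)) (BT.leaf t_84))) (BT.node 87 (BT.node 86 (BT.node 85 (BT.leaf t_85) (BT.leaf t_86)) (BT.leaf t_87)) (BT.node 88 (BT.leaf t_88) (BT.leaf t_89))))))) (BT.node 134 (BT.node 112 (BT.node 101 (BT.node 95 (BT.node 92 (BT.node 91 (BT.node 90 (BT.leaf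 t_90) (BT.leaf t_91)) (BT.leaf t_92)) (BT.node 94 (BT.node 93 (BT.leaf t_93) (BT.leaf t_94)) (BT.leaf t_95))) (BT.node 98 (BT.node 97 (BT.node 96 (BT.leaf t_96) (BT.leaf t_97)) (BT.leaf t_98)) (BT.node 100 (BT.node 99 (BT.leaf t_99) (BT.leaf t_100)) (BT.leaf t_101)))) (BT.node 107 (BT.node 104 (BT.node 103 (BT.node 102 (BT.leaf t_102) (BT.leaf t_103)) (BT.leaf t_104)) (BT.node 106 (BT.node 105 (BT.leaf t_105) (BT.leaf t_106)) (BT.leaf t_107))) (BT.node 110 (BT.node 109 (BT.node 108 (BT.leaf t_108) (BT.leaf t_109)) (BT.leaf t_110)) (BT.node 111 (BT.leaf t_111) (BT.leaf t_112))))) (BT.node 123 (BT.node 118 (BT.node 115 (BT.node 114 (BT.node 113 (BT.leaf t_113) (BT.leaf t_114)) (BT.leaf t_115)) (BT.node 117 (BT.node 116 (BT.leaf t_116) (BT.leaf t_117)) (BT.leaf t_118))) (BT.node 121 (BT.node 120 (BT.node 119 (BT.leaf t_119) (BT.leaf t_120)) (BT.leaf t_121)) (BT.node 122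 (BT.leaf t_122) (BT.leaf t_123)))) (BT.node 129 (BT.node 126 (BT.node 125 (BT.node 124 (BT.leaf t_124) (BT.leaf t_125)) (BT.leaf t_126)) (BT.node 128 (BT.node 127 (BT.leaf t_127) (BT.leaf t_128)) (BT.leaf t_129))) (BT.node 132 (BT.node 131 (BT.node 130 (BT.leaf t_130) (BT.leaf t_131)) (BT.leaf t_132)) (BT.node 133 (BT.leaf t_133) (BT.leaf t_134)))))) (BT.node 157 (BT.node 146 (BT.node 140 (BT.node 137 (BT.node 136 (BT.node 135 (BT.leaf t_135) (BT.leaf t_136)) (BT.leaf t_137)) (BT.node 139 (BT.node 138 (BT.leaf t_138) (BT.leaf t_139)) (BT.leaf t_140))) (BT.node 143 (BT.node 142 (BT.node 141 (BT.leaf t_141) (BT.leaf t_142)) (BT.leaf t_143)) (BT.node 145 (BT.node 144 (BT.leaf t_144) (BT.leaf t_145)) (BT.leaf t_146)))) (BT.node 152 (BT.node 149 (BT.node 148 (BT.node 147 (BT.leaf t_147) (BT.leaf t_148)) (BT.leaf t_149)) (BT.node 151 (BT.node 150 (BT.leaf t_150) (BT.leaf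 t_151)) (BT.leaf t_152))) (BT.node 155 (BT.node 154 (BT.node 153 (BT.leaf t_153) (BT.leaf t_154)) (BT.leaf t_155)) (BT.node 156 (BT.leaf t_156) (BT.leaf t_157))))) (BT.node 168 (BT.node 163 (BT.node 160 (BT.node 159 (BT.node 158 (BT.leaf t_158) (BT.leaf t_159)) (BT.leaf t_160)) (BT.node 162 (BT.node 161 (BT.leaf t_161) (BT.leaf t_162)) (BT.leaf t_163))) (BT.node 166 (BT.node 165 (BT.node 164 (BT.leaf t_164) (BT.leaf t_165)) (BT.leaf t_166)) (BT.node 167 (BT.leaf t_167) (BT.leaf t_168)))) (BT.node 174 (BT.node 171 (BT.node 170 (BT.node 169 (BT.leaf t_169) (BT.leaf t_170)) (BT.leaf t_171)) (BT.node 173 (BT.node 172 (BT.leaf t_172) (BT.leaf t_173)) (BT.leaf t_174))) (BT.node 177 (BT.node 176 (BT.node 175 (BT.leaf t_175) (BT.leaf t_176)) (BT.leaf t_177)) (BT.node 178 (BT.leaf t_178) (BT.leaf t_179)))))))) (BT.node 269 (BT.node 224 (BT.node 202 (BT.node 191 (BT.node 185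 (BT.node 182 (BT.node 181 (BT.node 180 (BT.leaf t_180) (BT.leaf t_181)) (BT.leaf t_182)) (BT.node 184 (BT.node 183 (BT.leaf t_183) (BT.leaf t_184)) (BT.leaf t_185))) (BT.node 188 (BT.node 187 (BT.node 186 (BT.leaf t_186) (BT.leaf t_187)) (BT.leaf t_188)) (BT.node 190 (BT.node 189 (BT.leaf t_189) (BT.leaf t_190)) (BT.leaf t_191)))) (BT.node 197 (BT.node 194 (BT.node 193 (BT.node 192 (BT.leaf t_192) (BT.leaf t_193)) (BT.leaf t_194)) (BT.node 196 (BT.node 195 (BT.leaf t_195) (BT.leaf t_196)) (BT.leaf t_197))) (BT.node 200 (BT.node 199 (BT.node 198 (BT.leaf t_198) (BT.leaf t_199)) (BT.leaf t_200)) (BT.node 201 (BT.leaf t_201) (BT.leaf t_202))))) (BT.node 213 (BT.node 208 (BT.node 205 (BT.node 204 (BT.node 203 (BT.leaf t_203) (BT.leaf t_204)) (BT.leaf t_205)) (BT.node 207 (BT.node 206 (BT.leaf t_206) (BT.leaf t_207)) (BT.leaf t_208))) (BT.node 211 (BT.node 210 (BT.node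 209 (BT.leaf t_209) (BT.leaf t_210)) (BT.leaf t_211)) (BT.node 212 (BT.leaf t_212) (BT.leaf t_213)))) (BT.node 219 (BT.node 216 (BT.node 215 (BT.node 214 (BT.leaf t_214) (BT.leaf t_215)) (BT.leaf t_216)) (BT.node 218 (BT.node 217 (BT.leaf t_217) (BT.leaf t_218)) (BT.leaf t_219))) (BT.node 222 (BT.node 221 (BT.node 220 (BT.leaf t_220) (BT.leaf t_221)) (BT.leaf t_222)) (BT.node 223 (BT.leaf t_223) (BT.leaf t_224)))))) (BT.node 247 (BT.node 236 (BT.node 230 (BT.node 227 (BT.node 226 (BT.node 225 (BT.leaf t_225) (BT.leaf t_226)) (BT.leaf t_227)) (BT.node 229 (BT.node 228 (BT.leaf t_228) (BT.leaf t_229)) (BT.leaf t_230))) (BT.node 233 (BT.node 232 (BT.node 231 (BT.leaf t_231) (BT.leaf t_232)) (BT.leaf t_233)) (BT.node 235 (BT.node 234 (BT.leaf t_234) (BT.leaf t_235)) (BT.leaf t_236)))) (BT.node 242 (BT.node 239 (BT.node 238 (BT.node 237 (BT.leaf t_237) (BT.leaf t_238))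 (BT.leaf t_239)) (BT.node 241 (BT.node 240 (BT.leaf t_240) (BT.leaf t_241)) (BT.leaf t_242))) (BT.node 245 (BT.node 244 (BT.node 243 (BT.leaf t_243) (BT.leaf t_244)) (BT.leaf t_245)) (BT.node 246 (BT.leaf t_246) (BT.leaf t_247))))) (BT.node 258 (BT.node 253 (BT.node 250 (BT.node 249 (BT.node 248 (BT.leaf t_248) (BT.leaf t_249)) (BT.leaf t_250)) (BT.node 252 (BT.node 251 (BT.leaf t_251) (BT.leaf t_252)) (BT.leaf t_253))) (BT.node 256 (BT.node 255 (BT.node 254 (BT.leaf t_254) (BT.leaf t_255)) (BT.leaf t_256)) (BT.node 257 (BT.leaf t_257) (BT.leaf t_258)))) (BT.node 264 (BT.node 261 (BT.node 260 (BT.node 259 (BT.leaf t_259) (BT.leaf t_260)) (BT.leaf t_261)) (BT.node 263 (BT.node 262 (BT.leaf t_262) (BT.leaf t_263)) (BT.leaf t_264))) (BT.node 267 (BT.node 266 (BT.node 265 (BT.leaf t_265) (BT.leaf t_266)) (BT.leaf t_267)) (BT.node 268 (BT.leaf t_268) (BT.leaf t_269)))))))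 (BT.node 314 (BT.node 292 (BT.node 281 (BT.node 275 (BT.node 272 (BT.node 271 (BT.node 270 (BT.leaf t_270) (BT.leaf t_271)) (BT.leaf t_272)) (BT.node 274 (BT.node 273 (BT.leaf t_273) (BT.leaf t_274)) (BT.leaf t_275))) (BT.node 278 (BT.node 277 (BT.node 276 (BT.leaf t_276) (BT.leaf t_277)) (BT.leaf t_278)) (BT.node 280 (BT.node 279 (BT.leaf t_279) (BT.leaf t_280)) (BT.leaf t_281)))) (BT.node 287 (BT.node 284 (BT.node 283 (BT.node 282 (BT.leaf t_282) (BT.leaf t_283)) (BT.leaf t_284)) (BT.node 286 (BT.node 285 (BT.leaf t_285) (BT.leaf t_286)) (BT.leaf t_287))) (BT.node 290 (BT.node 289 (BT.node 288 (BT.leaf t_288) (BT.leaf t_289)) (BT.leaf t_290)) (BT.node 291 (BT.leaf t_291) (BT.leaf t_292))))) (BT.node 303 (BT.node 298 (BT.node 295 (BT.node 294 (BT.node 293 (BT.leaf t_293) (BT.leaf t_294)) (BT.leaf t_295)) (BT.node 297 (BT.node 296 (BT.leaf t_296) (BT.leaf t_297)) (BT.leaf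 t_298))) (BT.node 301 (BT.node 300 (BT.node 299 (BT.leaf t_299) (BT.leaf t_300)) (BT.leaf t_301)) (BT.node 302 (BT.leaf t_302) (BT.leaf t_303)))) (BT.node 309 (BT.node 306 (BT.node 305 (BT.node 304 (BT.leaf t_304) (BT.leaf t_305)) (BT.leaf t_306)) (BT.node 308 (BT.node 307 (BT.leaf t_307) (BT.leaf t_308)) (BT.leaf t_309))) (BT.node 312 (BT.node 311 (BT.node 310 (BT.leaf t_310) (BT.leaf t_311)) (BT.leaf t_312)) (BT.node 313 (BT.leaf t_313) (BT.leaf t_314)))))) (BT.node 337 (BT.node 326 (BT.node 320 (BT.node 317 (BT.node 316 (BT.node 315 (BT.leaf t_315) (BT.leaf t_316)) (BT.leaf t_317)) (BT.node 319 (BT.node 318 (BT.leaf t_318) (BT.leaf t_319)) (BT.leaf t_320))) (BT.node 323 (BT.node 322 (BT.node 321 (BT.leaf t_321) (BT.leaf t_322)) (BT.leaf t_323)) (BT.node 325 (BT.node 324 (BT.leaf t_324) (BT.leaf t_325)) (BT.leaf t_326)))) (BT.node 332 (BT.node 329 (BT.node 328 (BT.node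 327 (BT.leaf t_327) (BT.leaf t_328)) (BT.leaf t_329)) (BT.node 331 (BT.node 330 (BT.leaf t_330) (BT.leaf t_331)) (BT.leaf t_332))) (BT.node 335 (BT.node 334 (BT.node 333 (BT.leaf t_333) (BT.leaf t_334)) (BT.leaf t_335)) (BT.node 336 (BT.leaf t_336) (BT.leaf t_337))))) (BT.node 348 (BT.node 343 (BT.node 340 (BT.node 339 (BT.node 338 (BT.leaf t_338) (BT.leaf t_339)) (BT.leaf t_340)) (BT.node 342 (BT.node 341 (BT.leaf t_341) (BT.leaf t_342)) (BT.leaf t_343))) (BT.node 346 (BT.node 345 (BT.node 344 (BT.leaf t_344) (BT.leaf t_345)) (BT.leaf t_346)) (BT.node 347 (BT.leaf t_347) (BT.leaf t_348)))) (BT.node 354 (BT.node 351 (BT.node 350 (BT.node 349 (BT.leaf t_349) (BT.leaf t_350)) (BT.leaf t_351)) (BT.node 353 (BT.node 352 (BT.leaf t_352) (BT.leaf t_353)) (BT.leaf t_354))) (BT.node 357 (BT.node 356 (BT.node 355 (BT.leaf t_355) (BT.leaf t_356)) (BT.leaf t_357)) (BT.node 358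 (BT.leaf t_358) (BT.leaf t_359)))))))))
/-- the table -/
def table3 : Table where
  n := 368280
  k := 16
  w := 19
  M := 524288
  CH := 1024
  NCH := 360
  col := col3
  inv := (BT.node 8 (BT.node 4 (BT.node 2 (BT.node 1 (BT.node 0 (BT.leaf 1) (BT.leaf 0)) (BT.leaf 3)) (BT.node 3 (BT.leaf 2) (BT.leaf 5))) (BT.node 6 (BT.node 5 (BT.leaf 4) (BT.leaf 7)) (BT.node 7 (BT.leaf 6) (BT.leaf 9)))) (BT.node 12 (BT.node 10 (BT.node 9 (BT.leaf 8) (BT.leaf 11)) (BT.node 11 (BT.leaf 10) (BT.leaf 13))) (BT.node 14 (BT.node 13 (BT.leaf 12) (BT.leaf 15)) (BT.node 15 (BT.leaf 14) (BT.leaf 16)))))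
  tw := 23
  TM := 8388608
  tree := tree3

end Cfsg.Agent.Lib.Helper19.ONM.T3Tab
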