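import Cfsg.Agent.Lib.Helper10.FoxTrieB

/-!
# The trie Fox criterion with the static checks as a hypothesis

Copies of `Helper29.SchurFoxSparse.exists_adjust_abs` and `Helper10.FoxTrie.ker_eq_bot_of_fox_trie` taking
`D.Static T.tau` instead of the check `D.staticOK T.tau = true`, whose scan of the table is expensive for big
tables and is implied by `T.OK` (see `FoxStatic.static_of_table`).
-/

set_option autoImplicit false

namespace Cfsg.Agent.Lib.Helper19.ONM.FoxTrieP

open Subgroup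
open scoped IsMulCommutative
open Cfsg.Agent.Lib.Helper28.TC2Upper (force force_eq allLoop allLoop_eq_true)
open Cfsg.Agent.Lib.Helper28.TC2Lower (pathProd Table)
open Cfsg.Agent.Lib.Helper28.TC2Glue (pathOf lift_mk_eq_pathProd)
open Cfsg.Agent.Lib.Helper28.SchurFox
open Cfsg.Agent.Lib.Helper29.SchurFoxSparse
open Cfsg.Agent.Lib.Helper10.FoxTrie

section Main
variable {Γ G : Type*} [Group Γ] [Group G] {σ : Γ →* G} {Ω : Type*} [MulAction G Ω]

/-- `exists_adjust_abs` of `Helper29.SchurFoxSparse` with the static part as a hypothesis -/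
theorem exists_adjust_abs' (D : FoxData) (nxt : ℕ → ℕ → ℕ) (h : D.Static nxt)
    (hcyc : ∀ k < D.cycles.length, ∀ (F : ℕ → ℕ → ↥(center Γ)), (∀ i x, F i x ^ D.p = 1) →
      ∀ z : ℕ → ↥(center Γ), (∀ j < D.paths.length, ∀ i < D.n, walkF F nxt (D.paths.getD j []) i = z j) →
        ∏ j ∈ Finset.range D.paths.length, z j ^ entry D.Lam k j = 1)
    (C : Cocycle σ Ω) (hexp : ∀ a ∈ σ.ker, a ^ D.p = 1) (γx : ℕ → Γ) (pts : ℕ → Ω)
    (hact : ∀ x < D.d, ∀ i < D.n, σ (γx x) • pts i = pts (nxt (2 * x) i))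
    (hrel : ∀ w ∈ D.paths, σ (pathProd (letG γx) w) = 1) :
    ∃ a : ℕ → ↥(center Γ), (∀ x, ((a x : ↥(center Γ)) : Γ) ∈ σ.ker) ∧
      ∀ w ∈ D.paths, pathProd (letG (fun x => γx x * (a x : Γ))) w = 1 := by
  have htab := h.htab
  -- the action of the letters
  have hnxt : ∀ l < 2 * D.d, ∀ i < D.n, nxt l i < D.n ∧ σ (letG γx l) • pts i = pts (nxt l i) := by
    intro l hl i hi
    refine ⟨htab l hl i hi, ?_⟩
    obtain ⟨x, hx, hlx⟩ : ∃ x, x < D.d ∧ (l = 2 * x ∨ l = 2 * x + 1) := ⟨l / 2, by omega, by omega⟩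
    obtain ⟨t1, t2, t3, t4⟩ := h.tab x hx i hi
    rcases hlx with rfl | rfl
    · have : letG γx (2 * x) = γx x := by
        simp only [letG]
        rw [if_pos (by omega), show 2 * x / 2 = x by omega]
      rw [this, hact _ hx i hi]
    · have : letG γx (2 * x + 1) = (γx x)⁻¹ := by
        simp only [letG]
        rw [if_neg (by omega), show (2 * x + 1) / 2 = x by omega]
      rw [this, map_inv, inv_smul_eq_iff, hact _ hx _ t2, t4]
  -- the kernel inside the centre
  let kerC : Subgroup ↥(center Γ) := σ.ker.comap (center Γ).subtype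
  have hkerC : ∀ c : ↥(center Γ), c ∈ kerC ↔ (c : Γ) ∈ σ.ker := fun c => Iff.rfl
  have hexpC : ∀ c ∈ kerC, c ^ D.p = 1 := by
    intro c hc
    apply Subtype.ext
    rw [Subgroup.coe_pow]
    exact hexp _ hc
  let F : ℕ → ℕ → ↥(center Γ) := fun i x => C.c (γx x) (pts i)
  have hF : ∀ i x, F i x ^ D.p = 1 := fun i x => hexpC _ (C.mem_ker _ _)
  -- the values of the relators
  let z : ℕ → ↥(center Γ) := fun j => walkF F nxt (D.paths.getD j []) 0
  have hzi : ∀ j < D.paths.length, ∀ i < D.n, walkF F nxt (D.paths.getD j []) i = z j := by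
    intro j hj i hi
    have hm := D.path_mem hj
    apply Subtype.ext
    rw [← relator_eq_walkF C γx pts nxt D.n D.d hnxt _ (h.paths _ hm) (hrel _ hm) i hi,
      ← relator_eq_walkF C γx pts nxt D.n D.d hnxt _ (h.paths _ hm) (hrel _ hm) 0 h.hn]
  have hzval : ∀ j < D.paths.length, ((z j : ↥(center Γ)) : Γ) = pathProd (letG γx) (D.paths.getD j []) := by
    intro j hj
    have hm := D.path_mem hj
    exact (relator_eq_walkF C γx pts nxt D.n D.d hnxt _ (h.paths _ hm) (hrel _ hm) 0 h.hn).symm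
  have hzker : ∀ j, z j ∈ kerC := by
    intro j
    by_cases hj : j < D.paths.length
    · rw [hkerC, hzval j hj, MonoidHom.mem_ker]
      exact hrel _ (D.path_mem hj)
    · have : D.paths.getD j [] = [] := by
        rw [List.getD_eq_default]; omega
      show walkF F nxt (D.paths.getD j []) 0 ∈ kerC
      rw [this]
      exact one_mem _
  have hzp : ∀ j, z j ^ D.p = 1 := fun j => hexpC _ (hzker j)
  -- the cycles
  have hΛ : ∀ k < D.cycles.length, ∏ j ∈ Finset.range D.paths.length, z j ^ entry D.Lam k j = 1 :=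
    fun k hk => hcyc k hk F hF z hzi
  have hla := la_lemma D.p D.paths.length D.d D.cycles.length z hzp D.ex (entry D.S) (entry D.Tm) (entry D.Lam)
    hΛ h.id
  -- the correction
  let b : ℕ → ↥(center Γ) := fun x => ∏ i ∈ Finset.range D.paths.length, z i ^ entry D.S x i
  have hbker : ∀ x, b x ∈ kerC := fun x => Subgroup.prod_mem _ (fun i _ => pow_mem (hzker i) _)
  refine ⟨fun x => (b x)⁻¹, fun x => (hkerC _).mp (inv_mem (hbker x)), ?_⟩
  intro w hw
  obtain ⟨j, hj, rfl⟩ : ∃ j, j < D.paths.length ∧ D.paths.getD j [] = w := by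
    obtain ⟨j, hj, rfl⟩ := List.getElem_of_mem hw
    exact ⟨j, hj, List.getD_eq_getElem _ _ hj⟩
  rw [pathProd_mul, ← hzval j hj]
  have hprod : (((D.paths.getD j []).map (letA (fun x => (b x)⁻¹))).prod : ↥(center Γ)) =
      ∏ x ∈ Finset.range D.d, ((b x)⁻¹) ^ expo D.p (D.paths.getD j []) x :=
    prod_letA D.p h.hp (fun x => (b x)⁻¹) (fun x => by rw [inv_pow, hexpC _ (hbker x), inv_one]) D.d _
      (h.paths _ (D.path_mem hj))
  rw [hprod, ← Subgroup.coe_mul]
  have : z j * ∏ x ∈ Finset.range D.d, ((b x)⁻¹) ^ expo D.p (D.paths.getD j []) x = 1 := by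
    rw [hla j hj]
    simp only [inv_pow, Finset.prod_inv_distrib]
    exact mul_inv_cancel _
  rw [this]
  rfl

end Main

section Pres
variable {α : Type} (rels : Set (FreeGroup α)) (relWords : List (List (α × Bool)))
  (lw : α × Bool → ℕ) (gi : α → ℕ)

/-- `ker_eq_bot_of_fox_trie` of `Helper10.FoxTrie` with the static part as a hypothesis -/
theorem ker_eq_bot_of_fox_trie'
    (hrels : ∀ r, r ∈ rels ↔ ∃ L ∈ relWords, r = FreeGroup.mk L)
    (hlw : ∀ x b, lw (x, b) = 2 * gi x + cond b 0 1) (hgi : Function.Injective gi)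
    (H : Subgroup (PresentedGroup rels))
    (T : Table) (hT : T.OK) (hlwk : ∀ x, lw (x, true) < T.k)
    (φ : PresentedGroup rels →* Equiv.Perm (Fin T.n))
    (hφ : ∀ x, φ (PresentedGroup.of x) = Table.sigma hT (lw (x, true)))
    (f : PresentedGroup rels ⧸ H → Fin T.n) (hf : Function.Bijective f)
    (hfe : ∀ g q, f (g • q) = φ g (f q))
    (D : FoxData) (hDn : D.n = T.n) (hDd : ∀ k < D.d, ∃ x, gi x = k)
    (hpaths : D.paths = relWords.map (pathOf lw))
    (hstat : D.Static T.tau) (CY : List (List (List (ℕ × ℕ)))) (Dp : ℕ)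
    (hcyc : ∀ k < D.cycles.length, cycleOKT D T.tau Dp k (CY.getD k []) = true)
    {Γ : Type*} [Group Γ] (σ : Γ →* PresentedGroup rels) (hσ : Cfsg.IsStemExtension σ)
    (hexp : ∀ a ∈ σ.ker, a ^ D.p = 1) (R : Retraction σ (H.comap σ)) : σ.ker = ⊥ := by
  classical
  -- the cocycle on the coset space
  have hV : ∀ γ, γ ∈ H.comap σ ↔ σ γ • (QuotientGroup.mk 1 : PresentedGroup rels ⧸ H) = QuotientGroup.mk 1 := by
    intro γ
    rw [Subgroup.mem_comap]
    show _ ↔ (QuotientGroup.mk (σ γ * 1) : PresentedGroup rels ⧸ H) = QuotientGroup.mk 1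
    rw [mul_one, QuotientGroup.eq, mul_one, inv_mem_iff]
  obtain ⟨C⟩ := exists_cocycle σ hσ.1 hσ.2.1 (QuotientGroup.mk 1 : PresentedGroup rels ⧸ H) (H.comap σ) hV R
  -- lifts of the generators
  have hlift : ∀ x : α, ∃ g : Γ, σ g = PresentedGroup.of x := fun x => hσ.1 _
  choose γ0 hγ0 using hlift
  let γx : ℕ → Γ := fun k => if h : ∃ x, gi x = k then γ0 h.choose else 1
  have hγx : ∀ x, γx (gi x) = γ0 x := by
    intro x
    have h : ∃ y, gi y = gi x := ⟨x, rfl⟩
    show (if h : ∃ y, gi y = gi x then γ0 h.choose else 1) = γ0 x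
    rw [dif_pos h, hgi h.choose_spec]
  -- the points
  let e := Equiv.ofBijective f hf
  let pts : ℕ → PresentedGroup rels ⧸ H := fun i => if h : i < T.n then e.symm ⟨i, h⟩ else QuotientGroup.mk 1
  have hpts : ∀ i (h : i < T.n), f (pts i) = ⟨i, h⟩ := by
    intro i h
    show f (if h : i < T.n then e.symm ⟨i, h⟩ else QuotientGroup.mk 1) = _
    rw [dif_pos h]
    exact e.apply_symm_apply _
  have hact : ∀ x < D.d, ∀ i < D.n, σ (γx x) • pts i = pts (T.tau (2 * x) i) := by
    intro k hk i hi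
    rw [hDn] at hi
    obtain ⟨x, rfl⟩ := hDd k hk
    rw [hγx, hγ0]
    apply hf.1
    rw [hfe, hφ, hpts i hi]
    have hlt : T.tau (2 * gi x) i < T.n := by
      have := (Table.sigma hT (lw (x, true)) ⟨i, hi⟩).2
      rwa [Table.sigma_apply hT (hlwk x), hlw, cond_true, add_zero] at this
    rw [hpts _ hlt]
    apply Fin.ext
    rw [Table.sigma_apply hT (hlwk x), hlw]
    rfl
  have hcomp : ∀ (g : α → Γ), (∀ x, σ (g x) = PresentedGroup.of x) → ∀ L : List (α × Bool),
      σ (FreeGroup.lift g (FreeGroup.mk L)) = PresentedGroup.mk rels (FreeGroup.mk L) := by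
    intro g hg L
    have : σ.comp (FreeGroup.lift g) = PresentedGroup.mk rels := by
      apply FreeGroup.ext_hom
      intro x
      show σ (FreeGroup.lift g (FreeGroup.of x)) = PresentedGroup.mk rels (FreeGroup.of x)
      rw [FreeGroup.lift_apply_of, hg]
      rfl
    exact congrArg (fun h : FreeGroup α →* PresentedGroup rels => h (FreeGroup.mk L)) this
  have hrel : ∀ w ∈ D.paths, σ (pathProd (letG γx) w) = 1 := by
    intro w hw
    rw [hpaths, List.mem_map] at hw
    obtain ⟨L, hL, rfl⟩ := hw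
    rw [← lift_mk_eq_pathProd γ0 lw (letG γx) (fun x b => by rw [letG_lw lw gi hlw, hγx]) L, hcomp γ0 hγ0]
    exact PresentedGroup.one_of_mem ((hrels _).mpr ⟨L, hL, rfl⟩)
  obtain ⟨a, haker, harel⟩ := exists_adjust_abs' D T.tau hstat
    (fun k hk F hF z hz => cycleT_sound D T.tau Dp hstat k _ (hcyc k hk) F hF z hz) C hexp γx pts hact hrel
  -- the corrected lifts
  let γ' : α → Γ := fun x => γ0 x * (a (gi x) : Γ)
  have hγ' : ∀ x, σ (γ' x) = PresentedGroup.of x := by
    intro x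
    show σ (γ0 x * (a (gi x) : Γ)) = _
    rw [map_mul, hγ0, MonoidHom.mem_ker.mp (haker _), mul_one]
  refine ker_eq_bot_of_lifts rels σ hσ γ' hγ' ?_
  intro r hr
  obtain ⟨L, hL, rfl⟩ := (hrels r).mp hr
  rw [lift_mk_eq_pathProd γ' lw (letG (fun k => γx k * (a k : Γ))) (fun x b => by
    rw [letG_lw lw gi hlw, hγx]) L]
  exact harel _ (by rw [hpaths]; exact List.mem_map_of_mem hL)

end Pres

end Cfsg.Agent.Lib.Helper19.ONM.FoxTrieP
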