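import Cfsg.Agent.Lib.Helper19.ONM.T3Card
import Cfsg.Agent.Lib.Helper19.ONM.FoxStatic
import Cfsg.Agent.Lib.Helper19.ONM.FoxTrieP
import Cfsg.Agent.Lib.Helper19.ONM.FoxP2Chk0
set_option autoImplicit false
set_option maxHeartbeats 0
set_option maxRecDepth 1000000

/-! The Fox criterion modulo 2 for the presented triple cover of the O'Nan group. -/

namespace Cfsg.Agent.Lib.Helper19.ONM.FoxP2Fin
open Cfsg.Agent.Lib.Helper19.ONM.Def Cfsg.Agent.Lib.Helper19.ONM.T3Tab Cfsg.Agent.Lib.Helper19.ONM.T3Rep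
open Cfsg.Agent.Lib.Helper19.ONM.T3Card
open Cfsg.Agent.Lib.Helper28.SchurFox Cfsg.Agent.Lib.Helper28.TC2Glue
open Cfsg.Agent.Lib.Helper10.FoxTrie

theorem hpaths : Cfsg.Agent.Lib.Helper19.ONM.FoxP2.data.paths = relWords.map (pathOf lw) := by decide +kernel

theorem hpathsOK : Cfsg.Agent.Lib.Helper19.ONM.FoxP2.data.pathsOK = true := by decide +kernel

theorem hidOK : Cfsg.Agent.Lib.Helper19.ONM.FoxP2.data.idOK = true := by decide +kernel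

theorem hstat : Cfsg.Agent.Lib.Helper19.ONM.FoxP2.data.Static table3.tau :=
  Cfsg.Agent.Lib.Helper19.ONM.FoxStatic.static_of_table Cfsg.Agent.Lib.Helper19.ONM.FoxP2.data table3 hT rfl (by decide) hinv (by decide) (by decide)
    (by decide) hpathsOK hidOK

theorem hlen : Cfsg.Agent.Lib.Helper19.ONM.FoxP2.data.cycles.length = 43 := by decide +kernel

theorem hcyc : ∀ k < Cfsg.Agent.Lib.Helper19.ONM.FoxP2.data.cycles.length,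
    cycleOKT Cfsg.Agent.Lib.Helper19.ONM.FoxP2.data table3.tau 22 k (Cfsg.Agent.Lib.Helper19.ONM.FoxP2Cyc.CY.getD k []) = true := by
  intro k hk
  rw [hlen] at hk
  interval_cases k
  · exact Cfsg.Agent.Lib.Helper19.ONM.FoxP2Chk0.c0
  · exact Cfsg.Agent.Lib.Helper19.ONM.FoxP2Chk0.c1
  · exact Cfsg.Agent.Lib.Helper19.ONM.FoxP2Chk0.c2
  · exact Cfsg.Agent.Lib.Helper19.ONM.FoxP2Chk0.c3
  · exact Cfsg.Agent.Lib.Helper19.ONM.FoxP2Chk0.c4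
  · exact Cfsg.Agent.Lib.Helper19.ONM.FoxP2Chk0.c5
  · exact Cfsg.Agent.Lib.Helper19.ONM.FoxP2Chk0.c6
  · exact Cfsg.Agent.Lib.Helper19.ONM.FoxP2Chk0.c7
  · exact Cfsg.Agent.Lib.Helper19.ONM.FoxP2Chk0.c8
  · exact Cfsg.Agent.Lib.Helper19.ONM.FoxP2Chk0.c9
  · exact Cfsg.Agent.Lib.Helper19.ONM.FoxP2Chk0.c10
  · exact Cfsg.Agent.Lib.Helper19.ONM.FoxP2Chk0.c11
  · exact Cfsg.Agent.Lib.Helper19.ONM.FoxP2Chk0.c12
  · exact Cfsg.Agent.Lib.Helper19.ONM.FoxP2Chk0.c13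
  · exact Cfsg.Agent.Lib.Helper19.ONM.FoxP2Chk0.c14
  · exact Cfsg.Agent.Lib.Helper19.ONM.FoxP2Chk0.c15
  · exact Cfsg.Agent.Lib.Helper19.ONM.FoxP2Chk0.c16
  · exact Cfsg.Agent.Lib.Helper19.ONM.FoxP2Chk0.c17
  · exact Cfsg.Agent.Lib.Helper19.ONM.FoxP2Chk0.c18
  · exact Cfsg.Agent.Lib.Helper19.ONM.FoxP2Chk0.c19
  · exact Cfsg.Agent.Lib.Helper19.ONM.FoxP2Chk0.c20
  · exact Cfsg.Agent.Lib.Helper19.ONM.FoxP2Chk0.c21
  · exact Cfsg.Agent.Lib.Helper19.ONM.FoxP2Chk0.c22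
  · exact Cfsg.Agent.Lib.Helper19.ONM.FoxP2Chk0.c23
  · exact Cfsg.Agent.Lib.Helper19.ONM.FoxP2Chk0.c24
  · exact Cfsg.Agent.Lib.Helper19.ONM.FoxP2Chk0.c25
  · exact Cfsg.Agent.Lib.Helper19.ONM.FoxP2Chk0.c26
  · exact Cfsg.Agent.Lib.Helper19.ONM.FoxP2Chk0.c27
  · exact Cfsg.Agent.Lib.Helper19.ONM.FoxP2Chk0.c28
  · exact Cfsg.Agent.Lib.Helper19.ONM.FoxP2Chk0.c29
  · exact Cfsg.Agent.Lib.Helper19.ONM.FoxP2Chk0.c30
  · exact Cfsg.Agent.Lib.Helper19.ONM.FoxP2Chk0.c31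
  · exact Cfsg.Agent.Lib.Helper19.ONM.FoxP2Chk0.c32
  · exact Cfsg.Agent.Lib.Helper19.ONM.FoxP2Chk0.c33
  · exact Cfsg.Agent.Lib.Helper19.ONM.FoxP2Chk0.c34
  · exact Cfsg.Agent.Lib.Helper19.ONM.FoxP2Chk0.c35
  · exact Cfsg.Agent.Lib.Helper19.ONM.FoxP2Chk0.c36
  · exact Cfsg.Agent.Lib.Helper19.ONM.FoxP2Chk0.c37
  · exact Cfsg.Agent.Lib.Helper19.ONM.FoxP2Chk0.c38
  · exact Cfsg.Agent.Lib.Helper19.ONM.FoxP2Chk0.c39
  · exact Cfsg.Agent.Lib.Helper19.ONM.FoxP2Chk0.c40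
  · exact Cfsg.Agent.Lib.Helper19.ONM.FoxP2Chk0.c41
  · exact Cfsg.Agent.Lib.Helper19.ONM.FoxP2Chk0.c42

/-- the kernel of a stem extension of the cover with kernel of exponent 2 is trivial, given a retraction -/
theorem ker_eq_bot {Γ : Type} [Group Γ] (τ : Γ →* Ghat) (hτ : Cfsg.IsStemExtension τ)
    (hexp : ∀ a ∈ τ.ker, a ^ 2 = 1) (R : Retraction τ (Hp.comap τ)) : τ.ker = ⊥ :=
  Cfsg.Agent.Lib.Helper19.ONM.FoxTrieP.ker_eq_bot_of_fox_trie' rels relWords lw gi hrels hlw hgi Hp table3 hT hlwk phi phi_gen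
    f3 f3_bijective f3_smul Cfsg.Agent.Lib.Helper19.ONM.FoxP2.data rfl hDd hpaths hstat Cfsg.Agent.Lib.Helper19.ONM.FoxP2Cyc.CY 22 hcyc τ hτ hexp R

end Cfsg.Agent.Lib.Helper19.ONM.FoxP2Fin
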