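import Cfsg.Agent.Lib.Helper19.ONM.FoxP3
import Cfsg.Agent.Lib.Helper19.ONM.FoxP3Cyc
import Cfsg.Agent.Lib.Helper19.ONM.T3Tab
import Cfsg.Agent.Lib.Helper10.FoxTrieB
set_option autoImplicit false
set_option maxHeartbeats 0
set_option maxRecDepth 1000000

/-! The cycles of the Fox certificate modulo 3 checked with the trie checker of helper10 (depth 22). -/

namespace Cfsg.Agent.Lib.Helper19.ONM.FoxP3Chk0
open Cfsg.Agent.Lib.Helper10.FoxTrie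

theorem c0 : cycleOKT Cfsg.Agent.Lib.Helper19.ONM.FoxP3.data Cfsg.Agent.Lib.Helper19.ONM.T3Tab.table3.tau 22 0 Cfsg.Agent.Lib.Helper19.ONM.FoxP3Cyc.cyc0 = true := by
  decide +kernel

theorem c1 : cycleOKT Cfsg.Agent.Lib.Helper19.ONM.FoxP3.data Cfsg.Agent.Lib.Helper19.ONM.T3Tab.table3.tau 22 1 Cfsg.Agent.Lib.Helper19.ONM.FoxP3Cyc.cyc1 = true := by
  decide +kernel

theorem c2 : cycleOKT Cfsg.Agent.Lib.Helper19.ONM.FoxP3.data Cfsg.Agent.Lib.Helper19.ONM.T3Tab.table3.tau 22 2 Cfsg.Agent.Lib.Helper19.ONM.FoxP3Cyc.cyc2 = true := by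
  decide +kernel

theorem c3 : cycleOKT Cfsg.Agent.Lib.Helper19.ONM.FoxP3.data Cfsg.Agent.Lib.Helper19.ONM.T3Tab.table3.tau 22 3 Cfsg.Agent.Lib.Helper19.ONM.FoxP3Cyc.cyc3 = true := by
  decide +kernel

theorem c4 : cycleOKT Cfsg.Agent.Lib.Helper19.ONM.FoxP3.data Cfsg.Agent.Lib.Helper19.ONM.T3Tab.table3.tau 22 4 Cfsg.Agent.Lib.Helper19.ONM.FoxP3Cyc.cyc4 = true := by
  decide +kernel

theorem c5 : cycleOKT Cfsg.Agent.Lib.Helper19.ONM.FoxP3.data Cfsg.Agent.Lib.Helper19.ONM.T3Tab.table3.tau 22 5 Cfsg.Agent.Lib.Helper19.ONM.FoxP3Cyc.cyc5 = true := by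
  decide +kernel

theorem c6 : cycleOKT Cfsg.Agent.Lib.Helper19.ONM.FoxP3.data Cfsg.Agent.Lib.Helper19.ONM.T3Tab.table3.tau 22 6 Cfsg.Agent.Lib.Helper19.ONM.FoxP3Cyc.cyc6 = true := by
  decide +kernel

theorem c7 : cycleOKT Cfsg.Agent.Lib.Helper19.ONM.FoxP3.data Cfsg.Agent.Lib.Helper19.ONM.T3Tab.table3.tau 22 7 Cfsg.Agent.Lib.Helper19.ONM.FoxP3Cyc.cyc7 = true := by
  decide +kernel

theorem c8 : cycleOKT Cfsg.Agent.Lib.Helper19.ONM.FoxP3.data Cfsg.Agent.Lib.Helper19.ONM.T3Tab.table3.tau 22 8 Cfsg.Agent.Lib.Helper19.ONM.FoxP3Cyc.cyc8 = true := by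
  decide +kernel

theorem c9 : cycleOKT Cfsg.Agent.Lib.Helper19.ONM.FoxP3.data Cfsg.Agent.Lib.Helper19.ONM.T3Tab.table3.tau 22 9 Cfsg.Agent.Lib.Helper19.ONM.FoxP3Cyc.cyc9 = true := by
  decide +kernel

theorem c10 : cycleOKT Cfsg.Agent.Lib.Helper19.ONM.FoxP3.data Cfsg.Agent.Lib.Helper19.ONM.T3Tab.table3.tau 22 10 Cfsg.Agent.Lib.Helper19.ONM.FoxP3Cyc.cyc10 = true := by
  decide +kernel

theorem c11 : cycleOKT Cfsg.Agent.Lib.Helper19.ONM.FoxP3.data Cfsg.Agent.Lib.Helper19.ONM.T3Tab.table3.tau 22 11 Cfsg.Agent.Lib.Helper19.ONM.FoxP3Cyc.cyc11 = true := by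
  decide +kernel

theorem c12 : cycleOKT Cfsg.Agent.Lib.Helper19.ONM.FoxP3.data Cfsg.Agent.Lib.Helper19.ONM.T3Tab.table3.tau 22 12 Cfsg.Agent.Lib.Helper19.ONM.FoxP3Cyc.cyc12 = true := by
  decide +kernel

theorem c13 : cycleOKT Cfsg.Agent.Lib.Helper19.ONM.FoxP3.data Cfsg.Agent.Lib.Helper19.ONM.T3Tab.table3.tau 22 13 Cfsg.Agent.Lib.Helper19.ONM.FoxP3Cyc.cyc13 = true := by
  decide +kernel

theorem c14 : cycleOKT Cfsg.Agent.Lib.Helper19.ONM.FoxP3.data Cfsg.Agent.Lib.Helper19.ONM.T3Tab.table3.tau 22 14 Cfsg.Agent.Lib.Helper19.ONM.FoxP3Cyc.cyc14 = true := by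
  decide +kernel

theorem c15 : cycleOKT Cfsg.Agent.Lib.Helper19.ONM.FoxP3.data Cfsg.Agent.Lib.Helper19.ONM.T3Tab.table3.tau 22 15 Cfsg.Agent.Lib.Helper19.ONM.FoxP3Cyc.cyc15 = true := by
  decide +kernel

theorem c16 : cycleOKT Cfsg.Agent.Lib.Helper19.ONM.FoxP3.data Cfsg.Agent.Lib.Helper19.ONM.T3Tab.table3.tau 22 16 Cfsg.Agent.Lib.Helper19.ONM.FoxP3Cyc.cyc16 = true := by
  decide +kernel

theorem c17 : cycleOKT Cfsg.Agent.Lib.Helper19.ONM.FoxP3.data Cfsg.Agent.Lib.Helper19.ONM.T3Tab.table3.tau 22 17 Cfsg.Agent.Lib.Helper19.ONM.FoxP3Cyc.cyc17 = true := by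
  decide +kernel

theorem c18 : cycleOKT Cfsg.Agent.Lib.Helper19.ONM.FoxP3.data Cfsg.Agent.Lib.Helper19.ONM.T3Tab.table3.tau 22 18 Cfsg.Agent.Lib.Helper19.ONM.FoxP3Cyc.cyc18 = true := by
  decide +kernel

theorem c19 : cycleOKT Cfsg.Agent.Lib.Helper19.ONM.FoxP3.data Cfsg.Agent.Lib.Helper19.ONM.T3Tab.table3.tau 22 19 Cfsg.Agent.Lib.Helper19.ONM.FoxP3Cyc.cyc19 = true := by
  decide +kernel

theorem c20 : cycleOKT Cfsg.Agent.Lib.Helper19.ONM.FoxP3.data Cfsg.Agent.Lib.Helper19.ONM.T3Tab.table3.tau 22 20 Cfsg.Agent.Lib.Helper19.ONM.FoxP3Cyc.cyc20 = true := by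
  decide +kernel

theorem c21 : cycleOKT Cfsg.Agent.Lib.Helper19.ONM.FoxP3.data Cfsg.Agent.Lib.Helper19.ONM.T3Tab.table3.tau 22 21 Cfsg.Agent.Lib.Helper19.ONM.FoxP3Cyc.cyc21 = true := by
  decide +kernel

theorem c22 : cycleOKT Cfsg.Agent.Lib.Helper19.ONM.FoxP3.data Cfsg.Agent.Lib.Helper19.ONM.T3Tab.table3.tau 22 22 Cfsg.Agent.Lib.Helper19.ONM.FoxP3Cyc.cyc22 = true := by
  decide +kernel

theorem c23 : cycleOKT Cfsg.Agent.Lib.Helper19.ONM.FoxP3.data Cfsg.Agent.Lib.Helper19.ONM.T3Tab.table3.tau 22 23 Cfsg.Agent.Lib.Helper19.ONM.FoxP3Cyc.cyc23 = true := by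
  decide +kernel

theorem c24 : cycleOKT Cfsg.Agent.Lib.Helper19.ONM.FoxP3.data Cfsg.Agent.Lib.Helper19.ONM.T3Tab.table3.tau 22 24 Cfsg.Agent.Lib.Helper19.ONM.FoxP3Cyc.cyc24 = true := by
  decide +kernel

theorem c25 : cycleOKT Cfsg.Agent.Lib.Helper19.ONM.FoxP3.data Cfsg.Agent.Lib.Helper19.ONM.T3Tab.table3.tau 22 25 Cfsg.Agent.Lib.Helper19.ONM.FoxP3Cyc.cyc25 = true := by
  decide +kernel

theorem c26 : cycleOKT Cfsg.Agent.Lib.Helper19.ONM.FoxP3.data Cfsg.Agent.Lib.Helper19.ONM.T3Tab.table3.tau 22 26 Cfsg.Agent.Lib.Helper19.ONM.FoxP3Cyc.cyc26 = true := by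
  decide +kernel

theorem c27 : cycleOKT Cfsg.Agent.Lib.Helper19.ONM.FoxP3.data Cfsg.Agent.Lib.Helper19.ONM.T3Tab.table3.tau 22 27 Cfsg.Agent.Lib.Helper19.ONM.FoxP3Cyc.cyc27 = true := by
  decide +kernel

theorem c28 : cycleOKT Cfsg.Agent.Lib.Helper19.ONM.FoxP3.data Cfsg.Agent.Lib.Helper19.ONM.T3Tab.table3.tau 22 28 Cfsg.Agent.Lib.Helper19.ONM.FoxP3Cyc.cyc28 = true := by
  decide +kernel

theorem c29 : cycleOKT Cfsg.Agent.Lib.Helper19.ONM.FoxP3.data Cfsg.Agent.Lib.Helper19.ONM.T3Tab.table3.tau 22 29 Cfsg.Agent.Lib.Helper19.ONM.FoxP3Cyc.cyc29 = true := by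
  decide +kernel

theorem c30 : cycleOKT Cfsg.Agent.Lib.Helper19.ONM.FoxP3.data Cfsg.Agent.Lib.Helper19.ONM.T3Tab.table3.tau 22 30 Cfsg.Agent.Lib.Helper19.ONM.FoxP3Cyc.cyc30 = true := by
  decide +kernel

theorem c31 : cycleOKT Cfsg.Agent.Lib.Helper19.ONM.FoxP3.data Cfsg.Agent.Lib.Helper19.ONM.T3Tab.table3.tau 22 31 Cfsg.Agent.Lib.Helper19.ONM.FoxP3Cyc.cyc31 = true := by
  decide +kernel

theorem c32 : cycleOKT Cfsg.Agent.Lib.Helper19.ONM.FoxP3.data Cfsg.Agent.Lib.Helper19.ONM.T3Tab.table3.tau 22 32 Cfsg.Agent.Lib.Helper19.ONM.FoxP3Cyc.cyc32 = true := by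
  decide +kernel

theorem c33 : cycleOKT Cfsg.Agent.Lib.Helper19.ONM.FoxP3.data Cfsg.Agent.Lib.Helper19.ONM.T3Tab.table3.tau 22 33 Cfsg.Agent.Lib.Helper19.ONM.FoxP3Cyc.cyc33 = true := by
  decide +kernel

theorem c34 : cycleOKT Cfsg.Agent.Lib.Helper19.ONM.FoxP3.data Cfsg.Agent.Lib.Helper19.ONM.T3Tab.table3.tau 22 34 Cfsg.Agent.Lib.Helper19.ONM.FoxP3Cyc.cyc34 = true := by
  decide +kernel

theorem c35 : cycleOKT Cfsg.Agent.Lib.Helper19.ONM.FoxP3.data Cfsg.Agent.Lib.Helper19.ONM.T3Tab.table3.tau 22 35 Cfsg.Agent.Lib.Helper19.ONM.FoxP3Cyc.cyc35 = true := by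
  decide +kernel

theorem c36 : cycleOKT Cfsg.Agent.Lib.Helper19.ONM.FoxP3.data Cfsg.Agent.Lib.Helper19.ONM.T3Tab.table3.tau 22 36 Cfsg.Agent.Lib.Helper19.ONM.FoxP3Cyc.cyc36 = true := by
  decide +kernel

theorem c37 : cycleOKT Cfsg.Agent.Lib.Helper19.ONM.FoxP3.data Cfsg.Agent.Lib.Helper19.ONM.T3Tab.table3.tau 22 37 Cfsg.Agent.Lib.Helper19.ONM.FoxP3Cyc.cyc37 = true := by
  decide +kernel

theorem c38 : cycleOKT Cfsg.Agent.Lib.Helper19.ONM.FoxP3.data Cfsg.Agent.Lib.Helper19.ONM.T3Tab.table3.tau 22 38 Cfsg.Agent.Lib.Helper19.ONM.FoxP3Cyc.cyc38 = true := by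
  decide +kernel

theorem c39 : cycleOKT Cfsg.Agent.Lib.Helper19.ONM.FoxP3.data Cfsg.Agent.Lib.Helper19.ONM.T3Tab.table3.tau 22 39 Cfsg.Agent.Lib.Helper19.ONM.FoxP3Cyc.cyc39 = true := by
  decide +kernel

theorem c40 : cycleOKT Cfsg.Agent.Lib.Helper19.ONM.FoxP3.data Cfsg.Agent.Lib.Helper19.ONM.T3Tab.table3.tau 22 40 Cfsg.Agent.Lib.Helper19.ONM.FoxP3Cyc.cyc40 = true := by
  decide +kernel

theorem c41 : cycleOKT Cfsg.Agent.Lib.Helper19.ONM.FoxP3.data Cfsg.Agent.Lib.Helper19.ONM.T3Tab.table3.tau 22 41 Cfsg.Agent.Lib.Helper19.ONM.FoxP3Cyc.cyc41 = true := by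
  decide +kernel

end Cfsg.Agent.Lib.Helper19.ONM.FoxP3Chk0
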