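import Cfsg.Agent.Lib.Helper19.ONM.Def
import Cfsg.Agent.Lib.Helper16.McLM.CoverLow
import Cfsg.Agent.Lib.Helper28.TC2Range

set_option autoImplicit false
set_option maxRecDepth 100000

/-!
# The permutation representation of the presented triple cover from a table with a central letter

The table has `3 * n` points; the letter `14` (the generator `z`) acts as `q ↦ (q + n) % (3 * n)`; the letters
`2 x` of the other generators commute with it; the relator paths of `relWordsA` fix the points `p < n`.
-/

namespace Cfsg.Agent.Lib.Helper19.ONM.T3Lib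

open Cfsg.Agent.Lib.Helper19.ONM.Def
open Cfsg.Agent.Lib.Helper28.TC2Upper Cfsg.Agent.Lib.Helper28.TC2Lower Cfsg.Agent.Lib.Helper28.TC2Glue
open Cfsg.Agent.Lib.Helper16.McLM.CoverLow

/-- the letters `2 x`, `x < 7`, commute with the shift by `n` at the point `q` -/
noncomputable def comRow (T : Table) (n q : ℕ) : Bool :=
  allLoop (fun x => Nat.beq (T.tau (Nat.mul 2 x) (Nat.mod (Nat.add q n) T.n))
    (Nat.mod (Nat.add (T.tau (Nat.mul 2 x) q) n) T.n)) 7

/-- `comRow` on a range of points -/
noncomputable def comRange (T : Table) (n lo cnt : ℕ) : Bool := allLoop (fun i => comRow T n (Nat.add lo i)) cnt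

theorem comRange_iff (T : Table) (n lo cnt : ℕ) :
    comRange T n lo cnt = true ↔ ∀ q, lo ≤ q → q < lo + cnt → comRow T n q = true :=
  Cfsg.Agent.Lib.Helper28.TC2Range.allLoop_add_iff _ lo cnt

theorem comRow_iff (T : Table) (n q : ℕ) :
    comRow T n q = true ↔ ∀ x, x < 7 → T.tau (2 * x) ((q + n) % T.n) = (T.tau (2 * x) q + n) % T.n := by
  unfold comRow
  rw [allLoop_eq_true]
  constructor
  · intro h x hx
    exact (Data.nbeq_iff _ _).mp (h x hx)
  · intro h x hx
    exact (Data.nbeq_iff _ _).mpr (h x hx)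

section Main

variable {T : Table} (hT : T.OK) (n : ℕ) (hk : T.k = 16) (hn : T.n = 3 * n)
  (hinv : ∀ x, x < 8 → T.invl (2 * x) = 2 * x + 1)
  (hz : ∀ q, q < T.n → T.tau 14 q = (q + n) % T.n)
  (hcom : ∀ q, q < T.n → comRow T n q = true)

include hk hn hz hcom in
theorem commute_gen (x : ℕ) (hx : x < 8) : Commute (Table.sigma hT (2 * x)) (Table.sigma hT 14) := by
  rcases Nat.lt_or_ge x 7 with h7 | h7
  · have hlx : 2 * x < T.k := by omega
    have hlz : 14 < T.k := by omega
    show Table.sigma hT (2 * x) * Table.sigma hT 14 = Table.sigma hT 14 * Table.sigma hT (2 * x)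
    ext q
    show (Table.sigma hT (2 * x) (Table.sigma hT 14 q)).val = (Table.sigma hT 14 (Table.sigma hT (2 * x) q)).val
    rw [Table.sigma_apply hT hlx, Table.sigma_apply hT hlz, Table.sigma_apply hT hlz, Table.sigma_apply hT hlx,
      hz q.val q.2, hz _ ((hT.perm q.val q.2 _ hlx).1)]
    exact (comRow_iff T n q.val).mp (hcom q.val q.2) x h7
  · have : x = 7 := by omega
    subst this
    exact Commute.refl _

include hk hinv in
theorem sigma_lw (x : Gen8) (b : Bool) :
    Table.sigma hT (lw (x, b)) = cond b (Table.sigma hT (lw (x, true))) (Table.sigma hT (lw (x, true)))⁻¹ := by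
  cases b with
  | true => rfl
  | false =>
    have hgx : gi x < 8 := by cases x <;> decide
    show Table.sigma hT (2 * gi x + 1) = (Table.sigma hT (2 * gi x + 0))⁻¹
    rw [add_zero, ← hinv _ hgx, Table.sigma_inv hT (by omega)]

include hk in
theorem lw_lt (xb : Gen8 × Bool) : lw xb < T.k := by
  obtain ⟨x, b⟩ := xb
  have hgx : gi x < 8 := by cases x <;> decide
  show 2 * gi x + cond b 0 1 < T.k
  cases b <;> simp <;> omega

include hk hn hinv hz hcom in
theorem commute_lw (xb : Gen8 × Bool) : Commute (Table.sigma hT (lw xb)) (Table.sigma hT 14) := by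
  obtain ⟨x, b⟩ := xb
  have hgx : gi x < 8 := by cases x <;> decide
  rw [sigma_lw hT hk hinv x b]
  have h := commute_gen hT n hk hn hz hcom (gi x) hgx
  cases b with
  | true => exact h
  | false => exact h.inv_left

theorem shift_mod (n q : ℕ) (hq : q < 3 * n) :
    (q + n) % (3 * n) = if q < 2 * n then q + n else q - 2 * n := by
  split_ifs with h
  · exact Nat.mod_eq_of_lt (by omega)
  · rw [Nat.mod_eq_sub_mod (by omega), Nat.mod_eq_of_lt (by omega)]
    omega

include hk hn hz in
theorem sigma_z_pow_three : Table.sigma hT 14 ^ 3 = 1 := by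
  have hlz : 14 < T.k := by omega
  ext q
  have h1 : ∀ p : Fin T.n, (Table.sigma hT 14 p).val = (p.val + n) % (3 * n) := by
    intro p
    rw [Table.sigma_apply hT hlz, hz p.val p.2]
    exact congrArg (fun m => (p.val + n) % m) hn
  show ((Table.sigma hT 14 ^ 3) q).val = q.val
  rw [pow_succ, pow_two]
  show (Table.sigma hT 14 (Table.sigma hT 14 (Table.sigma hT 14 q))).val = q.val
  have hq : q.val < 3 * n := by have := q.2; omega
  rw [h1, h1, h1]
  have e1 := shift_mod n q.val hq
  have hq1 : (q.val + n) % (3 * n) < 3 * n := Nat.mod_lt _ (by omega)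
  have e2 := shift_mod n _ hq1
  have hq2 : ((q.val + n) % (3 * n) + n) % (3 * n) < 3 * n := Nat.mod_lt _ (by omega)
  have e3 := shift_mod n _ hq2
  rw [e3, e2, e1]
  split_ifs <;> omega

include hk hn hinv hz hcom in
/-- the representation of the presented cover on the points of the table -/
theorem exists_rep (chk : List (List ℕ)) (hchk : ∀ p, p < n → ∀ r ∈ chk, T.walkT r p = p)
    (hmem : ∀ L ∈ relWordsA, pathOf lw L ∈ chk) :
    ∃ φ : Ghat →* Equiv.Perm (Fin T.n), ∀ x, φ (gen x) = Table.sigma hT (lw (x, true)) := by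
  set σ := Table.sigma hT with hσdef
  have hσ := sigma_lw hT hk hinv
  have hlift : ∀ L : List (Gen8 × Bool), FreeGroup.lift (fun x => σ (lw (x, true))) (FreeGroup.mk L) =
      pathProd σ (pathOf lw L) :=
    fun L => lift_mk_eq_pathProd _ lw _ hσ L
  have hlt : ∀ L : List (Gen8 × Bool), ∀ l ∈ pathOf lw L, l < T.k := by
    intro L l hl
    unfold pathOf at hl
    rw [List.mem_reverse, List.mem_map] at hl
    obtain ⟨xb, _, rfl⟩ := hl
    exact lw_lt hk _
  have hcp : ∀ L : List (Gen8 × Bool), ∀ l ∈ pathOf lw L, Commute (σ l) (σ 14) := by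
    intro L l hl
    unfold pathOf at hl
    rw [List.mem_reverse, List.mem_map] at hl
    obtain ⟨xb, _, rfl⟩ := hl
    exact commute_lw hT n hk hn hinv hz hcom _
  have hr : ∀ r ∈ rels, FreeGroup.lift (fun x => σ (lw (x, true))) r = 1 := by
    rintro _ ⟨L, hL, rfl⟩
    unfold relWords at hL
    rw [List.mem_append] at hL
    rcases hL with hL | hL
    · rw [hlift]
      exact pathProd_eq_one_of_fix hT 14 n (by omega) hn hz _ (hlt L) (hcp L)
        (fun p hp => hchk p hp _ (hmem L hL))
    · unfold relWordsC at hL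
      simp only [List.mem_append, List.mem_map, List.mem_singleton] at hL
      rcases hL with ⟨x, -, rfl⟩ | rfl
      · show FreeGroup.lift (fun x => σ (lw (x, true)))
          (FreeGroup.of Gen8.z * FreeGroup.of x * (FreeGroup.of Gen8.z)⁻¹ * (FreeGroup.of x)⁻¹) = 1
        simp only [map_mul, map_inv, FreeGroup.lift_apply_of]
        have h : Commute (σ (lw (x, true))) (σ 14) := commute_lw hT n hk hn hinv hz hcom _
        have e : σ (lw (Gen8.z, true)) = σ 14 := rfl
        rw [e, ← h.eq, mul_inv_cancel_right, mul_inv_cancel]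
      · show FreeGroup.lift (fun x => σ (lw (x, true)))
          (FreeGroup.of Gen8.z * FreeGroup.of Gen8.z * FreeGroup.of Gen8.z) = 1
        simp only [map_mul, FreeGroup.lift_apply_of]
        have e : σ (lw (Gen8.z, true)) = σ 14 := rfl
        rw [e, ← pow_two, ← pow_succ]
        exact sigma_z_pow_three hT n hk hn hz
  exact ⟨PresentedGroup.toGroup hr, fun x => PresentedGroup.toGroup.of hr⟩

end Main

end Cfsg.Agent.Lib.Helper19.ONM.T3Lib
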