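import Cfsg.Agent.Lib.Helper19.ONM.Def
import Cfsg.Agent.Lib.Helper28.TC2Glue
set_option autoImplicit false
set_option maxRecDepth 100000
set_option maxHeartbeats 0

namespace Cfsg.Agent.Lib.Helper19.ONM.T3Paths

open Cfsg.Agent.Lib.Helper19.ONM.Def Cfsg.Agent.Lib.Helper28.TC2Glue
/-- the paths of the relators coming from the O'Nan group -/
def chkPaths : List (List ℕ) := [[2, 2],
  [4, 2, 4, 2, 4, 2],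
  [6, 2, 6, 2],
  [8, 2, 8, 2],
  [10, 2, 10, 2],
  [12, 2, 12, 2],
  [2, 4, 2, 4, 2, 4],
  [4, 4],
  [6, 4, 6, 4, 6, 4],
  [8, 4, 8, 4],
  [10, 4, 10, 4],
  [12, 4, 12, 4],
  [2, 6, 2, 6],
  [4, 6, 4, 6, 4, 6],
  [6, 6],
  [8, 6, 8, 6, 8, 6, 8, 6, 8, 6, 8, 6, 8, 6, 8, 6],
  [10, 6, 10, 6],
  [12, 6, 12, 6],
  [2, 8, 2, 8],
  [4, 8, 4, 8],
  [6, 8, 6, 8, 6, 8, 6, 8, 6, 8, 6, 8, 6, 8, 6, 8],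
  [8, 8],
  [10, 8, 10, 8, 10, 8],
  [12, 8, 12, 8],
  [2, 10, 2, 10],
  [4, 10, 4, 10],
  [6, 10, 6, 10],
  [8, 10, 8, 10, 8, 10],
  [10, 10],
  [12, 10, 12, 10, 12, 10],
  [2, 12, 2, 12],
  [4, 12, 4, 12],
  [6, 12, 6, 12],
  [8, 12, 8, 12],
  [10, 12, 10, 12, 10, 12],
  [12, 12],
  [1, 1, 12, 2],
  [7, 9, 7, 9, 7, 9, 7, 9, 12, 2],
  [0, 8, 0, 8, 6, 9, 1, 9, 1, 6],
  [0, 6, 0, 6, 8, 7, 1, 7, 1, 8],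
  [15, 0, 8, 6, 4, 0, 8, 6, 4, 0, 8, 6, 4, 0, 8, 6, 4, 0, 8, 6, 4],
  [15, 6, 0, 7, 4, 0, 5, 6, 0, 7, 4, 0],
  [15, 8, 0, 9, 10, 0, 11, 8, 0, 9, 10, 0]]

theorem hmem : ∀ L ∈ relWordsA, pathOf lw L ∈ chkPaths := by decide +kernel

end Cfsg.Agent.Lib.Helper19.ONM.T3Paths
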