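import Cfsg.Agent.Lib.Helper19.ONM.T3Tab
import Cfsg.Agent.Lib.Helper19.ONM.T3Lib
import Cfsg.Agent.Lib.Helper19.ONM.T3Paths
import Cfsg.Agent.Lib.Helper19.ONM.T3Rel9  -- chain
set_option autoImplicit false
set_option maxRecDepth 100000
set_option maxHeartbeats 0

namespace Cfsg.Agent.Lib.Helper19.ONM.T3Rel10
open Cfsg.Agent.Lib.Helper28.TC2Upper Cfsg.Agent.Lib.Helper28.TC2Lower Cfsg.Agent.Lib.Helper28.TC2Range
open Cfsg.Agent.Lib.Helper19.ONM.T3Tab Cfsg.Agent.Lib.Helper19.ONM.T3Lib Cfsg.Agent.Lib.Helper16.McLM.CoverLow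

theorem r0 : table3.relOK Cfsg.Agent.Lib.Helper19.ONM.T3Paths.chkPaths 102300 1023 = true := by decide +kernel
theorem r1 : table3.relOK Cfsg.Agent.Lib.Helper19.ONM.T3Paths.chkPaths 103323 1023 = true := by decide +kernel
theorem r2 : table3.relOK Cfsg.Agent.Lib.Helper19.ONM.T3Paths.chkPaths 104346 1023 = true := by decide +kernel
theorem r3 : table3.relOK Cfsg.Agent.Lib.Helper19.ONM.T3Paths.chkPaths 105369 1023 = true := by decide +kernel
theorem r4 : table3.relOK Cfsg.Agent.Lib.Helper19.ONM.T3Paths.chkPaths 106392 1023 = true := by decide +kernel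
theorem r5 : table3.relOK Cfsg.Agent.Lib.Helper19.ONM.T3Paths.chkPaths 107415 1023 = true := by decide +kernel
theorem r6 : table3.relOK Cfsg.Agent.Lib.Helper19.ONM.T3Paths.chkPaths 108438 1023 = true := by decide +kernel
theorem r7 : table3.relOK Cfsg.Agent.Lib.Helper19.ONM.T3Paths.chkPaths 109461 1023 = true := by decide +kernel
theorem r8 : table3.relOK Cfsg.Agent.Lib.Helper19.ONM.T3Paths.chkPaths 110484 1023 = true := by decide +kernel
theorem r9 : table3.relOK Cfsg.Agent.Lib.Helper19.ONM.T3Paths.chkPaths 111507 1023 = true := by decide +kernel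

theorem all : ∀ p, 102300 ≤ p → p < 112530 → ∀ r ∈ Cfsg.Agent.Lib.Helper19.ONM.T3Paths.chkPaths, table3.walkT r p = p := by
  intro p h1 h2
  rcases Nat.lt_or_ge p 103323 with h | h1
  · exact (table3.relOK_iff Cfsg.Agent.Lib.Helper19.ONM.T3Paths.chkPaths 102300 1023).mp r0 p (by omega) (by omega)
  rcases Nat.lt_or_ge p 104346 with h | h1
  · exact (table3.relOK_iff Cfsg.Agent.Lib.Helper19.ONM.T3Paths.chkPaths 103323 1023).mp r1 p (by omega) (by omega)
  rcases Nat.lt_or_ge p 105369 with h | h1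
  · exact (table3.relOK_iff Cfsg.Agent.Lib.Helper19.ONM.T3Paths.chkPaths 104346 1023).mp r2 p (by omega) (by omega)
  rcases Nat.lt_or_ge p 106392 with h | h1
  · exact (table3.relOK_iff Cfsg.Agent.Lib.Helper19.ONM.T3Paths.chkPaths 105369 1023).mp r3 p (by omega) (by omega)
  rcases Nat.lt_or_ge p 107415 with h | h1
  · exact (table3.relOK_iff Cfsg.Agent.Lib.Helper19.ONM.T3Paths.chkPaths 106392 1023).mp r4 p (by omega) (by omega)
  rcases Nat.lt_or_ge p 108438 with h | h1
  · exact (table3.relOK_iff Cfsg.Agent.Lib.Helper19.ONM.T3Paths.chkPaths 107415 1023).mp r5 p (by omega) (by omega)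
  rcases Nat.lt_or_ge p 109461 with h | h1
  · exact (table3.relOK_iff Cfsg.Agent.Lib.Helper19.ONM.T3Paths.chkPaths 108438 1023).mp r6 p (by omega) (by omega)
  rcases Nat.lt_or_ge p 110484 with h | h1
  · exact (table3.relOK_iff Cfsg.Agent.Lib.Helper19.ONM.T3Paths.chkPaths 109461 1023).mp r7 p (by omega) (by omega)
  rcases Nat.lt_or_ge p 111507 with h | h1
  · exact (table3.relOK_iff Cfsg.Agent.Lib.Helper19.ONM.T3Paths.chkPaths 110484 1023).mp r8 p (by omega) (by omega)
  exact (table3.relOK_iff Cfsg.Agent.Lib.Helper19.ONM.T3Paths.chkPaths 111507 1023).mp r9 p (by omega) (by omega)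

end Cfsg.Agent.Lib.Helper19.ONM.T3Rel10
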