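import Cfsg.Agent.Lib.Helper19.ONM.FoxP3
import Cfsg.Agent.Lib.Helper19.ONM.FoxP3Cyc
import Cfsg.Agent.Lib.Helper19.ONM.T3Tab
import Cfsg.Agent.Lib.Helper19.ONM.FoxPart
import Cfsg.Agent.Lib.Helper19.ONM.T3Rel11  -- chain
set_option autoImplicit false
set_option maxHeartbeats 0
set_option maxRecDepth 1000000

/-! The big cycle of the Fox certificate modulo 3, checked in 8 parts (one per generator, `FoxPart`), depth 19. -/

namespace Cfsg.Agent.Lib.Helper19.ONM.FoxP3Chk1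
open Cfsg.Agent.Lib.Helper19.ONM.FoxPart

theorem head42 : headOK Cfsg.Agent.Lib.Helper19.ONM.FoxP3.data 42 Cfsg.Agent.Lib.Helper19.ONM.FoxP3Cyc.cyc42 = true := by
  decide +kernel

theorem p42_0 : partOK Cfsg.Agent.Lib.Helper19.ONM.FoxP3.data Cfsg.Agent.Lib.Helper19.ONM.T3Tab.table3.tau 19 0 Cfsg.Agent.Lib.Helper19.ONM.FoxP3Cyc.cyc42 = true := by
  decide +kernel

theorem p42_1 : partOK Cfsg.Agent.Lib.Helper19.ONM.FoxP3.data Cfsg.Agent.Lib.Helper19.ONM.T3Tab.table3.tau 19 1 Cfsg.Agent.Lib.Helper19.ONM.FoxP3Cyc.cyc42 = true := by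
  decide +kernel

theorem p42_2 : partOK Cfsg.Agent.Lib.Helper19.ONM.FoxP3.data Cfsg.Agent.Lib.Helper19.ONM.T3Tab.table3.tau 19 2 Cfsg.Agent.Lib.Helper19.ONM.FoxP3Cyc.cyc42 = true := by
  decide +kernel

theorem p42_3 : partOK Cfsg.Agent.Lib.Helper19.ONM.FoxP3.data Cfsg.Agent.Lib.Helper19.ONM.T3Tab.table3.tau 19 3 Cfsg.Agent.Lib.Helper19.ONM.FoxP3Cyc.cyc42 = true := by
  decide +kernel

theorem p42_4 : partOK Cfsg.Agent.Lib.Helper19.ONM.FoxP3.data Cfsg.Agent.Lib.Helper19.ONM.T3Tab.table3.tau 19 4 Cfsg.Agent.Lib.Helper19.ONM.FoxP3Cyc.cyc42 = true := by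
  decide +kernel

theorem p42_5 : partOK Cfsg.Agent.Lib.Helper19.ONM.FoxP3.data Cfsg.Agent.Lib.Helper19.ONM.T3Tab.table3.tau 19 5 Cfsg.Agent.Lib.Helper19.ONM.FoxP3Cyc.cyc42 = true := by
  decide +kernel

theorem p42_6 : partOK Cfsg.Agent.Lib.Helper19.ONM.FoxP3.data Cfsg.Agent.Lib.Helper19.ONM.T3Tab.table3.tau 19 6 Cfsg.Agent.Lib.Helper19.ONM.FoxP3Cyc.cyc42 = true := by
  decide +kernel

theorem p42_7 : partOK Cfsg.Agent.Lib.Helper19.ONM.FoxP3.data Cfsg.Agent.Lib.Helper19.ONM.T3Tab.table3.tau 19 7 Cfsg.Agent.Lib.Helper19.ONM.FoxP3Cyc.cyc42 = true := by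
  decide +kernel

end Cfsg.Agent.Lib.Helper19.ONM.FoxP3Chk1
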