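import Cfsg.Agent.Lib.Helper19.ONM.T3Card
import Cfsg.Agent.Lib.Helper19.ONM.FoxStatic
import Cfsg.Agent.Lib.Helper19.ONM.FoxSound
import Cfsg.Agent.Lib.Helper19.ONM.FoxP3Chk0
import Cfsg.Agent.Lib.Helper19.ONM.FoxP3Chk1
set_option autoImplicit false
set_option maxHeartbeats 0
set_option maxRecDepth 1000000

/-! The Fox criterion modulo 3 for the presented triple cover of the O'Nan group. -/

namespace Cfsg.Agent.Lib.Helper19.ONM.FoxP3Fin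
open Cfsg.Agent.Lib.Helper19.ONM.Def Cfsg.Agent.Lib.Helper19.ONM.T3Tab Cfsg.Agent.Lib.Helper19.ONM.T3Rep
open Cfsg.Agent.Lib.Helper19.ONM.T3Card
open Cfsg.Agent.Lib.Helper28.SchurFox Cfsg.Agent.Lib.Helper28.TC2Glue
open Cfsg.Agent.Lib.Helper10.FoxTrie Cfsg.Agent.Lib.Helper19.ONM.FoxPart
open scoped IsMulCommutative

theorem hpaths : Cfsg.Agent.Lib.Helper19.ONM.FoxP3.data.paths = relWords.map (pathOf lw) := by decide +kernel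

theorem hpathsOK : Cfsg.Agent.Lib.Helper19.ONM.FoxP3.data.pathsOK = true := by decide +kernel

theorem hidOK : Cfsg.Agent.Lib.Helper19.ONM.FoxP3.data.idOK = true := by decide +kernel

theorem hstat : Cfsg.Agent.Lib.Helper19.ONM.FoxP3.data.Static table3.tau :=
  Cfsg.Agent.Lib.Helper19.ONM.FoxStatic.static_of_table Cfsg.Agent.Lib.Helper19.ONM.FoxP3.data table3 hT rfl (by decide) hinv (by decide) (by decide)
    (by decide) hpathsOK hidOK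

theorem hlen : Cfsg.Agent.Lib.Helper19.ONM.FoxP3.data.cycles.length = 43 := by decide +kernel

theorem hparts42 : ∀ y < Cfsg.Agent.Lib.Helper19.ONM.FoxP3.data.d,
    partOK Cfsg.Agent.Lib.Helper19.ONM.FoxP3.data table3.tau 19 y Cfsg.Agent.Lib.Helper19.ONM.FoxP3Cyc.cyc42 = true := by
  intro y hy
  have hd : Cfsg.Agent.Lib.Helper19.ONM.FoxP3.data.d = 8 := rfl
  rw [hd] at hy
  interval_cases y
  · exact Cfsg.Agent.Lib.Helper19.ONM.FoxP3Chk1.p42_0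
  · exact Cfsg.Agent.Lib.Helper19.ONM.FoxP3Chk1.p42_1
  · exact Cfsg.Agent.Lib.Helper19.ONM.FoxP3Chk1.p42_2
  · exact Cfsg.Agent.Lib.Helper19.ONM.FoxP3Chk1.p42_3
  · exact Cfsg.Agent.Lib.Helper19.ONM.FoxP3Chk1.p42_4
  · exact Cfsg.Agent.Lib.Helper19.ONM.FoxP3Chk1.p42_5
  · exact Cfsg.Agent.Lib.Helper19.ONM.FoxP3Chk1.p42_6
  · exact Cfsg.Agent.Lib.Helper19.ONM.FoxP3Chk1.p42_7

theorem hsound {Γ : Type} [Group Γ] : ∀ k < Cfsg.Agent.Lib.Helper19.ONM.FoxP3.data.cycles.length,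
    ∀ (F : ℕ → ℕ → ↥(Subgroup.center Γ)), (∀ i x, F i x ^ Cfsg.Agent.Lib.Helper19.ONM.FoxP3.data.p = 1) →
      ∀ z : ℕ → ↥(Subgroup.center Γ),
        (∀ j < Cfsg.Agent.Lib.Helper19.ONM.FoxP3.data.paths.length, ∀ i < Cfsg.Agent.Lib.Helper19.ONM.FoxP3.data.n, walkF F table3.tau (Cfsg.Agent.Lib.Helper19.ONM.FoxP3.data.paths.getD j []) i = z j) →
        ∏ j ∈ Finset.range Cfsg.Agent.Lib.Helper19.ONM.FoxP3.data.paths.length, z j ^ entry Cfsg.Agent.Lib.Helper19.ONM.FoxP3.data.Lam k j = 1 := by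
  intro k hk F hF z hz
  rw [hlen] at hk
  interval_cases k
  · exact cycleT_sound Cfsg.Agent.Lib.Helper19.ONM.FoxP3.data table3.tau 22 hstat 0 _ Cfsg.Agent.Lib.Helper19.ONM.FoxP3Chk0.c0 F hF z hz
  · exact cycleT_sound Cfsg.Agent.Lib.Helper19.ONM.FoxP3.data table3.tau 22 hstat 1 _ Cfsg.Agent.Lib.Helper19.ONM.FoxP3Chk0.c1 F hF z hz
  · exact cycleT_sound Cfsg.Agent.Lib.Helper19.ONM.FoxP3.data table3.tau 22 hstat 2 _ Cfsg.Agent.Lib.Helper19.ONM.FoxP3Chk0.c2 F hF z hz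
  · exact cycleT_sound Cfsg.Agent.Lib.Helper19.ONM.FoxP3.data table3.tau 22 hstat 3 _ Cfsg.Agent.Lib.Helper19.ONM.FoxP3Chk0.c3 F hF z hz
  · exact cycleT_sound Cfsg.Agent.Lib.Helper19.ONM.FoxP3.data table3.tau 22 hstat 4 _ Cfsg.Agent.Lib.Helper19.ONM.FoxP3Chk0.c4 F hF z hz
  · exact cycleT_sound Cfsg.Agent.Lib.Helper19.ONM.FoxP3.data table3.tau 22 hstat 5 _ Cfsg.Agent.Lib.Helper19.ONM.FoxP3Chk0.c5 F hF z hz
  · exact cycleT_sound Cfsg.Agent.Lib.Helper19.ONM.FoxP3.data table3.tau 22 hstat 6 _ Cfsg.Agent.Lib.Helper19.ONM.FoxP3Chk0.c6 F hF z hz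
  · exact cycleT_sound Cfsg.Agent.Lib.Helper19.ONM.FoxP3.data table3.tau 22 hstat 7 _ Cfsg.Agent.Lib.Helper19.ONM.FoxP3Chk0.c7 F hF z hz
  · exact cycleT_sound Cfsg.Agent.Lib.Helper19.ONM.FoxP3.data table3.tau 22 hstat 8 _ Cfsg.Agent.Lib.Helper19.ONM.FoxP3Chk0.c8 F hF z hz
  · exact cycleT_sound Cfsg.Agent.Lib.Helper19.ONM.FoxP3.data table3.tau 22 hstat 9 _ Cfsg.Agent.Lib.Helper19.ONM.FoxP3Chk0.c9 F hF z hz
  · exact cycleT_sound Cfsg.Agent.Lib.Helper19.ONM.FoxP3.data table3.tau 22 hstat 10 _ Cfsg.Agent.Lib.Helper19.ONM.FoxP3Chk0.c10 F hF z hz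
  · exact cycleT_sound Cfsg.Agent.Lib.Helper19.ONM.FoxP3.data table3.tau 22 hstat 11 _ Cfsg.Agent.Lib.Helper19.ONM.FoxP3Chk0.c11 F hF z hz
  · exact cycleT_sound Cfsg.Agent.Lib.Helper19.ONM.FoxP3.data table3.tau 22 hstat 12 _ Cfsg.Agent.Lib.Helper19.ONM.FoxP3Chk0.c12 F hF z hz
  · exact cycleT_sound Cfsg.Agent.Lib.Helper19.ONM.FoxP3.data table3.tau 22 hstat 13 _ Cfsg.Agent.Lib.Helper19.ONM.FoxP3Chk0.c13 F hF z hz
  · exact cycleT_sound Cfsg.Agent.Lib.Helper19.ONM.FoxP3.data table3.tau 22 hstat 14 _ Cfsg.Agent.Lib.Helper19.ONM.FoxP3Chk0.c14 F hF z hz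
  · exact cycleT_sound Cfsg.Agent.Lib.Helper19.ONM.FoxP3.data table3.tau 22 hstat 15 _ Cfsg.Agent.Lib.Helper19.ONM.FoxP3Chk0.c15 F hF z hz
  · exact cycleT_sound Cfsg.Agent.Lib.Helper19.ONM.FoxP3.data table3.tau 22 hstat 16 _ Cfsg.Agent.Lib.Helper19.ONM.FoxP3Chk0.c16 F hF z hz
  · exact cycleT_sound Cfsg.Agent.Lib.Helper19.ONM.FoxP3.data table3.tau 22 hstat 17 _ Cfsg.Agent.Lib.Helper19.ONM.FoxP3Chk0.c17 F hF z hz
  · exact cycleT_sound Cfsg.Agent.Lib.Helper19.ONM.FoxP3.data table3.tau 22 hstat 18 _ Cfsg.Agent.Lib.Helper19.ONM.FoxP3Chk0.c18 F hF z hz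
  · exact cycleT_sound Cfsg.Agent.Lib.Helper19.ONM.FoxP3.data table3.tau 22 hstat 19 _ Cfsg.Agent.Lib.Helper19.ONM.FoxP3Chk0.c19 F hF z hz
  · exact cycleT_sound Cfsg.Agent.Lib.Helper19.ONM.FoxP3.data table3.tau 22 hstat 20 _ Cfsg.Agent.Lib.Helper19.ONM.FoxP3Chk0.c20 F hF z hz
  · exact cycleT_sound Cfsg.Agent.Lib.Helper19.ONM.FoxP3.data table3.tau 22 hstat 21 _ Cfsg.Agent.Lib.Helper19.ONM.FoxP3Chk0.c21 F hF z hz
  · exact cycleT_sound Cfsg.Agent.Lib.Helper19.ONM.FoxP3.data table3.tau 22 hstat 22 _ Cfsg.Agent.Lib.Helper19.ONM.FoxP3Chk0.c22 F hF z hz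
  · exact cycleT_sound Cfsg.Agent.Lib.Helper19.ONM.FoxP3.data table3.tau 22 hstat 23 _ Cfsg.Agent.Lib.Helper19.ONM.FoxP3Chk0.c23 F hF z hz
  · exact cycleT_sound Cfsg.Agent.Lib.Helper19.ONM.FoxP3.data table3.tau 22 hstat 24 _ Cfsg.Agent.Lib.Helper19.ONM.FoxP3Chk0.c24 F hF z hz
  · exact cycleT_sound Cfsg.Agent.Lib.Helper19.ONM.FoxP3.data table3.tau 22 hstat 25 _ Cfsg.Agent.Lib.Helper19.ONM.FoxP3Chk0.c25 F hF z hz
  · exact cycleT_sound Cfsg.Agent.Lib.Helper19.ONM.FoxP3.data table3.tau 22 hstat 26 _ Cfsg.Agent.Lib.Helper19.ONM.FoxP3Chk0.c26 F hF z hz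
  · exact cycleT_sound Cfsg.Agent.Lib.Helper19.ONM.FoxP3.data table3.tau 22 hstat 27 _ Cfsg.Agent.Lib.Helper19.ONM.FoxP3Chk0.c27 F hF z hz
  · exact cycleT_sound Cfsg.Agent.Lib.Helper19.ONM.FoxP3.data table3.tau 22 hstat 28 _ Cfsg.Agent.Lib.Helper19.ONM.FoxP3Chk0.c28 F hF z hz
  · exact cycleT_sound Cfsg.Agent.Lib.Helper19.ONM.FoxP3.data table3.tau 22 hstat 29 _ Cfsg.Agent.Lib.Helper19.ONM.FoxP3Chk0.c29 F hF z hz
  · exact cycleT_sound Cfsg.Agent.Lib.Helper19.ONM.FoxP3.data table3.tau 22 hstat 30 _ Cfsg.Agent.Lib.Helper19.ONM.FoxP3Chk0.c30 F hF z hz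
  · exact cycleT_sound Cfsg.Agent.Lib.Helper19.ONM.FoxP3.data table3.tau 22 hstat 31 _ Cfsg.Agent.Lib.Helper19.ONM.FoxP3Chk0.c31 F hF z hz
  · exact cycleT_sound Cfsg.Agent.Lib.Helper19.ONM.FoxP3.data table3.tau 22 hstat 32 _ Cfsg.Agent.Lib.Helper19.ONM.FoxP3Chk0.c32 F hF z hz
  · exact cycleT_sound Cfsg.Agent.Lib.Helper19.ONM.FoxP3.data table3.tau 22 hstat 33 _ Cfsg.Agent.Lib.Helper19.ONM.FoxP3Chk0.c33 F hF z hz
  · exact cycleT_sound Cfsg.Agent.Lib.Helper19.ONM.FoxP3.data table3.tau 22 hstat 34 _ Cfsg.Agent.Lib.Helper19.ONM.FoxP3Chk0.c34 F hF z hz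
  · exact cycleT_sound Cfsg.Agent.Lib.Helper19.ONM.FoxP3.data table3.tau 22 hstat 35 _ Cfsg.Agent.Lib.Helper19.ONM.FoxP3Chk0.c35 F hF z hz
  · exact cycleT_sound Cfsg.Agent.Lib.Helper19.ONM.FoxP3.data table3.tau 22 hstat 36 _ Cfsg.Agent.Lib.Helper19.ONM.FoxP3Chk0.c36 F hF z hz
  · exact cycleT_sound Cfsg.Agent.Lib.Helper19.ONM.FoxP3.data table3.tau 22 hstat 37 _ Cfsg.Agent.Lib.Helper19.ONM.FoxP3Chk0.c37 F hF z hz
  · exact cycleT_sound Cfsg.Agent.Lib.Helper19.ONM.FoxP3.data table3.tau 22 hstat 38 _ Cfsg.Agent.Lib.Helper19.ONM.FoxP3Chk0.c38 F hF z hz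
  · exact cycleT_sound Cfsg.Agent.Lib.Helper19.ONM.FoxP3.data table3.tau 22 hstat 39 _ Cfsg.Agent.Lib.Helper19.ONM.FoxP3Chk0.c39 F hF z hz
  · exact cycleT_sound Cfsg.Agent.Lib.Helper19.ONM.FoxP3.data table3.tau 22 hstat 40 _ Cfsg.Agent.Lib.Helper19.ONM.FoxP3Chk0.c40 F hF z hz
  · exact cycleT_sound Cfsg.Agent.Lib.Helper19.ONM.FoxP3.data table3.tau 22 hstat 41 _ Cfsg.Agent.Lib.Helper19.ONM.FoxP3Chk0.c41 F hF z hz
  · exact cycleP_sound Cfsg.Agent.Lib.Helper19.ONM.FoxP3.data table3.tau 19 hstat 42 _ Cfsg.Agent.Lib.Helper19.ONM.FoxP3Chk1.head42 hparts42 F hF z hz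

/-- the kernel of a stem extension of the cover with kernel of exponent 3 is trivial, given a retraction -/
theorem ker_eq_bot {Γ : Type} [Group Γ] (τ : Γ →* Ghat) (hτ : Cfsg.IsStemExtension τ)
    (hexp : ∀ a ∈ τ.ker, a ^ 3 = 1) (R : Retraction τ (Hp.comap τ)) : τ.ker = ⊥ :=
  Cfsg.Agent.Lib.Helper19.ONM.FoxSound.ker_eq_bot_of_fox_sound rels relWords lw gi hrels hlw hgi Hp table3 hT hlwk phi phi_gen
    f3 f3_bijective f3_smul Cfsg.Agent.Lib.Helper19.ONM.FoxP3.data rfl hDd hpaths hstat τ hτ hsound hexp R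

end Cfsg.Agent.Lib.Helper19.ONM.FoxP3Fin
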