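import Cfsg.Agent.Lib.Helper19.ONM.Proj

set_option autoImplicit false
set_option maxRecDepth 100000

/-!
# The kernel of the projection of the presented triple cover
-/

namespace Cfsg.Agent.Lib.Helper19.ONM.Ker

open Cfsg.Agent.Lib.Helper19.ONM.Def Cfsg.Agent.Lib.Helper19.ONM.Proj
open Cfsg.Agent.Lib.Helper28 Cfsg.Agent.Lib.Helper28.TC2Tower Cfsg.Agent.Lib.Helper28.TC2Glue

/-- images of the generators of the O'Nan group in the quotient by `Z` -/
def upQ (y : Cfsg.Spor.ON.Gen) : Ghat ⧸ Z := QuotientGroup.mk (gen (up y))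

theorem lift_upQ (L : List (Cfsg.Spor.ON.Gen × Bool)) :
    FreeGroup.lift upQ (FreeGroup.mk L) =
      QuotientGroup.mk (PresentedGroup.mk rels (FreeGroup.mk (upWord up L))) := by
  rw [← map_mk]
  have h : FreeGroup.lift upQ =
      ((QuotientGroup.mk' Z).comp (PresentedGroup.mk rels)).comp (FreeGroup.map up) := by
    ext y
    show FreeGroup.lift upQ (FreeGroup.of y) = _
    rw [FreeGroup.lift_apply_of]
    rfl
  exact DFunLike.congr_fun h (FreeGroup.mk L)

theorem lift_upQ_rel : ∀ r ∈ TCONLink.rels, FreeGroup.lift upQ r = 1 := by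
  intro r hr
  obtain ⟨L, hL, rfl⟩ := (TCONLink.link.hrels r).mp hr
  rw [lift_upQ]
  have hL := base_sup L hL
  rw [← List.take_append_drop 40 baseWords, List.mem_append] at hL
  rcases hL with hL | hL
  · have h : upWord up L ∈ relWords := by
      unfold relWords relWordsA
      simp only [List.mem_append, List.mem_map]
      exact Or.inl (Or.inl ⟨L, hL, rfl⟩)
    rw [mk_eq_one h]
    rfl
  · have h : upWord up L ++ [(Gen8.z, false)] ∈ relWords := by
      unfold relWords relWordsA
      simp only [List.mem_append, List.mem_map]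
      exact Or.inl (Or.inr ⟨L, hL, rfl⟩)
    have h1 := mk_eq_one h
    rw [mk_append, map_mul] at h1
    have h2 : PresentedGroup.mk rels (FreeGroup.mk (upWord up L)) = zz := by
      have e : (PresentedGroup.mk rels (FreeGroup.mk [(Gen8.z, false)]) : Ghat) = zz⁻¹ := rfl
      rw [e] at h1
      exact mul_inv_eq_one.mp h1
    rw [h2]
    exact (QuotientGroup.eq_one_iff _).mpr (Subgroup.mem_zpowers zz)

/-- the map from the O'Nan group to the quotient of the cover -/
def psi : ON →* Ghat ⧸ Z := PresentedGroup.toGroup lift_upQ_rel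

theorem psi_of (y : Cfsg.Spor.ON.Gen) : psi (PresentedGroup.of y) = upQ y :=
  PresentedGroup.toGroup.of lift_upQ_rel

/-- the projection, on the quotient by `Z` -/
def projQ : Ghat ⧸ Z →* ON := QuotientGroup.lift Z proj Z_le_ker

theorem psi_projQ : psi.comp projQ = MonoidHom.id _ := by
  apply QuotientGroup.monoidHom_ext
  apply PresentedGroup.ext
  intro x
  show psi (proj (gen x)) = QuotientGroup.mk (gen x)
  rw [proj_gen]
  cases x
  case z =>
    show psi 1 = _
    rw [map_one]
    exact ((QuotientGroup.eq_one_iff _).mpr (Subgroup.mem_zpowers zz)).symm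
  all_goals exact psi_of _

theorem projQ_injective : Function.Injective projQ := by
  intro u v h
  have := congrArg psi h
  have e : ∀ w, psi (projQ w) = w := fun w => DFunLike.congr_fun psi_projQ w
  rwa [e, e] at this

theorem ker_proj : proj.ker = Z := by
  apply le_antisymm _ Z_le_ker
  intro x hx
  have h1 : projQ (QuotientGroup.mk x) = 1 := hx
  have h2 : (QuotientGroup.mk x : Ghat ⧸ Z) = 1 := projQ_injective (by rw [h1, map_one])
  exact (QuotientGroup.eq_one_iff _).mp h2

theorem ker_le_center : proj.ker ≤ Subgroup.center Ghat := by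
  rw [ker_proj]; exact Z_le_center

/-- the cover is finite, of order at most three times that of the O'Nan group -/
theorem finite_card [Finite ON] : Finite Ghat ∧ Nat.card Ghat ≤ Nat.card ON * 3 := by
  have hq : Finite (Ghat ⧸ Z) := Finite.of_injective projQ projQ_injective
  have hqle : Nat.card (Ghat ⧸ Z) ≤ Nat.card ON := Nat.card_le_card_of_injective projQ projQ_injective
  have ho : orderOf zz ∣ 3 := orderOf_dvd_of_pow_eq_one zz_pow_three
  have ho0 : 0 < orderOf zz := Nat.pos_of_ne_zero (fun h => by rw [h] at ho; omega)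
  have hZ : Finite Z := Nat.finite_of_card_ne_zero (by rw [Nat.card_zpowers]; omega)
  have hZle : Nat.card Z ≤ 3 := by
    rw [Nat.card_zpowers]; exact Nat.le_of_dvd (by norm_num) ho
  exact TC2Tower2.card_le_of_quot Z hZ hq hqle hZle

end Cfsg.Agent.Lib.Helper19.ONM.Ker
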