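import Cfsg.Agent.Lib.Helper19.ONM.RetrON
import Cfsg.Agent.Lib.Helper19.ONM.FoxP2Fin
import Cfsg.Agent.Lib.Helper19.ONM.FoxP3Fin
import Cfsg.Agent.Lib.Helper29.SchurCyclicSylow
import Cfsg.Agent.Lib.Helper13.SchurPSL2

/-!
# The Schur multiplier of the O'Nan group

The presented triple cover `Ghat` of the O'Nan group has trivial multiplier: modulo `2` and `3` by the Fox
calculus over the subgroup `⟨a, …, f⟩` of index 368280 with the retractions of `RetrON`, for `7` by transfer to
that subgroup, for `5, 11, 19, 31` because the Sylow subgroups are cyclic of prime order.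
-/

set_option autoImplicit false
set_option maxRecDepth 100000

open Subgroup
open scoped commutatorElement

namespace Cfsg.Agent.Lib.Helper19.ONM.Main

open Cfsg.Agent.Lib.Helper19.ONM.Def Cfsg.Agent.Lib.Helper19.ONM.Proj Cfsg.Agent.Lib.Helper19.ONM.Ker
open Cfsg.Agent.Lib.Helper19.ONM.T3Rep Cfsg.Agent.Lib.Helper19.ONM.T3Card
open Cfsg.Agent.Lib.Helper19.ONM.RetrON
open Cfsg.Agent.Lib.Helper28 Cfsg.Agent.Lib.Helper28.SchurFox

theorem ker_eq_bot_of_not_dvd {Γ G : Type*} [Group Γ] [Group G] [Finite G] (τ : Γ →* G)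
    (hτ : Cfsg.IsStemExtension τ) (p : ℕ) (hp : p.Prime) (hexp : ∀ a ∈ τ.ker, a ^ p = 1)
    (hnd : ¬ p ∣ Nat.card G) : τ.ker = ⊥ := by
  have hidx : τ.ker.index = Nat.card G := by
    rw [Subgroup.index_ker, MonoidHom.range_eq_top.mpr hτ.1]; exact Subgroup.card_top
  have : τ.ker.FiniteIndex := ⟨by rw [hidx]; exact Nat.card_pos.ne'⟩
  refine ker_eq_bot_of_transfer τ hτ p hexp τ.ker
    (by rw [hidx]; exact ((Nat.Prime.coprime_iff_not_dvd hp).mpr hnd).symm) ?_
  intro a _ hac
  have : ⁅τ.ker, τ.ker⁆ = ⊥ := by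
    rw [Subgroup.commutator_eq_bot_iff_le_centralizer]
    exact hτ.2.1.trans (Subgroup.center_le_centralizer _)
  rw [this] at hac
  exact Subgroup.mem_bot.mp hac

theorem prime_dvd_card {p : ℕ} (hp : p.Prime) (h : p ∣ 1382446517760) :
    p = 2 ∨ p = 3 ∨ p = 5 ∨ p = 7 ∨ p = 11 ∨ p = 19 ∨ p = 31 := by
  have e : 1382446517760 = 2 ^ 9 * 3 ^ 5 * 5 * 7 ^ 3 * 11 * 19 * 31 := by norm_num
  rw [e] at h
  have key : ∀ q : ℕ, q.Prime → p ∣ q → p = q := fun q hq hd => (Nat.prime_dvd_prime_iff_eq hp hq).mp hd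
  rcases (Nat.Prime.dvd_mul hp).mp h with h | h
  · rcases (Nat.Prime.dvd_mul hp).mp h with h | h
    · rcases (Nat.Prime.dvd_mul hp).mp h with h | h
      · rcases (Nat.Prime.dvd_mul hp).mp h with h | h
        · rcases (Nat.Prime.dvd_mul hp).mp h with h | h
          · rcases (Nat.Prime.dvd_mul hp).mp h with h | h
            · exact Or.inl (key 2 (by norm_num) (hp.dvd_of_dvd_pow h))
            · exact Or.inr (Or.inl (key 3 (by norm_num) (hp.dvd_of_dvd_pow h)))
          · exact Or.inr (Or.inr (Or.inl (key 5 (by norm_num) h)))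
        · exact Or.inr (Or.inr (Or.inr (Or.inl (key 7 (by norm_num) (hp.dvd_of_dvd_pow h)))))
      · exact Or.inr (Or.inr (Or.inr (Or.inr (Or.inl (key 11 (by norm_num) h)))))
    · exact Or.inr (Or.inr (Or.inr (Or.inr (Or.inr (Or.inl (key 19 (by norm_num) h))))))
  · exact Or.inr (Or.inr (Or.inr (Or.inr (Or.inr (Or.inr (key 31 (by norm_num) h))))))

/-- the cover has trivial multiplier -/
theorem trivMult : TrivMult Ghat := by
  apply trivMult_of_exp
  intro p hp Γ _ _ τ hτ hexp
  by_cases hd : p ∣ 1382446517760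
  · have once : ∀ q : ℕ, q.Prime → q ∣ 1382446517760 → Nat.Coprime (1382446517760 / q) q →
        (∀ a ∈ τ.ker, a ^ q = 1) → τ.ker = ⊥ := by
      intro q hq h1 h2 hexpq
      haveI := Fact.mk hq
      exact Cfsg.Agent.Lib.Helper29.SchurCyclicSylow.ker_eq_bot_of_prime_once τ hτ q hexpq
        (by rw [card_Ghat]; exact h1) (by rw [card_Ghat]; exact h2)
    rcases prime_dvd_card hp hd with rfl | rfl | rfl | rfl | rfl | rfl | rfl
    · exact Cfsg.Agent.Lib.Helper19.ONM.FoxP2Fin.ker_eq_bot τ hτ hexp (retraction_p2 τ hτ hexp).some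
    · exact Cfsg.Agent.Lib.Helper19.ONM.FoxP3Fin.ker_eq_bot τ hτ hexp (retraction_p3 τ hτ hexp).some
    · exact once 5 (by norm_num) (by norm_num) (by norm_num) hexp
    · exact ker_eq_bot_p7 τ hτ hexp
    · exact once 11 (by norm_num) (by norm_num) (by norm_num) hexp
    · exact once 19 (by norm_num) (by norm_num) (by norm_num) hexp
    · exact once 31 (by norm_num) (by norm_num) (by norm_num) hexp
  · exact ker_eq_bot_of_not_dvd τ hτ p hp hexp (by rw [card_Ghat]; exact hd)

/-- the kernel of the cover is cyclic of order `3` -/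
noncomputable def kerEquiv : proj.ker ≃* Multiplicative (ZMod 3) := by
  haveI : Fact (Nat.Prime 3) := ⟨Nat.prime_three⟩
  refine mulEquivOfPrimeCardEq (p := 3) ?_ ?_
  · rw [ker_proj]; exact card_Z
  · rw [Nat.card_congr Multiplicative.toAdd, Nat.card_zmod]

/-- the Schur multiplier of the O'Nan group -/
theorem schur : Cfsg.HasCyclicSchurMultiplier ON 3 :=
  Cfsg.Agent.Lib.Helper13.SchurSL2.hasSchurMultiplier_of_stem_trivial proj isStem_proj
    (hasCyclic_of_trivMult trivMult) kerEquiv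

end Cfsg.Agent.Lib.Helper19.ONM.Main
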