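import Cfsg.Agent.Lib.Helper3.TCX.OnHom
set_option autoImplicit false
set_option maxRecDepth 1000000
set_option maxHeartbeats 0

/-!
# Some relations in the presented O'Nan group (for the Schur multiplier, S2052)

Checked with the base criterion of helper3 (`OnHom.eq_one_of_base`).  The word `wW` conjugates `a` to `a f`.
-/

namespace Cfsg.Agent.Lib.Helper19.ONM.ONRel
open Cfsg.Agent.Lib.Helper28.TC2Upper Cfsg.Agent.Lib.Helper28.TC2Lower Cfsg.Agent.Lib.Helper28.TC2Glue
open Cfsg.Agent.Lib.Helper3.TCX.OnHom

/-- the check of a word on the base points -/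
noncomputable def baseChk (L : List (Cfsg.Spor.ON.Gen × Bool)) : Bool :=
  ([5, 2, 1, 0] : List ℕ).all fun b =>
    Nat.beq (Cfsg.Agent.Lib.Helper28.TCONTable.table.walkT (pathOf Cfsg.Agent.Lib.Helper28.TCONLink.lw L) b) b

theorem eq_one_of_chk (L : List (Cfsg.Spor.ON.Gen × Bool)) (h : baseChk L = true) :
    (PresentedGroup.mk Cfsg.Agent.Lib.Helper28.TCONLink.rels (FreeGroup.mk L) : ON) = 1 := by
  apply eq_one_of_base
  intro b hb
  unfold baseChk at h
  rw [List.all_eq_true] at h
  exact Nat.eq_of_beq_eq_true (h b hb)

/-- the check that a word moves a point -/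
noncomputable def moveChk (L : List (Cfsg.Spor.ON.Gen × Bool)) (p : ℕ) : Bool :=
  !(Nat.beq (Cfsg.Agent.Lib.Helper28.TCONTable.table.walkT (pathOf Cfsg.Agent.Lib.Helper28.TCONLink.lw L) p) p)

theorem ne_one_of_chk (L : List (Cfsg.Spor.ON.Gen × Bool)) (p : ℕ)
    (hp : p < Cfsg.Agent.Lib.Helper28.TCONTable.table.n) (h : moveChk L p = true) :
    (PresentedGroup.mk Cfsg.Agent.Lib.Helper28.TCONLink.rels (FreeGroup.mk L) : ON) ≠ 1 := by
  apply ne_one_of_move L p hp
  intro e
  unfold moveChk at h
  rw [e] at h
  simp at h

/-- the conjugating word -/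
def wW : List (Cfsg.Spor.ON.Gen × Bool) :=
  [(.c, true), (.b, true), (.d, true), (.e, true), (.c, true), (.f, true), (.d, true), (.a, true), (.g, true), (.a, true), (.c, true), (.b, true), (.a, true), (.g, false), (.a, true), (.g, true), (.a, false), (.b, false), (.c, false), (.a, false), (.g, false), (.a, false), (.d, false), (.f, false), (.c, false), (.e, false), (.d, false), (.b, false), (.c, false), (.a, true), (.f, true), (.c, true), (.b, true), (.d, true), (.e, true), (.c, true), (.f, true), (.d, true), (.a, true), (.g, true), (.a, true), (.c, true), (.b, true), (.a, true), (.g, false), (.a, true), (.g, true), (.a, false), (.b, false), (.c, false), (.a, false), (.g, false), (.a, false), (.d, false), (.f, false), (.c, false), (.e, false), (.d, false), (.b, false), (.c, false), (.a, true), (.f, true), (.c, true), (.b, true), (.d, true), (.e, true), (.c, true), (.f, true), (.d, true), (.a, true), (.g, true), (.a, true), (.c, true), (.b, true), (.a, true), (.g, false), (.a, true), (.g, true), (.a, false), (.b, false), (.c, false), (.a, false), (.g, false), (.a, false), (.d, false),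 (.f, false), (.c, false), (.e, false), (.d, false), (.b, false), (.c, false), (.a, true), (.f, true), (.c, true), (.b, true), (.d, true), (.e, true), (.c, true), (.f, true), (.d, true), (.a, true), (.g, true), (.a, true), (.c, true), (.b, true), (.a, true), (.g, false), (.a, true), (.g, true), (.a, false), (.b, false), (.c, false), (.a, false), (.g, false), (.a, false), (.d, false), (.f, false), (.c, false), (.e, false), (.d, false), (.b, false), (.c, false), (.a, true), (.f, true), (.c, true), (.b, true), (.d, true), (.e, true), (.c, true), (.f, true), (.d, true), (.a, true), (.g, true), (.a, true), (.c, true), (.b, true), (.a, true), (.g, false), (.a, true), (.g, true), (.a, false), (.b, false), (.c, false), (.a, false), (.g, false), (.a, false), (.d, false), (.f, false), (.c, false), (.e, false), (.d, false), (.b, false), (.c, false), (.a, true), (.f, true), (.c, true), (.b, true), (.d, true), (.e, true), (.c, true), (.f, true), (.d, true), (.a, true), (.g, true), (.a, true), (.c, true), (.b, true), (.a, true), (.g, false), (.a, true), (.g, true), (.a, false), (.b, false), (.c, false),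 (.a, false), (.g, false), (.a, false), (.d, false), (.f, false), (.c, false), (.e, false), (.d, false), (.b, false), (.c, false), (.a, true), (.f, true), (.c, true), (.b, true), (.d, true), (.e, true), (.c, true), (.f, true), (.d, true), (.a, true), (.g, true), (.a, true), (.c, true), (.b, true), (.a, true), (.g, false), (.a, true), (.g, true), (.a, false), (.b, false), (.c, false), (.a, false), (.g, false), (.a, false), (.d, false), (.f, false), (.c, false), (.e, false), (.d, false), (.b, false), (.c, false), (.a, true), (.f, true), (.c, true), (.b, true), (.d, true), (.e, true), (.c, true), (.f, true), (.d, true), (.a, true), (.g, true), (.a, true), (.c, true), (.b, true), (.a, true), (.g, false), (.a, true), (.g, true), (.a, false), (.b, false), (.c, false), (.a, false), (.g, false), (.a, false), (.d, false), (.f, false), (.c, false), (.e, false), (.d, false), (.b, false), (.c, false), (.a, true), (.f, true), (.c, true), (.b, true), (.d, true), (.e, true), (.c, true), (.f, true), (.d, true), (.a, true), (.g, true), (.a, true), (.c, true), (.b, true), (.a, true), (.g, false), (.a,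 true), (.g, true), (.a, false), (.b, false), (.c, false), (.a, false), (.g, false), (.a, false), (.d, false), (.f, false), (.c, false), (.e, false), (.d, false), (.b, false), (.c, false), (.a, true), (.f, true), (.c, true), (.b, true), (.d, true), (.e, true), (.c, true), (.f, true), (.d, true), (.a, true), (.g, true), (.a, true), (.c, true), (.b, true), (.a, true), (.g, false)]

/-- relator `conj`: `W a W⁻¹ (a f)⁻¹` -/
def w_conj : List (Cfsg.Spor.ON.Gen × Bool) :=
  wW ++ ([(.a, true)] ++ (FreeGroup.invRev wW ++ [(.f, false), (.a, false)]))

theorem chk_conj : baseChk w_conj = true := by decide +kernel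

/-- relator `b_conj` -/
def w_b_conj : List (Cfsg.Spor.ON.Gen × Bool) :=
  [(.a, true), (.b, true), (.a, true), (.b, false), (.a, false), (.b, false)]

theorem chk_b_conj : baseChk w_b_conj = true := by decide +kernel

/-- relator `c_conj` -/
def w_c_conj : List (Cfsg.Spor.ON.Gen × Bool) :=
  [(.b, true), (.c, true), (.b, true), (.c, false), (.b, false), (.c, false)]

theorem chk_c_conj : baseChk w_c_conj = true := by decide +kernel

/-- relator `e_conj` -/
def w_e_conj : List (Cfsg.Spor.ON.Gen × Bool) :=
  [(.f, true), (.e, true), (.f, true), (.e, false), (.f, false), (.e, false)]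

theorem chk_e_conj : baseChk w_e_conj = true := by decide +kernel

/-- relator `d_conj` -/
def w_d_conj : List (Cfsg.Spor.ON.Gen × Bool) :=
  [(.e, true), (.d, true), (.e, true), (.d, false), (.e, false), (.d, false)]

theorem chk_d_conj : baseChk w_d_conj = true := by decide +kernel

/-- relator `af_sq` -/
def w_af_sq : List (Cfsg.Spor.ON.Gen × Bool) :=
  [(.a, true), (.f, true), (.d, false), (.c, false), (.d, false), (.c, false), (.d, false), (.c, false), (.d, false), (.c, false)]

theorem chk_af_sq : baseChk w_af_sq = true := by decide +kernel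

/-- relator `a_sq` -/
def w_a_sq : List (Cfsg.Spor.ON.Gen × Bool) :=
  [(.a, true), (.a, true)]

theorem chk_a_sq : baseChk w_a_sq = true := by decide +kernel

/-- relator `f_sq` -/
def w_f_sq : List (Cfsg.Spor.ON.Gen × Bool) :=
  [(.f, true), (.f, true)]

theorem chk_f_sq : baseChk w_f_sq = true := by decide +kernel

/-- relator `b_sq` -/
def w_b_sq : List (Cfsg.Spor.ON.Gen × Bool) :=
  [(.b, true), (.b, true)]

theorem chk_b_sq : baseChk w_b_sq = true := by decide +kernel

/-- relator `c_sq` -/
def w_c_sq : List (Cfsg.Spor.ON.Gen × Bool) :=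
  [(.c, true), (.c, true)]

theorem chk_c_sq : baseChk w_c_sq = true := by decide +kernel

/-- relator `d_sq` -/
def w_d_sq : List (Cfsg.Spor.ON.Gen × Bool) :=
  [(.d, true), (.d, true)]

theorem chk_d_sq : baseChk w_d_sq = true := by decide +kernel

/-- relator `e_sq` -/
def w_e_sq : List (Cfsg.Spor.ON.Gen × Bool) :=
  [(.e, true), (.e, true)]

theorem chk_e_sq : baseChk w_e_sq = true := by decide +kernel

/-- relator `af_comm` -/
def w_af_comm : List (Cfsg.Spor.ON.Gen × Bool) :=
  [(.a, true), (.f, true), (.a, false), (.f, false)]

theorem chk_af_comm : baseChk w_af_comm = true := by decide +kernel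

/-- relator `x_cube` -/
def w_x_cube : List (Cfsg.Spor.ON.Gen × Bool) :=
  [(.a, true), (.b, true), (.a, true), (.b, true), (.a, true), (.b, true)]

theorem chk_x_cube : baseChk w_x_cube = true := by decide +kernel

/-- relator `y_cube` -/
def w_y_cube : List (Cfsg.Spor.ON.Gen × Bool) :=
  [(.d, true), (.e, true), (.d, true), (.e, true), (.d, true), (.e, true)]

theorem chk_y_cube : baseChk w_y_cube = true := by decide +kernel

/-- relator `xy_comm` -/
def w_xy_comm : List (Cfsg.Spor.ON.Gen × Bool) :=
  [(.a, true), (.b, true), (.d, true), (.e, true), (.b, false), (.a, false), (.e, false), (.d, false)]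

theorem chk_xy_comm : baseChk w_xy_comm = true := by decide +kernel

/-- relator `dx` -/
def w_dx : List (Cfsg.Spor.ON.Gen × Bool) :=
  [(.d, true), (.a, true), (.b, true), (.d, false), (.b, false), (.a, false)]

theorem chk_dx : baseChk w_dx = true := by decide +kernel

/-- relator `dy` -/
def w_dy : List (Cfsg.Spor.ON.Gen × Bool) :=
  [(.d, true), (.d, true), (.e, true), (.d, false), (.d, true), (.e, true)]

theorem chk_dy : baseChk w_dy = true := by decide +kernel

/-- word `x_ne` -/
def w_x_ne : List (Cfsg.Spor.ON.Gen × Bool) :=
  [(.a, true), (.b, true)]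

theorem chk_x_ne : moveChk w_x_ne 1 = true := by decide +kernel

/-- word `y_ne` -/
def w_y_ne : List (Cfsg.Spor.ON.Gen × Bool) :=
  [(.d, true), (.e, true)]

theorem chk_y_ne : moveChk w_y_ne 1 = true := by decide +kernel

/-- word `yx_ne` -/
def w_yx_ne : List (Cfsg.Spor.ON.Gen × Bool) :=
  [(.d, true), (.e, true), (.b, false), (.a, false)]

theorem chk_yx_ne : moveChk w_yx_ne 1 = true := by decide +kernel

/-- word `yxx_ne` -/
def w_yxx_ne : List (Cfsg.Spor.ON.Gen × Bool) :=
  [(.d, true), (.e, true), (.b, false), (.a, false), (.b, false), (.a, false)]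

theorem chk_yxx_ne : moveChk w_yxx_ne 1 = true := by decide +kernel

end Cfsg.Agent.Lib.Helper19.ONM.ONRel
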