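import Cfsg.Agent.Lib.Helper19.ONM.ONRel

/-!
# The relations of `ONRel` as equations between elements of the presented O'Nan group
-/

set_option autoImplicit false
set_option maxRecDepth 100000

namespace Cfsg.Agent.Lib.Helper19.ONM.ONRelE
open Cfsg.Agent.Lib.Helper19.ONM.ONRel
open Cfsg.Agent.Lib.Helper3.TCX.OnHom

/-- the generators -/
abbrev sg : ON := PresentedGroup.of Cfsg.Spor.ON.Gen.g
/-- the generators -/
abbrev sa : ON := PresentedGroup.of Cfsg.Spor.ON.Gen.a
/-- the generators -/
abbrev sb : ON := PresentedGroup.of Cfsg.Spor.ON.Gen.b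
/-- the generators -/
abbrev sc : ON := PresentedGroup.of Cfsg.Spor.ON.Gen.c
/-- the generators -/
abbrev sd : ON := PresentedGroup.of Cfsg.Spor.ON.Gen.d
/-- the generators -/
abbrev se : ON := PresentedGroup.of Cfsg.Spor.ON.Gen.e
/-- the generators -/
abbrev sf : ON := PresentedGroup.of Cfsg.Spor.ON.Gen.f

theorem mk_eq_lift :
    (PresentedGroup.mk Cfsg.Agent.Lib.Helper28.TCONLink.rels : FreeGroup Cfsg.Spor.ON.Gen →* ON) =
      FreeGroup.lift (fun x => (PresentedGroup.of x : ON)) := by
  apply FreeGroup.ext_hom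
  intro x
  rw [FreeGroup.lift_apply_of]
  rfl

/-- a word as a product of generators -/
theorem mk_mk (L : List (Cfsg.Spor.ON.Gen × Bool)) :
    (PresentedGroup.mk Cfsg.Agent.Lib.Helper28.TCONLink.rels (FreeGroup.mk L) : ON) =
      (L.map fun xb => cond xb.2 (PresentedGroup.of xb.1 : ON) (PresentedGroup.of xb.1)⁻¹).prod := by
  rw [mk_eq_lift]
  exact FreeGroup.lift_mk

theorem mk_append (L M : List (Cfsg.Spor.ON.Gen × Bool)) :
    (PresentedGroup.mk Cfsg.Agent.Lib.Helper28.TCONLink.rels (FreeGroup.mk (L ++ M)) : ON) =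
      PresentedGroup.mk Cfsg.Agent.Lib.Helper28.TCONLink.rels (FreeGroup.mk L) *
        PresentedGroup.mk Cfsg.Agent.Lib.Helper28.TCONLink.rels (FreeGroup.mk M) := by
  rw [← map_mul, FreeGroup.mul_mk]

theorem mk_invRev (L : List (Cfsg.Spor.ON.Gen × Bool)) :
    (PresentedGroup.mk Cfsg.Agent.Lib.Helper28.TCONLink.rels (FreeGroup.mk (FreeGroup.invRev L)) : ON) =
      (PresentedGroup.mk Cfsg.Agent.Lib.Helper28.TCONLink.rels (FreeGroup.mk L))⁻¹ := by
  rw [← map_inv, FreeGroup.inv_mk]

/-- the element conjugating `a` to `a f` -/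
noncomputable def elW : ON := PresentedGroup.mk Cfsg.Agent.Lib.Helper28.TCONLink.rels (FreeGroup.mk wW)

theorem conj_a : elW * sa * elW⁻¹ = sa * sf := by
  have h := eq_one_of_chk _ chk_conj
  unfold w_conj at h
  rw [mk_append, mk_append, mk_append, mk_invRev, mk_mk [(.a, true)], mk_mk [(.f, false), (.a, false)]] at h
  simp only [List.map, List.prod_cons, List.prod_nil, cond_true, cond_false, mul_one] at h
  rw [← mul_inv_eq_one]
  simpa [mul_assoc, elW] using h

theorem b_conj : (sa * sb) * sa * (sa * sb)⁻¹ = sb := by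
  have h := eq_one_of_chk _ chk_b_conj
  rw [mk_mk] at h
  simp only [w_b_conj, List.map, List.prod_cons, List.prod_nil, cond_true, cond_false, mul_one] at h
  rw [← mul_inv_eq_one]
  simpa [mul_assoc] using h

theorem c_conj : (sb * sc) * sb * (sb * sc)⁻¹ = sc := by
  have h := eq_one_of_chk _ chk_c_conj
  rw [mk_mk] at h
  simp only [w_c_conj, List.map, List.prod_cons, List.prod_nil, cond_true, cond_false, mul_one] at h
  rw [← mul_inv_eq_one]
  simpa [mul_assoc] using h

theorem e_conj : (sf * se) * sf * (sf * se)⁻¹ = se := by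
  have h := eq_one_of_chk _ chk_e_conj
  rw [mk_mk] at h
  simp only [w_e_conj, List.map, List.prod_cons, List.prod_nil, cond_true, cond_false, mul_one] at h
  rw [← mul_inv_eq_one]
  simpa [mul_assoc] using h

theorem d_conj : (se * sd) * se * (se * sd)⁻¹ = sd := by
  have h := eq_one_of_chk _ chk_d_conj
  rw [mk_mk] at h
  simp only [w_d_conj, List.map, List.prod_cons, List.prod_nil, cond_true, cond_false, mul_one] at h
  rw [← mul_inv_eq_one]
  simpa [mul_assoc] using h

theorem af_sq : sa * sf = ((sc * sd) ^ 2) ^ 2 := by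
  have h := eq_one_of_chk _ chk_af_sq
  rw [mk_mk] at h
  simp only [w_af_sq, List.map, List.prod_cons, List.prod_nil, cond_true, cond_false, mul_one] at h
  rw [← mul_inv_eq_one]
  simpa [mul_assoc, pow_succ] using h

theorem a_sq : sa ^ 2 = 1 := by
  have h := eq_one_of_chk _ chk_a_sq
  rw [mk_mk] at h
  simp only [w_a_sq, List.map, List.prod_cons, List.prod_nil, cond_true, cond_false, mul_one] at h
  rw [pow_two]; exact h

theorem f_sq : sf ^ 2 = 1 := by
  have h := eq_one_of_chk _ chk_f_sq
  rw [mk_mk] at h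
  simp only [w_f_sq, List.map, List.prod_cons, List.prod_nil, cond_true, cond_false, mul_one] at h
  rw [pow_two]; exact h

theorem b_sq : sb ^ 2 = 1 := by
  have h := eq_one_of_chk _ chk_b_sq
  rw [mk_mk] at h
  simp only [w_b_sq, List.map, List.prod_cons, List.prod_nil, cond_true, cond_false, mul_one] at h
  rw [pow_two]; exact h

theorem c_sq : sc ^ 2 = 1 := by
  have h := eq_one_of_chk _ chk_c_sq
  rw [mk_mk] at h
  simp only [w_c_sq, List.map, List.prod_cons, List.prod_nil, cond_true, cond_false, mul_one] at h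
  rw [pow_two]; exact h

theorem d_sq : sd ^ 2 = 1 := by
  have h := eq_one_of_chk _ chk_d_sq
  rw [mk_mk] at h
  simp only [w_d_sq, List.map, List.prod_cons, List.prod_nil, cond_true, cond_false, mul_one] at h
  rw [pow_two]; exact h

theorem e_sq : se ^ 2 = 1 := by
  have h := eq_one_of_chk _ chk_e_sq
  rw [mk_mk] at h
  simp only [w_e_sq, List.map, List.prod_cons, List.prod_nil, cond_true, cond_false, mul_one] at h
  rw [pow_two]; exact h

theorem af_comm : sa * sf = sf * sa := by
  have h := eq_one_of_chk _ chk_af_comm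
  rw [mk_mk] at h
  simp only [w_af_comm, List.map, List.prod_cons, List.prod_nil, cond_true, cond_false, mul_one] at h
  rw [← mul_inv_eq_one]
  simpa [mul_assoc] using h

theorem af_sq_one : (sa * sf) ^ 2 = 1 := by
  rw [pow_two, mul_assoc, ← mul_assoc sf, ← af_comm, mul_assoc, ← pow_two, f_sq, mul_one, ← pow_two, a_sq]

theorem x_cube : (sa * sb) ^ 3 = 1 := by
  have h := eq_one_of_chk _ chk_x_cube
  rw [mk_mk] at h
  simp only [w_x_cube, List.map, List.prod_cons, List.prod_nil, cond_true, cond_false, mul_one] at h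
  simpa [mul_assoc, pow_succ] using h

theorem y_cube : (sd * se) ^ 3 = 1 := by
  have h := eq_one_of_chk _ chk_y_cube
  rw [mk_mk] at h
  simp only [w_y_cube, List.map, List.prod_cons, List.prod_nil, cond_true, cond_false, mul_one] at h
  simpa [mul_assoc, pow_succ] using h

theorem xy_comm : (sa * sb) * (sd * se) = (sd * se) * (sa * sb) := by
  have h := eq_one_of_chk _ chk_xy_comm
  rw [mk_mk] at h
  simp only [w_xy_comm, List.map, List.prod_cons, List.prod_nil, cond_true, cond_false, mul_one] at h
  rw [← mul_inv_eq_one]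
  simpa [mul_assoc] using h

theorem dx : sd * (sa * sb) * sd⁻¹ = sa * sb := by
  have h := eq_one_of_chk _ chk_dx
  rw [mk_mk] at h
  simp only [w_dx, List.map, List.prod_cons, List.prod_nil, cond_true, cond_false, mul_one] at h
  rw [← mul_inv_eq_one]
  simpa [mul_assoc] using h

theorem dy : sd * (sd * se) * sd⁻¹ = (sd * se)⁻¹ := by
  have h := eq_one_of_chk _ chk_dy
  rw [mk_mk] at h
  simp only [w_dy, List.map, List.prod_cons, List.prod_nil, cond_true, cond_false, mul_one] at h
  rw [← mul_inv_eq_one]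
  simpa [mul_assoc] using h

theorem hn1 : 1 < Cfsg.Agent.Lib.Helper28.TCONTable.table.n := by decide

theorem x_ne : sa * sb ≠ 1 := by
  have h := ne_one_of_chk _ 1 hn1 chk_x_ne
  rw [mk_mk] at h
  simp only [w_x_ne, List.map, List.prod_cons, List.prod_nil, cond_true, cond_false, mul_one] at h
  exact h

theorem y_ne : sd * se ≠ 1 := by
  have h := ne_one_of_chk _ 1 hn1 chk_y_ne
  rw [mk_mk] at h
  simp only [w_y_ne, List.map, List.prod_cons, List.prod_nil, cond_true, cond_false, mul_one] at h
  exact h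

theorem yx_ne : sd * se ≠ sa * sb := by
  have h := ne_one_of_chk _ 1 hn1 chk_yx_ne
  rw [mk_mk] at h
  simp only [w_yx_ne, List.map, List.prod_cons, List.prod_nil, cond_true, cond_false, mul_one] at h
  intro e
  apply h
  rw [← mul_assoc, e]
  group

theorem yxx_ne : sd * se ≠ (sa * sb) * (sa * sb) := by
  have h := ne_one_of_chk _ 1 hn1 chk_yxx_ne
  rw [mk_mk] at h
  simp only [w_yxx_ne, List.map, List.prod_cons, List.prod_nil, cond_true, cond_false, mul_one] at h
  intro e
  apply h
  rw [← mul_assoc, e]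
  group

end Cfsg.Agent.Lib.Helper19.ONM.ONRelE
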