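import Cfsg.Agent.Lib.Helper19.ONM.Def
import Cfsg.Agent.Lib.Helper28.TC2Tower2

set_option autoImplicit false
set_option maxRecDepth 100000

/-!
# The projection of the presented triple cover onto the O'Nan group
-/

namespace Cfsg.Agent.Lib.Helper19.ONM.Proj

open Cfsg.Agent.Lib.Helper19.ONM.Def
open Cfsg.Agent.Lib.Helper28 Cfsg.Agent.Lib.Helper28.TC2Tower Cfsg.Agent.Lib.Helper28.TC2Glue

/-- the O'Nan group -/
abbrev ON : Type := PresentedGroup TCONLink.rels

/-- images of the generators of the cover -/
def down : Gen8 → ON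
  | .g => PresentedGroup.of .g
  | .a => PresentedGroup.of .a
  | .b => PresentedGroup.of .b
  | .c => PresentedGroup.of .c
  | .d => PresentedGroup.of .d
  | .e => PresentedGroup.of .e
  | .f => PresentedGroup.of .f
  | .z => 1

theorem down_up (y : Cfsg.Spor.ON.Gen) : down (up y) = PresentedGroup.of y := by
  cases y <;> rfl

theorem lift_down_up (L : List (Cfsg.Spor.ON.Gen × Bool)) :
    FreeGroup.lift down (FreeGroup.mk (upWord up L)) = PresentedGroup.mk TCONLink.rels (FreeGroup.mk L) := by
  rw [← map_mk]
  have h : (FreeGroup.lift down).comp (FreeGroup.map up) = PresentedGroup.mk TCONLink.rels := by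
    ext y
    show FreeGroup.lift down (FreeGroup.map up (FreeGroup.of y)) = _
    rw [FreeGroup.map.of, FreeGroup.lift_apply_of, down_up]
    rfl
  exact DFunLike.congr_fun h (FreeGroup.mk L)

theorem mk_one_of_mem {L : List (Cfsg.Spor.ON.Gen × Bool)} (hL : L ∈ baseWords) :
    PresentedGroup.mk TCONLink.rels (FreeGroup.mk L) = 1 :=
  PresentedGroup.one_of_mem ((TCONLink.link.hrels _).mpr ⟨L, base_sub L hL, rfl⟩)

theorem mk_append {α : Type} (L M : List (α × Bool)) :
    (FreeGroup.mk (L ++ M) : FreeGroup α) = FreeGroup.mk L * FreeGroup.mk M := by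
  rw [FreeGroup.mul_mk]

theorem lift_down_rel : ∀ r ∈ rels, FreeGroup.lift down r = 1 := by
  rintro r ⟨L, hL, rfl⟩
  unfold relWords relWordsA relWordsC at hL
  simp only [List.mem_append, List.mem_map] at hL
  rcases hL with (⟨L0, hL0, rfl⟩ | ⟨L0, hL0, rfl⟩) | (⟨x, -, rfl⟩ | hL)
  · rw [lift_down_up]
    exact mk_one_of_mem (List.mem_of_mem_take hL0)
  · rw [mk_append, map_mul, lift_down_up, mk_one_of_mem (List.mem_of_mem_drop hL0), one_mul]
    show FreeGroup.lift down (FreeGroup.of Gen8.z)⁻¹ = 1
    rw [map_inv, FreeGroup.lift_apply_of]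
    exact inv_one
  · show FreeGroup.lift down (FreeGroup.of Gen8.z * FreeGroup.of x * (FreeGroup.of Gen8.z)⁻¹ * (FreeGroup.of x)⁻¹) = 1
    simp only [map_mul, map_inv, FreeGroup.lift_apply_of]
    show 1 * down x * 1⁻¹ * (down x)⁻¹ = 1
    group
  · simp only [List.mem_singleton] at hL
    subst hL
    show FreeGroup.lift down (FreeGroup.of Gen8.z * FreeGroup.of Gen8.z * FreeGroup.of Gen8.z) = 1
    simp only [map_mul, FreeGroup.lift_apply_of]
    show (1 : ON) * 1 * 1 = 1
    group

/-- the projection onto the O'Nan group -/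
def proj : Ghat →* ON := PresentedGroup.toGroup lift_down_rel

theorem proj_gen (x : Gen8) : proj (gen x) = down x := PresentedGroup.toGroup.of lift_down_rel

theorem proj_surjective : Function.Surjective proj := by
  rw [← MonoidHom.range_eq_top, eq_top_iff, ← PresentedGroup.closure_range_of, Subgroup.closure_le]
  rintro _ ⟨y, rfl⟩
  exact ⟨gen (up y), by rw [proj_gen, down_up]⟩

/-- the central generator -/
abbrev zz : Ghat := gen .z

theorem zz_pow_three : zz ^ 3 = 1 := by
  have h := mk_eq_one (L := [(Gen8.z, true), (Gen8.z, true), (Gen8.z, true)]) (by decide)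
  have e : (FreeGroup.mk [(Gen8.z, true), (Gen8.z, true), (Gen8.z, true)] : FreeGroup Gen8) =
      FreeGroup.of Gen8.z * FreeGroup.of Gen8.z * FreeGroup.of Gen8.z := rfl
  rw [e, map_mul, map_mul] at h
  rw [pow_succ, pow_two]
  exact h

theorem zz_comm_of (x : Gen8) (hx : commz x ∈ relWords) : zz * gen x = gen x * zz := by
  have h := mk_eq_one hx
  have e : (FreeGroup.mk (commz x) : FreeGroup Gen8) =
    FreeGroup.of Gen8.z * FreeGroup.of x * (FreeGroup.of Gen8.z)⁻¹ * (FreeGroup.of x)⁻¹ := rfl
  rw [e, map_mul, map_mul, map_mul, map_inv, map_inv] at h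
  have h2 := mul_inv_eq_one.mp h
  have h3 := mul_inv_eq_iff_eq_mul.mp h2
  exact h3

theorem zz_comm_gen (x : Gen8) : zz * gen x = gen x * zz := by
  cases x
  case z => rfl
  all_goals exact zz_comm_of _ (by decide)

theorem zz_mem_center : zz ∈ Subgroup.center Ghat := by
  rw [Subgroup.mem_center_iff]
  intro y
  induction y using PresentedGroup.induction_on with
  | _ y =>
    induction y using FreeGroup.induction_on with
    | C1 => simp
    | of x => exact (zz_comm_gen x).symm
    | inv_of x h =>
      have h' : gen x * zz = zz * gen x := h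
      show (gen x)⁻¹ * zz = zz * (gen x)⁻¹
      rw [inv_mul_eq_iff_eq_mul, ← mul_assoc, h', mul_assoc, mul_inv_cancel, mul_one]
    | mul u v hu hv =>
      have hu' : PresentedGroup.mk rels u * zz = zz * PresentedGroup.mk rels u := hu
      have hv' : PresentedGroup.mk rels v * zz = zz * PresentedGroup.mk rels v := hv
      show PresentedGroup.mk rels u * PresentedGroup.mk rels v * zz = zz * (PresentedGroup.mk rels u * PresentedGroup.mk rels v)
      rw [mul_assoc, hv', ← mul_assoc, hu', mul_assoc]

/-- the kernel candidate -/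
abbrev Z : Subgroup Ghat := Subgroup.zpowers zz

theorem Z_le_center : Z ≤ Subgroup.center Ghat := by
  rw [Subgroup.zpowers_le]; exact zz_mem_center

instance Z_normal : Z.Normal := by
  constructor
  intro n hn y
  have := Subgroup.mem_center_iff.mp (Z_le_center hn) y
  rw [this, mul_inv_cancel_right]
  exact hn

theorem Z_le_ker : Z ≤ proj.ker := by
  rw [Subgroup.zpowers_le, MonoidHom.mem_ker, proj_gen]
  rfl

end Cfsg.Agent.Lib.Helper19.ONM.Proj
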