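import Mathlib
import Cfsg.Agent.Lib.Helper27.ONRetr
import Cfsg.Agent.Lib.Helper27.ONRetr2

/-!
# Retractions for a stem extension of a central extension (generic part of S2052)

`τ : Γ → G` is a central extension, `π : G → Q` a homomorphism which is injective on the subgroup `Hp` of `G`
with image `HQ`.  With `V = τ⁻¹ Hp` there is a central extension `θ : V → HQ` whose kernel is the kernel of
`τ`.  If `HQ` has a perfect normal subgroup `N` of index `2` without stem extensions of exponent `p`, then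
`ker τ ∩ V' = 1`; for `p = 2` and `p = 3` retractions `V → ker τ` are constructed.
-/

set_option autoImplicit false
set_option linter.style.haveILetI false

open Subgroup
open scoped commutatorElement
open Cfsg.Agent.Lib.Helper28.SchurFox Cfsg.Agent.Lib.Helper27.ONRetr

namespace Cfsg.Agent.Lib.Helper19.ONM.RetrGen

universe u

section theta

variable {Γ G Q : Type u} [Group Γ] [Group G] [Group Q]
  (τ : Γ →* G) (π : G →* Q) (Hp : Subgroup G) (HQ : Subgroup Q) (hmap : Hp.map π = HQ)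

/-- the homomorphism from the preimage of `Hp` to `HQ` -/
def theta : ↥(Hp.comap τ) →* ↥HQ :=
  ((π.comp τ).comp (Hp.comap τ).subtype).codRestrict HQ (fun v => by
    rw [← hmap]; exact ⟨τ v, v.2, rfl⟩)

theorem theta_coe (v : ↥(Hp.comap τ)) : ((theta τ π Hp HQ hmap v : ↥HQ) : Q) = π (τ v) := rfl

theorem theta_surjective (hτs : Function.Surjective τ) : Function.Surjective (theta τ π Hp HQ hmap) := by
  rintro ⟨h, hh⟩
  have hh' := hh
  rw [← hmap] at hh'
  obtain ⟨x, hx, rfl⟩ := hh'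
  obtain ⟨γ, rfl⟩ := hτs x
  exact ⟨⟨γ, hx⟩, Subtype.ext rfl⟩

theorem mem_ker_theta (hinj : ∀ x ∈ Hp, π x = 1 → x = 1) (v : ↥(Hp.comap τ)) :
    v ∈ (theta τ π Hp HQ hmap).ker ↔ (v : Γ) ∈ τ.ker := by
  rw [MonoidHom.mem_ker, MonoidHom.mem_ker]
  constructor
  · intro h
    exact hinj _ v.2 (congrArg Subtype.val h)
  · intro h
    apply Subtype.ext
    rw [theta_coe, h, map_one]; rfl

theorem ker_theta_le_center (hτc : τ.ker ≤ center Γ) (hinj : ∀ x ∈ Hp, π x = 1 → x = 1) :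
    (theta τ π Hp HQ hmap).ker ≤ center ↥(Hp.comap τ) := by
  intro v hv
  rw [mem_ker_theta τ π Hp HQ hmap hinj] at hv
  rw [Subgroup.mem_center_iff]
  intro g
  apply Subtype.ext
  exact Subgroup.mem_center_iff.mp (hτc hv) g

theorem theta_ker_exp (hinj : ∀ x ∈ Hp, π x = 1 → x = 1) (p : ℕ) (hexp : ∀ a ∈ τ.ker, a ^ p = 1) :
    ∀ a ∈ (theta τ π Hp HQ hmap).ker, a ^ p = 1 := by
  intro a ha
  rw [mem_ker_theta τ π Hp HQ hmap hinj] at ha
  apply Subtype.ext
  have := hexp _ ha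
  simpa using this

end theta

section main

variable {Γ G Q : Type u} [Group Γ] [Finite Γ] [Group G] [Group Q]
  (τ : Γ →* G) (π : G →* Q) (Hp : Subgroup G) (HQ : Subgroup Q) (hmap : Hp.map π = HQ)
  (hτs : Function.Surjective τ) (hτc : τ.ker ≤ center Γ) (hinj : ∀ x ∈ Hp, π x = 1 → x = 1)

include hmap hτs hτc hinj in
/-- the kernel meets the commutator subgroup of `V` trivially -/
theorem ker_inter_commutator (p : ℕ) (hexp : ∀ a ∈ τ.ker, a ^ p = 1)
    (N : Subgroup ↥HQ) [N.Normal] (hperf : ⁅N, N⁆ = N) (hidx : N.index = 2)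
    (hN : ∀ (Γ' : Type u) [Group Γ'] [Finite Γ'] (σ : Γ' →* ↥N), Cfsg.IsStemExtension σ →
      (∀ a ∈ σ.ker, a ^ p = 1) → σ.ker = ⊥) :
    ∀ a ∈ τ.ker, a ∈ ⁅Hp.comap τ, Hp.comap τ⁆ → a = 1 := by
  intro a ha hac
  have hs := theta_surjective τ π Hp HQ hmap hτs
  have hc := ker_theta_le_center τ π Hp HQ hmap hτc hinj
  have hexpθ := theta_ker_exp τ π Hp HQ hmap hinj p hexp
  have hcore := core_inter_ker (theta τ π Hp HQ hmap) hs hc N hperf p hexpθ hN
  rw [← (Hp.comap τ).map_subtype_commutator] at hac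
  obtain ⟨v, hv, rfl⟩ := hac
  have h1 := commutator_le_core (theta τ π Hp HQ hmap) hs hc N hperf hidx hv
  have h2 : v ∈ (theta τ π Hp HQ hmap).ker := (mem_ker_theta τ π Hp HQ hmap hinj v).mpr ha
  rw [hcore v h2 h1]
  rfl

include hmap hτs hτc hinj in
/-- the transfer argument for a prime not dividing the index of `Hp` -/
theorem ker_eq_bot_of_core (hτk : τ.ker ≤ commutator Γ) (p : ℕ) (hexp : ∀ a ∈ τ.ker, a ^ p = 1)
    (N : Subgroup ↥HQ) [N.Normal] (hperf : ⁅N, N⁆ = N) (hidx : N.index = 2)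
    (hN : ∀ (Γ' : Type u) [Group Γ'] [Finite Γ'] (σ : Γ' →* ↥N), Cfsg.IsStemExtension σ →
      (∀ a ∈ σ.ker, a ^ p = 1) → σ.ker = ⊥)
    (hcop : Nat.Coprime Hp.index p) : τ.ker = ⊥ := by
  have hidxV : (Hp.comap τ).index = Hp.index := Subgroup.index_comap_of_surjective Hp hτs
  exact ker_eq_bot_of_transfer τ ⟨hτs, hτc, hτk⟩ p hexp (Hp.comap τ) (by rw [hidxV]; exact hcop)
    (ker_inter_commutator τ π Hp HQ hmap hτs hτc hinj p hexp N hperf hidx hN)

include hmap hτs hτc hinj in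
/-- the retraction for `p = 2` -/
theorem retraction_two (hexp : ∀ a ∈ τ.ker, a ^ 2 = 1)
    (hπs : Function.Surjective π) (hπc : π.ker ≤ center G) (hπk : ∀ k ∈ π.ker, k ^ 3 = 1)
    (N : Subgroup ↥HQ) [N.Normal] (hperf : ⁅N, N⁆ = N) (hidx : N.index = 2)
    (hN : ∀ (Γ' : Type u) [Group Γ'] [Finite Γ'] (σ : Γ' →* ↥N), Cfsg.IsStemExtension σ →
      (∀ a ∈ σ.ker, a ^ 2 = 1) → σ.ker = ⊥)
    (a0 : G) (ha0 : a0 ∈ Hp) (ha0sq : a0 ^ 2 = 1) (ha0N : ∀ h : ↥HQ, (h : Q) = π a0 → h ∉ N)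
    (w : Q) (s : ↥HQ) (hsN : s ∈ N) (hs2 : s ^ 2 = 1) (hw : w * (s : Q) * w⁻¹ = π a0) :
    Nonempty (Retraction τ (Hp.comap τ)) := by
  have hs := theta_surjective τ π Hp HQ hmap hτs
  have hc := ker_theta_le_center τ π Hp HQ hmap hτc hinj
  have hexpθ := theta_ker_exp τ π Hp HQ hmap hinj 2 hexp
  have hcore := core_inter_ker (theta τ π Hp HQ hmap) hs hc N hperf 2 hexpθ hN
  obtain ⟨q, hq, hθq, hq2⟩ := exists_lift_sq_eq_one (theta τ π Hp HQ hmap) hs N hperf hcore s hsN hs2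
  obtain ⟨w0, hw0⟩ := hπs w
  obtain ⟨w1, hw1⟩ := hτs w0
  -- the involution
  have hq2' : (q : Γ) ^ 2 = 1 := by
    have := congrArg Subtype.val hq2
    simpa using this
  have hA2 : (w1 * (q : Γ) * w1⁻¹) ^ 2 = 1 := by
    rw [conj_pow, hq2', mul_one, mul_inv_cancel]
  have hπA : π (τ (w1 * (q : Γ) * w1⁻¹)) = π a0 := by
    rw [map_mul, map_mul, map_inv, map_mul, map_mul, map_inv, hw1, hw0, ← hw]
    congr 2
    have := congrArg Subtype.val hθq
    rw [theta_coe] at this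
    exact this
  -- its image is `a0`
  have hk : a0⁻¹ * τ (w1 * (q : Γ) * w1⁻¹) ∈ π.ker := by
    rw [MonoidHom.mem_ker, map_mul, map_inv, hπA, inv_mul_cancel]
  have hkc := Subgroup.mem_center_iff.mp (hπc hk)
  have hk3 := hπk _ hk
  set k := a0⁻¹ * τ (w1 * (q : Γ) * w1⁻¹) with hkdef
  have hτA : τ (w1 * (q : Γ) * w1⁻¹) = a0 * k := by rw [hkdef]; group
  have hk2 : k ^ 2 = 1 := by
    have h1 : (a0 * k) ^ 2 = 1 := by rw [← hτA, ← map_pow, hA2, map_one]
    have h2 : (a0 * k) ^ 2 = a0 ^ 2 * k ^ 2 := by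
      have : Commute a0 k := hkc a0
      exact this.mul_pow 2
    rw [h2, ha0sq, one_mul] at h1
    exact h1
  have hk1 : k = 1 := by
    have : k ^ 3 = k ^ 2 * k := pow_succ k 2
    rw [hk3, hk2, one_mul] at this
    exact this.symm
  have hAV : w1 * (q : Γ) * w1⁻¹ ∈ Hp.comap τ := by
    rw [Subgroup.mem_comap, hτA, hk1, mul_one]; exact ha0
  -- all squares lie in the core
  have ht : theta τ π Hp HQ hmap ⟨_, hAV⟩ ∉ N := by
    apply ha0N
    rw [theta_coe]
    exact hπA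
  have ht2 : (⟨_, hAV⟩ : ↥(Hp.comap τ)) ^ 2 ∈
      ⁅N.comap (theta τ π Hp HQ hmap), N.comap (theta τ π Hp HQ hmap)⁆ := by
    have : (⟨_, hAV⟩ : ↥(Hp.comap τ)) ^ 2 = 1 := Subtype.ext (by simpa using hA2)
    rw [this]; exact one_mem _
  have hsq := sq_mem_core (theta τ π Hp HQ hmap) hs hc N hperf hidx hexpθ ⟨_, hAV⟩ ht ht2
  -- the retraction
  refine retraction_of_inter τ hτc 2 Nat.prime_two hexp (Hp.comap τ)
    ((⁅N.comap (theta τ π Hp HQ hmap), N.comap (theta τ π Hp HQ hmap)⁆).map (Hp.comap τ).subtype)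
    (Subgroup.map_subtype_le _) ?_ ?_ ?_
  · rw [← (Hp.comap τ).map_subtype_commutator]
    exact Subgroup.map_mono (commutator_le_core (theta τ π Hp HQ hmap) hs hc N hperf hidx)
  · intro v hv
    exact ⟨⟨v, hv⟩ ^ 2, hsq _, rfl⟩
  · rintro a ha ⟨c, hc', rfl⟩
    have h2 : c ∈ (theta τ π Hp HQ hmap).ker := (mem_ker_theta τ π Hp HQ hmap hinj c).mpr ha
    rw [hcore c h2 hc']
    rfl

include hmap hτs hτc hinj in
/-- the retraction for `p = 3` -/
theorem retraction_three (hexp : ∀ a ∈ τ.ker, a ^ 3 = 1)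
    (m : ℕ) (hcard : Nat.card ↥HQ = 9 * m) (hm : ¬ 3 ∣ m)
    (hsq : ∀ h : ↥HQ, h ^ 2 ∈ commutator ↥HQ)
    (x y d : ↥HQ) (hxy : x * y = y * x) (hx : x ^ 3 = 1) (hy : y ^ 3 = 1) (hx1 : x ≠ 1)
    (hy1 : y ≠ 1) (hyx : y ≠ x) (hyx2 : y ≠ x * x)
    (hdx : d * x * d⁻¹ = x) (hdy : d * y * d⁻¹ = y⁻¹) :
    Nonempty (Retraction τ (Hp.comap τ)) := by
  set θ := theta τ π Hp HQ hmap with hθ
  have hs : Function.Surjective θ := theta_surjective τ π Hp HQ hmap hτs
  have hc : θ.ker ≤ center ↥(Hp.comap τ) := ker_theta_le_center τ π Hp HQ hmap hτc hinj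
  have hexpθ : ∀ a ∈ θ.ker, a ^ 3 = 1 := theta_ker_exp τ π Hp HQ hmap hinj 3 hexp
  haveI : Finite ↥HQ := Finite.of_surjective θ hs
  obtain ⟨x', rfl⟩ := hs x
  obtain ⟨y', rfl⟩ := hs y
  obtain ⟨d', rfl⟩ := hs d
  have hcomm : x' * y' = y' * x' := by
    apply commute_of_inverting θ.ker hc 3 (by decide) hexpθ x' y' d'
    · rw [MonoidHom.mem_ker, map_mul, map_mul, map_mul, map_inv, map_inv, hxy]; group
    · rw [MonoidHom.mem_ker, map_mul, map_mul, map_mul, map_inv, map_inv, hdx]; group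
    · rw [MonoidHom.mem_ker, map_mul, map_mul, map_mul, map_inv, hdy]; group
  have hab := comap_closure_pair_comm θ hc x' y' hcomm
  have hcop := coprime_index_closure_pair m hcard hm (θ x') (θ y') hxy hx hy hx1 hy1 hyx hyx2
  have hstar := inter_commutator_of_abelian_comap θ hs hc 3 hexpθ _ hcop hab
  -- the subgroup of the elements with square in the commutator subgroup
  let sq : ↥(Hp.comap τ) →* Abelianization ↥(Hp.comap τ) :=
    (powMonoidHom 2).comp Abelianization.of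
  have hsqk : ∀ v, v ∈ sq.ker ↔ v ^ 2 ∈ commutator ↥(Hp.comap τ) := by
    intro v
    rw [MonoidHom.mem_ker, ← Abelianization.ker_of, MonoidHom.mem_ker, map_pow]
    rfl
  refine retraction_of_inter τ hτc 3 Nat.prime_three hexp (Hp.comap τ)
    (sq.ker.map (Hp.comap τ).subtype) (Subgroup.map_subtype_le _) ?_ ?_ ?_
  · rw [← (Hp.comap τ).map_subtype_commutator]
    apply Subgroup.map_mono
    intro v hv
    exact (hsqk v).mpr (pow_mem hv 2)
  · intro v hv
    refine ⟨⟨v, hv⟩ ^ 3, (hsqk _).mpr ?_, rfl⟩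
    set v' : ↥(Hp.comap τ) := ⟨v, hv⟩
    have h1 : θ (v' ^ 2) ∈ (commutator ↥(Hp.comap τ)).map θ := by
      rw [commutator_def, Subgroup.map_commutator, ← MonoidHom.range_eq_map,
        MonoidHom.range_eq_top.mpr hs, ← commutator_def, map_pow]
      exact hsq _
    obtain ⟨c, hcK, hcv⟩ := h1
    have hb : c⁻¹ * v' ^ 2 ∈ θ.ker := by
      rw [MonoidHom.mem_ker, map_mul, map_inv, hcv, inv_mul_cancel]
    have hbc := Subgroup.mem_center_iff.mp (hc hb)
    have hb3 := hexpθ _ hb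
    set b := c⁻¹ * v' ^ 2 with hbdef
    have hv2 : v' ^ 2 = c * b := by rw [hbdef]; group
    have h6 : (v' ^ 3) ^ 2 = c ^ 3 := by
      rw [← pow_mul, show 3 * 2 = 2 * 3 from rfl, pow_mul, hv2]
      have : Commute c b := hbc c
      rw [this.mul_pow, hb3, mul_one]
    rw [h6]
    exact pow_mem hcK 3
  · rintro a ha ⟨c, hc', rfl⟩
    have h2 : c ∈ θ.ker := (mem_ker_theta τ π Hp HQ hmap hinj c).mpr ha
    have h3 : c ^ 2 = 1 := hstar _ (pow_mem h2 2) ((hsqk c).mp hc')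
    have h4 : c ^ 3 = 1 := hexpθ c h2
    have : c ^ 3 = c ^ 2 * c := pow_succ c 2
    rw [h4, h3, one_mul] at this
    rw [← this]
    rfl

end main

section gens

variable {G : Type*} [Group G]

/-- the generators of a subgroup generate it, as elements of the subgroup -/
theorem closure_preimage_eq_top (H : Subgroup G) (K : Set G) (hH : H = closure K) :
    closure (((↑) : ↥H → G) ⁻¹' K) = ⊤ := by
  subst hH
  exact closure_closure_coe_preimage

/-- six generators, the first of which does not lie in a normal subgroup of index `2` -/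
theorem not_mem_of_index_two (H : Subgroup G) (a b c d e f : G) (hH : H = closure {a, b, c, d, e, f})
    (N : Subgroup ↥H) [N.Normal] (hidx : N.index = 2)
    (hb : (a * b) * a * (a * b)⁻¹ = b) (hc : (b * c) * b * (b * c)⁻¹ = c)
    (he : (f * e) * f * (f * e)⁻¹ = e) (hd : (e * d) * e * (e * d)⁻¹ = d)
    (haf : a * f = ((c * d) ^ 2) ^ 2) : ∀ h : ↥H, (h : G) = a → h ∉ N := by
  intro h hha hN
  have hsub : ({a, b, c, d, e, f} : Set G) ⊆ H := by rw [hH]; exact subset_closure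
  have ha' : a ∈ H := hsub (by simp)
  have hb' : b ∈ H := hsub (by simp)
  have hc' : c ∈ H := hsub (by simp)
  have hd' : d ∈ H := hsub (by simp)
  have he' : e ∈ H := hsub (by simp)
  have hf' : f ∈ H := hsub (by simp)
  have e0 : h = ⟨a, ha'⟩ := Subtype.ext hha
  rw [e0] at hN
  have conj : ∀ (x y : ↥H), x ∈ N → ∀ z : ↥H, (y : G) * x * (y : G)⁻¹ = z → z ∈ N := by
    intro x y hx z hz
    have : y * x * y⁻¹ = z := Subtype.ext (by simpa using hz)
    rw [← this]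
    exact Subgroup.Normal.conj_mem inferInstance x hx y
  have hbN : (⟨b, hb'⟩ : ↥H) ∈ N := conj ⟨a, ha'⟩ (⟨a, ha'⟩ * ⟨b, hb'⟩) hN _ hb
  have hcN : (⟨c, hc'⟩ : ↥H) ∈ N := conj ⟨b, hb'⟩ (⟨b, hb'⟩ * ⟨c, hc'⟩) hbN _ hc
  have hafN : (⟨a, ha'⟩ * ⟨f, hf'⟩ : ↥H) ∈ N := by
    have h1 : (⟨a, ha'⟩ * ⟨f, hf'⟩ : ↥H) = ((⟨c, hc'⟩ * ⟨d, hd'⟩ : ↥H) ^ 2) ^ 2 := Subtype.ext (by simpa using haf)
    rw [h1]
    exact Subgroup.sq_mem_of_index_two hidx _
  have hfN : (⟨f, hf'⟩ : ↥H) ∈ N := by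
    have := N.mul_mem (N.inv_mem hN) hafN
    rwa [inv_mul_cancel_left] at this
  have heN : (⟨e, he'⟩ : ↥H) ∈ N := conj ⟨f, hf'⟩ (⟨f, hf'⟩ * ⟨e, he'⟩) hfN _ he
  have hdN : (⟨d, hd'⟩ : ↥H) ∈ N := conj ⟨e, he'⟩ (⟨e, he'⟩ * ⟨d, hd'⟩) heN _ hd
  have htop : (⊤ : Subgroup ↥H) ≤ N := by
    rw [← closure_preimage_eq_top H _ hH, Subgroup.closure_le]
    intro s hs
    have hs' : (s : G) ∈ ({a, b, c, d, e, f} : Set G) := hs
    simp only [Set.mem_insert_iff, Set.mem_singleton_iff] at hs'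
    rcases hs' with h | h | h | h | h | h
    · have : s = ⟨a, ha'⟩ := Subtype.ext h
      rw [this]; exact hN
    · have : s = ⟨b, hb'⟩ := Subtype.ext h
      rw [this]; exact hbN
    · have : s = ⟨c, hc'⟩ := Subtype.ext h
      rw [this]; exact hcN
    · have : s = ⟨d, hd'⟩ := Subtype.ext h
      rw [this]; exact hdN
    · have : s = ⟨e, he'⟩ := Subtype.ext h
      rw [this]; exact heN
    · have : s = ⟨f, hf'⟩ := Subtype.ext h
      rw [this]; exact hfN
  have : N = ⊤ := top_le_iff.mp htop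
  rw [this, Subgroup.index_top] at hidx
  exact absurd hidx (by norm_num)

/-- the product of the first and the last generator lies in the subgroup of index `2` -/
theorem mul_mem_of_index_two (H : Subgroup G) (a c d f : G)
    (N : Subgroup ↥H) (hidx : N.index = 2) (hc : c ∈ H) (hd : d ∈ H)
    (haf : a * f = ((c * d) ^ 2) ^ 2) : ∀ h : ↥H, (h : G) = a * f → h ∈ N := by
  intro h hh
  have h1 : h = ((⟨c, hc⟩ * ⟨d, hd⟩ : ↥H) ^ 2) ^ 2 := Subtype.ext (by rw [hh, haf]; simp)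
  rw [h1]
  exact Subgroup.sq_mem_of_index_two hidx _

/-- squares lie in the commutator subgroup of a group generated by involutions -/
theorem sq_mem_commutator_of_involutions (H : Subgroup G) (K : Set G) (hH : H = closure K)
    (hK : ∀ s ∈ K, s ^ 2 = 1)
    (L1 : ∀ (S : Set ↥H), Subgroup.closure S = ⊤ → (∀ s ∈ S, s ^ 2 ∈ commutator ↥H) →
      ∀ g : ↥H, g ^ 2 ∈ commutator ↥H) :
    ∀ h : ↥H, h ^ 2 ∈ commutator ↥H := by
  apply L1 _ (closure_preimage_eq_top H K hH)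
  intro s hs
  have : s ^ 2 = 1 := Subtype.ext (by simpa using hK _ hs)
  rw [this]
  exact one_mem _

end gens

end Cfsg.Agent.Lib.Helper19.ONM.RetrGen
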