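import Cfsg.Agent.Lib.Helper19.ONM.T3Card
import Cfsg.Agent.Lib.Helper19.ONM.ONRelE
import Cfsg.Agent.Lib.Helper19.ONM.RetrGen
import Cfsg.Agent.S1693

/-!
# The retractions for the triple cover of the O'Nan group (primes 2, 3, 7)
-/

set_option autoImplicit false
set_option maxRecDepth 100000

open Subgroup
open scoped commutatorElement

namespace Cfsg.Agent.Lib.Helper19.ONM.RetrON

open Cfsg.Agent.Lib.Helper19.ONM.Def Cfsg.Agent.Lib.Helper19.ONM.Proj Cfsg.Agent.Lib.Helper19.ONM.Ker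
open Cfsg.Agent.Lib.Helper19.ONM.T3Rep Cfsg.Agent.Lib.Helper19.ONM.T3Card
open Cfsg.Agent.Lib.Helper19.ONM.ONRelE Cfsg.Agent.Lib.Helper19.ONM.RetrGen
open Cfsg.Agent.Lib.Helper28 Cfsg.Agent.Lib.Helper28.SchurFox Cfsg.Agent.Lib.Helper27.ONRetr

theorem HON_eq : HON = Subgroup.closure {sa, sb, sc, sd, se, sf} := by
  show Subgroup.map (PresentedGroup.mk TCONLink.rels) (Subgroup.closure TCONLink.S) = _
  rw [MonoidHom.map_closure]
  congr 1
  simp only [Set.image_insert_eq, Set.image_singleton]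
  rfl

theorem mem_HON {x : ON} (hx : x ∈ ({sa, sb, sc, sd, se, sf} : Set ON)) : x ∈ HON := by
  rw [HON_eq]; exact Subgroup.subset_closure hx

/-- the subgroup `PSL(3, 7)` of index `2` -/
theorem exists_N : ∃ N : Subgroup ↥HON, N.Normal ∧ N.index = 2 ∧ ⁅N, N⁆ = N ∧
    ∀ p : ℕ, p.Prime → p ≠ 3 → ∀ (Γ : Type) [Group Γ] [Finite Γ] (σ : Γ →* ↥N),
      Cfsg.IsStemExtension σ → (∀ a ∈ σ.ker, a ^ p = 1) → σ.ker = ⊥ := by
  obtain ⟨N, hn, hidx, ⟨e⟩⟩ := Cfsg.Agent.S1693.result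
  obtain ⟨h1, h2⟩ := psl37_perfect_stem e
  refine ⟨N, hn, hidx, ?_, h2⟩
  rw [← Subgroup.map_subtype_commutator, h1, ← MonoidHom.range_eq_map, Subgroup.range_subtype]

theorem gen_a_sq : (gen .a : Ghat) ^ 2 = 1 := by
  have h := mk_eq_one (L := [(Gen8.a, true), (Gen8.a, true)]) (by decide)
  have e : (FreeGroup.mk [(Gen8.a, true), (Gen8.a, true)] : FreeGroup Gen8) =
      FreeGroup.of Gen8.a * FreeGroup.of Gen8.a := rfl
  rw [e, map_mul] at h
  rw [pow_two]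
  exact h

theorem ker_proj_exp : ∀ k ∈ proj.ker, k ^ 3 = 1 := by
  intro k hk
  rw [ker_proj] at hk
  obtain ⟨n, rfl⟩ := Subgroup.mem_zpowers_iff.mp hk
  rw [← zpow_natCast, ← zpow_mul, mul_comm, zpow_mul, zpow_natCast, zz_pow_three, one_zpow]

theorem gen_a_mem : (gen .a : Ghat) ∈ Hp := Subgroup.subset_closure (by simp)

theorem proj_gen_a : proj (gen .a) = sa := by rw [proj_gen]; rfl

/-- the retraction for the prime `2` -/
theorem retraction_p2 {Γ : Type} [Group Γ] [Finite Γ] (τ : Γ →* Ghat) (hτ : Cfsg.IsStemExtension τ)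
    (hexp : ∀ a ∈ τ.ker, a ^ 2 = 1) : Nonempty (Retraction τ (Hp.comap τ)) := by
  obtain ⟨N, hn, hidx, hperf, hN⟩ := exists_N
  haveI := hn
  have hsaf : sa * sf ∈ HON := HON.mul_mem (mem_HON (by simp)) (mem_HON (by simp))
  refine retraction_two τ proj Hp HON map_Hp hτ.1 hτ.2.1 proj_injOn_Hp hexp proj_surjective ker_le_center
    ker_proj_exp N hperf hidx (hN 2 Nat.prime_two (by norm_num)) (gen .a) gen_a_mem gen_a_sq ?_ elW⁻¹
    ⟨sa * sf, hsaf⟩ ?_ ?_ ?_
  · intro h hh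
    rw [proj_gen_a] at hh
    exact not_mem_of_index_two HON sa sb sc sd se sf HON_eq N hidx b_conj c_conj e_conj d_conj af_sq h hh
  · exact mul_mem_of_index_two HON sa sc sd sf N hidx (mem_HON (by simp)) (mem_HON (by simp)) af_sq _ rfl
  · exact Subtype.ext af_sq_one
  · rw [proj_gen_a]
    show elW⁻¹ * (sa * sf) * elW⁻¹⁻¹ = sa
    rw [← conj_a]
    group

/-- the retraction for the prime `3` -/
theorem retraction_p3 {Γ : Type} [Group Γ] [Finite Γ] (τ : Γ →* Ghat) (hτ : Cfsg.IsStemExtension τ)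
    (hexp : ∀ a ∈ τ.ker, a ^ 3 = 1) : Nonempty (Retraction τ (Hp.comap τ)) := by
  have hx : sa * sb ∈ HON := HON.mul_mem (mem_HON (by simp)) (mem_HON (by simp))
  have hy : sd * se ∈ HON := HON.mul_mem (mem_HON (by simp)) (mem_HON (by simp))
  have hd : sd ∈ HON := mem_HON (by simp)
  have hsq : ∀ h : ↥HON, h ^ 2 ∈ commutator ↥HON := by
    apply sq_mem_commutator_of_involutions HON _ HON_eq
    · intro s hs
      simp only [Set.mem_insert_iff, Set.mem_singleton_iff] at hs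
      rcases hs with rfl | rfl | rfl | rfl | rfl | rfl
      exacts [a_sq, b_sq, c_sq, d_sq, e_sq, f_sq]
    · intro S hS h
      exact pow_mem_of_closure (commutator ↥HON) le_rfl 2 S hS h
  refine retraction_three τ proj Hp HON map_Hp hτ.1 hτ.2.1 proj_injOn_Hp hexp 417088
    (by rw [card_HON]) (by norm_num) hsq ⟨sa * sb, hx⟩ ⟨sd * se, hy⟩ ⟨sd, hd⟩ ?_ ?_ ?_ ?_ ?_ ?_ ?_ ?_ ?_
  · exact Subtype.ext xy_comm
  · exact Subtype.ext x_cube
  · exact Subtype.ext y_cube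
  · intro h; exact x_ne (congrArg Subtype.val h)
  · intro h; exact y_ne (congrArg Subtype.val h)
  · intro h; exact yx_ne (congrArg Subtype.val h)
  · intro h; exact yxx_ne (congrArg Subtype.val h)
  · exact Subtype.ext dx
  · exact Subtype.ext dy

/-- the prime `7` -/
theorem ker_eq_bot_p7 {Γ : Type} [Group Γ] [Finite Γ] (τ : Γ →* Ghat) (hτ : Cfsg.IsStemExtension τ)
    (hexp : ∀ a ∈ τ.ker, a ^ 7 = 1) : τ.ker = ⊥ := by
  obtain ⟨N, hn, hidx, hperf, hN⟩ := exists_N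
  haveI := hn
  exact ker_eq_bot_of_core τ proj Hp HON map_Hp hτ.1 hτ.2.1 proj_injOn_Hp hτ.2.2 7 hexp N hperf hidx
    (hN 7 (by norm_num) (by norm_num)) (by rw [index_Hp]; norm_num)

end Cfsg.Agent.Lib.Helper19.ONM.RetrON
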