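import Cfsg.Agent.Lib.Helper19.ONM.T3Rep
import Cfsg.Agent.S1699
import Cfsg.Agent.S1692
-- END-HEAVY-IMPORTS

set_option autoImplicit false
set_option maxRecDepth 100000

/-!
# The presented triple cover of the O'Nan group: order, centre, stem extension
-/

namespace Cfsg.Agent.Lib.Helper19.ONM.T3Card

open Cfsg.Agent.Lib.Helper19.ONM.Def Cfsg.Agent.Lib.Helper19.ONM.Proj Cfsg.Agent.Lib.Helper19.ONM.Ker
open Cfsg.Agent.Lib.Helper19.ONM.T3Tab Cfsg.Agent.Lib.Helper19.ONM.T3Rep
open Cfsg.Agent.Lib.Helper28 Cfsg.Agent.Lib.Helper28.TC2Lower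

/-- the subgroup of the O'Nan group generated by `a, …, f` -/
abbrev HON : Subgroup ON := (Subgroup.closure TCONLink.S).map (PresentedGroup.mk TCONLink.rels)

-- BEGIN-HEAVY-FACTS
theorem card_ON : Nat.card ON = 460815505920 := Cfsg.Agent.S1699.result.2
theorem simple_ON : IsSimpleGroup ON := Cfsg.Agent.S1699.result.1
theorem index_HON : HON.index = 122760 := Cfsg.Agent.S1692.result
-- END-HEAVY-FACTS

instance finite_ON : Finite ON := Nat.finite_of_card_ne_zero (by rw [card_ON]; norm_num)

theorem card_HON : Nat.card HON = 3753792 := by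
  have h := HON.index_mul_card
  rw [index_HON, card_ON] at h
  omega

theorem map_Hp : Hp.map proj = HON := by
  show Subgroup.map proj (Subgroup.closure _) =
    Subgroup.map (PresentedGroup.mk TCONLink.rels) (Subgroup.closure TCONLink.S)
  rw [MonoidHom.map_closure, MonoidHom.map_closure]
  congr 1
  simp only [Set.image_insert_eq, Set.image_singleton, proj_gen]
  rfl

instance finite_Ghat : Finite Ghat := finite_card.1

theorem card_Ghat_le : Nat.card Ghat ≤ 1382446517760 := by
  have h := finite_card.2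
  rw [card_ON] at h
  exact h

theorem card_Hp_ge : 3753792 ≤ Nat.card Hp := by
  have h1 : Nat.card ↥(Hp.map proj) = 3753792 := by rw [map_Hp]; exact card_HON
  rw [← h1]
  exact Nat.card_le_card_of_surjective _ (proj.subgroupMap_surjective Hp)

theorem index_Hp_le : Hp.index ≤ 368280 := by
  have h := Hp.index_mul_card
  have h1 := card_Ghat_le
  have h2 := card_Hp_ge
  by_contra hc
  have h3 : 368281 ≤ Hp.index := by omega
  have h4 : 368281 * 3753792 ≤ Hp.index * Nat.card Hp := Nat.mul_le_mul h3 h2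
  omega

theorem f3_bijective : Function.Bijective f3 := by
  apply f3_surjective.bijective_of_nat_card_le
  rw [Nat.card_fin, ← Subgroup.index_eq_card]
  exact index_Hp_le

theorem index_Hp : Hp.index = 368280 := by
  rw [Subgroup.index_eq_card, Nat.card_congr (Equiv.ofBijective f3 f3_bijective), Nat.card_fin]
  rfl

theorem card_Ghat : Nat.card Ghat = 1382446517760 := by
  have h := Hp.index_mul_card
  rw [index_Hp] at h
  have h1 := card_Ghat_le
  have h2 := card_Hp_ge
  have h4 : 368280 * 3753792 ≤ 368280 * Nat.card Hp := Nat.mul_le_mul_left _ h2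
  omega

theorem card_Hp : Nat.card Hp = 3753792 := by
  have h := Hp.index_mul_card
  rw [index_Hp, card_Ghat] at h
  omega

theorem phi_zz_zero : (phi zz ⟨0, hn0⟩).val = 122760 := by
  rw [show zz = gen .z from rfl, phi_gen, Table.sigma_apply hT (hlwk _)]
  exact hz 0 hn0

theorem phi_zz_sq_zero : (phi (zz * zz) ⟨0, hn0⟩).val = 245520 := by
  rw [map_mul, Equiv.Perm.mul_apply]
  rw [show zz = gen .z from rfl, phi_gen, Table.sigma_apply hT (hlwk _)]
  have h1 : (Table.sigma hT (lw (Gen8.z, true)) ⟨0, hn0⟩).val = 122760 := by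
    rw [Table.sigma_apply hT (hlwk _)]
    exact hz 0 hn0
  rw [h1]
  exact hz 122760 (by show 122760 < 368280; norm_num)

theorem zz_ne_one : zz ≠ 1 := by
  intro h
  have h1 := phi_zz_zero
  rw [h, map_one] at h1
  simp at h1

theorem orderOf_zz : orderOf zz = 3 := by
  haveI : Fact (Nat.Prime 3) := ⟨Nat.prime_three⟩
  exact orderOf_eq_prime zz_pow_three zz_ne_one

theorem card_Z : Nat.card Z = 3 := by rw [Nat.card_zpowers, orderOf_zz]

theorem mem_Z_iff (x : Ghat) : x ∈ Z ↔ x = 1 ∨ x = zz ∨ x = zz * zz := by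
  constructor
  · intro hx
    obtain ⟨k, rfl⟩ := Subgroup.mem_zpowers_iff.mp hx
    rw [← zpow_mod_orderOf, orderOf_zz]
    have e3 : ((3 : ℕ) : ℤ) = 3 := rfl
    rw [e3]
    have h1 : 0 ≤ k % 3 := Int.emod_nonneg _ (by norm_num)
    have h2 : k % 3 < 3 := Int.emod_lt_of_pos _ (by norm_num)
    obtain ⟨m, hm⟩ := Int.eq_ofNat_of_zero_le h1
    rw [hm] at h2 ⊢
    have hm3 : m < 3 := by omega
    rw [zpow_natCast]
    interval_cases m
    · left; simp
    · right; left; simp
    · right; right; rw [pow_two]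
  · rintro (rfl | rfl | rfl)
    · exact one_mem _
    · exact Subgroup.mem_zpowers _
    · exact mul_mem (Subgroup.mem_zpowers _) (Subgroup.mem_zpowers _)

theorem Hp_inf_Z : ∀ x ∈ Hp, x ∈ Z → x = 1 := by
  intro x hx hz
  have h0 := Hp_fix x hx
  rcases (mem_Z_iff x).mp hz with rfl | rfl | rfl
  · rfl
  · exfalso
    have := phi_zz_zero
    rw [h0] at this
    simp at this
  · exfalso
    have := phi_zz_sq_zero
    rw [h0] at this
    simp at this

/-- the projection is injective on `⟨a, …, f⟩` -/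
theorem proj_injOn_Hp : ∀ x ∈ Hp, proj x = 1 → x = 1 := by
  intro x hx h1
  apply Hp_inf_Z x hx
  rw [← ker_proj]
  exact h1

theorem zz_mem_commutator : zz ∈ commutator Ghat := by
  rw [← Abelianization.ker_of (G := Ghat), MonoidHom.mem_ker]
  set ab := (Abelianization.of : Ghat →* Abelianization Ghat) with hab
  have hw : ∀ L : List (Gen8 × Bool), L ∈ relWords →
      ab (PresentedGroup.mk rels (FreeGroup.mk L)) = 1 := by
    intro L hL
    rw [mk_eq_one hL, map_one]
  have h41 := hw [(.g, true), (.b, true), (.c, false), (.g, true), (.c, true), (.b, false), (.g, true), (.b, true),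
    (.c, false), (.g, true), (.c, true), (.z, false)] (by decide)
  have hafg := hw [(.a, true), (.f, true), (.g, false), (.g, false)] (by decide)
  have ha := hw [(.a, true), (.a, true)] (by decide)
  have hf := hw [(.f, true), (.f, true)] (by decide)
  have hb := hw [(.b, true), (.b, true)] (by decide)
  have hz := hw [(.z, true), (.z, true), (.z, true)] (by decide)
  have e41 : (FreeGroup.mk [(Gen8.g, true), (.b, true), (.c, false), (.g, true), (.c, true), (.b, false), (.g, true),
      (.b, true), (.c, false), (.g, true), (.c, true), (.z, false)] : FreeGroup Gen8) =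
      FreeGroup.of .g * FreeGroup.of .b * (FreeGroup.of .c)⁻¹ * FreeGroup.of .g * FreeGroup.of .c * (FreeGroup.of .b)⁻¹ *
      FreeGroup.of .g * FreeGroup.of .b * (FreeGroup.of .c)⁻¹ * FreeGroup.of .g * FreeGroup.of .c * (FreeGroup.of .z)⁻¹ := rfl
  have eafg : (FreeGroup.mk [(Gen8.a, true), (.f, true), (.g, false), (.g, false)] : FreeGroup Gen8) =
      FreeGroup.of .a * FreeGroup.of .f * (FreeGroup.of .g)⁻¹ * (FreeGroup.of .g)⁻¹ := rfl
  have e2 : ∀ x : Gen8, (FreeGroup.mk [(x, true), (x, true)] : FreeGroup Gen8) = FreeGroup.of x * FreeGroup.of x :=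
    fun _ => rfl
  have e3 : (FreeGroup.mk [(Gen8.z, true), (.z, true), (.z, true)] : FreeGroup Gen8) =
      FreeGroup.of .z * FreeGroup.of .z * FreeGroup.of .z := rfl
  rw [e41] at h41
  rw [eafg] at hafg
  rw [e2] at ha hf hb
  rw [e3] at hz
  simp only [map_mul, map_inv] at h41 hafg ha hf hb hz
  set G := ab (PresentedGroup.mk rels (FreeGroup.of Gen8.g))
  set B := ab (PresentedGroup.mk rels (FreeGroup.of Gen8.b))
  set C := ab (PresentedGroup.mk rels (FreeGroup.of Gen8.c))
  set a := ab (PresentedGroup.mk rels (FreeGroup.of Gen8.a))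
  set f := ab (PresentedGroup.mk rels (FreeGroup.of Gen8.f))
  set Zb := ab (PresentedGroup.mk rels (FreeGroup.of Gen8.z)) with hZb
  show Zb = 1
  have key : Zb = (Zb*Zb*Zb) * ((a*a)⁻¹)^2 * ((f*f)⁻¹)^2 * (a*f*G⁻¹*G⁻¹)^4 * (B*B)⁻¹ *
      (G*B*C⁻¹*G*C*B⁻¹*G*B*C⁻¹*G*C*Zb⁻¹)^2 := by
    apply Additive.ofMul.injective
    simp only [ofMul_mul, ofMul_inv, ofMul_pow]
    abel
  rw [key, h41, hafg, ha, hf, hb, hz]
  simp

theorem ker_le_commutator : proj.ker ≤ commutator Ghat := by
  rw [ker_proj, Subgroup.zpowers_le]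
  exact zz_mem_commutator

/-- the projection is a stem extension -/
theorem isStem_proj : Cfsg.IsStemExtension proj := ⟨proj_surjective, ker_le_center, ker_le_commutator⟩

end Cfsg.Agent.Lib.Helper19.ONM.T3Card
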