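import Cfsg.Agent.Lib.Helper19.ONM.T3Tab
import Cfsg.Agent.Lib.Helper19.ONM.T3Lib
import Cfsg.Agent.Lib.Helper19.ONM.T3Com1  -- chain
set_option autoImplicit false
set_option maxRecDepth 100000
set_option maxHeartbeats 0

namespace Cfsg.Agent.Lib.Helper19.ONM.T3Com2
open Cfsg.Agent.Lib.Helper28.TC2Upper Cfsg.Agent.Lib.Helper28.TC2Lower Cfsg.Agent.Lib.Helper28.TC2Range
open Cfsg.Agent.Lib.Helper19.ONM.T3Tab Cfsg.Agent.Lib.Helper19.ONM.T3Lib Cfsg.Agent.Lib.Helper16.McLM.CoverLow

theorem r0 : comRange table3 122760 245520 20460 = true := by decide +kernel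
theorem r1 : comRange table3 122760 265980 20460 = true := by decide +kernel
theorem r2 : comRange table3 122760 286440 20460 = true := by decide +kernel
theorem r3 : comRange table3 122760 306900 20460 = true := by decide +kernel
theorem r4 : comRange table3 122760 327360 20460 = true := by decide +kernel
theorem r5 : comRange table3 122760 347820 20460 = true := by decide +kernel

theorem all : ∀ p, 245520 ≤ p → p < 368280 → comRow table3 122760 p = true := by
  intro p h1 h2
  rcases Nat.lt_or_ge p 265980 with h | h1
  · exact (comRange_iff table3 122760 245520 20460).mp r0 p (by omega) (by omega)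
  rcases Nat.lt_or_ge p 286440 with h | h1
  · exact (comRange_iff table3 122760 265980 20460).mp r1 p (by omega) (by omega)
  rcases Nat.lt_or_ge p 306900 with h | h1
  · exact (comRange_iff table3 122760 286440 20460).mp r2 p (by omega) (by omega)
  rcases Nat.lt_or_ge p 327360 with h | h1
  · exact (comRange_iff table3 122760 306900 20460).mp r3 p (by omega) (by omega)
  rcases Nat.lt_or_ge p 347820 with h | h1
  · exact (comRange_iff table3 122760 327360 20460).mp r4 p (by omega) (by omega)
  exact (comRange_iff table3 122760 347820 20460).mp r5 p (by omega) (by omega)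

end Cfsg.Agent.Lib.Helper19.ONM.T3Com2
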