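import Cfsg.Agent.Lib.Helper19.ONM.T3Tab
import Cfsg.Agent.Lib.Helper19.ONM.T3Lib
set_option autoImplicit false
set_option maxRecDepth 100000
set_option maxHeartbeats 0

namespace Cfsg.Agent.Lib.Helper19.ONM.T3Misc
open Cfsg.Agent.Lib.Helper28.TC2Upper Cfsg.Agent.Lib.Helper28.TC2Lower Cfsg.Agent.Lib.Helper28.TC2Range
open Cfsg.Agent.Lib.Helper19.ONM.T3Tab Cfsg.Agent.Lib.Helper19.ONM.T3Lib Cfsg.Agent.Lib.Helper16.McLM.CoverLow

theorem hinvOK : table3.invOK = true := by decide +kernel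
theorem hk : table3.k = 16 := rfl
theorem hn : table3.n = 3 * 122760 := rfl
theorem hinv : ∀ x, x < 8 → table3.invl (2 * x) = 2 * x + 1 := by decide +kernel
theorem hzr : zRange table3 14 122760 0 368280 = true := by decide +kernel
theorem hsub : ∀ l ∈ [2, 4, 6, 8, 10, 12], table3.tau l 0 = 0 := by decide +kernel

end Cfsg.Agent.Lib.Helper19.ONM.T3Misc
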