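import Cfsg.Agent.Lib.Helper19.ONM.T3Tab
import Cfsg.Agent.Lib.Helper19.ONM.T3Lib
set_option autoImplicit false
set_option maxRecDepth 100000
set_option maxHeartbeats 0

namespace Cfsg.Agent.Lib.Helper19.ONM.T3Perm0
open Cfsg.Agent.Lib.Helper28.TC2Upper Cfsg.Agent.Lib.Helper28.TC2Lower Cfsg.Agent.Lib.Helper28.TC2Range
open Cfsg.Agent.Lib.Helper19.ONM.T3Tab Cfsg.Agent.Lib.Helper19.ONM.T3Lib Cfsg.Agent.Lib.Helper16.McLM.CoverLow

theorem r0 : Table.permRange table3 0 8800 = true := by decide +kernel
theorem r1 : Table.permRange table3 8800 8800 = true := by decide +kernel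
theorem r2 : Table.permRange table3 17600 8800 = true := by decide +kernel
theorem r3 : Table.permRange table3 26400 8800 = true := by decide +kernel
theorem r4 : Table.permRange table3 35200 8800 = true := by decide +kernel
theorem r5 : Table.permRange table3 44000 8800 = true := by decide +kernel
theorem r6 : Table.permRange table3 52800 8580 = true := by decide +kernel

theorem all : ∀ p, 0 ≤ p → p < 61380 → Table.permRow table3 p = true := by
  intro p h1 h2
  rcases Nat.lt_or_ge p 8800 with h | h1
  · exact (Table.permRange_iff table3 0 8800).mp r0 p (by omega) (by omega)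
  rcases Nat.lt_or_ge p 17600 with h | h1
  · exact (Table.permRange_iff table3 8800 8800).mp r1 p (by omega) (by omega)
  rcases Nat.lt_or_ge p 26400 with h | h1
  · exact (Table.permRange_iff table3 17600 8800).mp r2 p (by omega) (by omega)
  rcases Nat.lt_or_ge p 35200 with h | h1
  · exact (Table.permRange_iff table3 26400 8800).mp r3 p (by omega) (by omega)
  rcases Nat.lt_or_ge p 44000 with h | h1
  · exact (Table.permRange_iff table3 35200 8800).mp r4 p (by omega) (by omega)
  rcases Nat.lt_or_ge p 52800 with h | h1
  · exact (Table.permRange_iff table3 44000 8800).mp r5 p (by omega) (by omega)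
  exact (Table.permRange_iff table3 52800 8580).mp r6 p (by omega) (by omega)

end Cfsg.Agent.Lib.Helper19.ONM.T3Perm0
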