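import Cfsg.Agent.Lib.Helper19.ONM.T3Tab
import Cfsg.Agent.Lib.Helper19.ONM.T3Lib
import Cfsg.Agent.Lib.Helper19.ONM.T3Perm1  -- chain
set_option autoImplicit false
set_option maxRecDepth 100000
set_option maxHeartbeats 0

namespace Cfsg.Agent.Lib.Helper19.ONM.T3Perm2
open Cfsg.Agent.Lib.Helper28.TC2Upper Cfsg.Agent.Lib.Helper28.TC2Lower Cfsg.Agent.Lib.Helper28.TC2Range
open Cfsg.Agent.Lib.Helper19.ONM.T3Tab Cfsg.Agent.Lib.Helper19.ONM.T3Lib Cfsg.Agent.Lib.Helper16.McLM.CoverLow

theorem r0 : Table.permRange table3 122760 8800 = true := by decide +kernel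
theorem r1 : Table.permRange table3 131560 8800 = true := by decide +kernel
theorem r2 : Table.permRange table3 140360 8800 = true := by decide +kernel
theorem r3 : Table.permRange table3 149160 8800 = true := by decide +kernel
theorem r4 : Table.permRange table3 157960 8800 = true := by decide +kernel
theorem r5 : Table.permRange table3 166760 8800 = true := by decide +kernel
theorem r6 : Table.permRange table3 175560 8580 = true := by decide +kernel

theorem all : ∀ p, 122760 ≤ p → p < 184140 → Table.permRow table3 p = true := by
  intro p h1 h2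
  rcases Nat.lt_or_ge p 131560 with h | h1
  · exact (Table.permRange_iff table3 122760 8800).mp r0 p (by omega) (by omega)
  rcases Nat.lt_or_ge p 140360 with h | h1
  · exact (Table.permRange_iff table3 131560 8800).mp r1 p (by omega) (by omega)
  rcases Nat.lt_or_ge p 149160 with h | h1
  · exact (Table.permRange_iff table3 140360 8800).mp r2 p (by omega) (by omega)
  rcases Nat.lt_or_ge p 157960 with h | h1
  · exact (Table.permRange_iff table3 149160 8800).mp r3 p (by omega) (by omega)
  rcases Nat.lt_or_ge p 166760 with h | h1
  · exact (Table.permRange_iff table3 157960 8800).mp r4 p (by omega) (by omega)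
  rcases Nat.lt_or_ge p 175560 with h | h1
  · exact (Table.permRange_iff table3 166760 8800).mp r5 p (by omega) (by omega)
  exact (Table.permRange_iff table3 175560 8580).mp r6 p (by omega) (by omega)

end Cfsg.Agent.Lib.Helper19.ONM.T3Perm2
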