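import Cfsg.Agent.Lib.Helper19.ONM.T3Tab
import Cfsg.Agent.Lib.Helper19.ONM.T3Lib
import Cfsg.Agent.Lib.Helper19.ONM.T3Perm3  -- chain
set_option autoImplicit false
set_option maxRecDepth 100000
set_option maxHeartbeats 0

namespace Cfsg.Agent.Lib.Helper19.ONM.T3Perm4
open Cfsg.Agent.Lib.Helper28.TC2Upper Cfsg.Agent.Lib.Helper28.TC2Lower Cfsg.Agent.Lib.Helper28.TC2Range
open Cfsg.Agent.Lib.Helper19.ONM.T3Tab Cfsg.Agent.Lib.Helper19.ONM.T3Lib Cfsg.Agent.Lib.Helper16.McLM.CoverLow

theorem r0 : Table.permRange table3 245520 8800 = true := by decide +kernel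
theorem r1 : Table.permRange table3 254320 8800 = true := by decide +kernel
theorem r2 : Table.permRange table3 263120 8800 = true := by decide +kernel
theorem r3 : Table.permRange table3 271920 8800 = true := by decide +kernel
theorem r4 : Table.permRange table3 280720 8800 = true := by decide +kernel
theorem r5 : Table.permRange table3 289520 8800 = true := by decide +kernel
theorem r6 : Table.permRange table3 298320 8580 = true := by decide +kernel

theorem all : ∀ p, 245520 ≤ p → p < 306900 → Table.permRow table3 p = true := by
  intro p h1 h2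
  rcases Nat.lt_or_ge p 254320 with h | h1
  · exact (Table.permRange_iff table3 245520 8800).mp r0 p (by omega) (by omega)
  rcases Nat.lt_or_ge p 263120 with h | h1
  · exact (Table.permRange_iff table3 254320 8800).mp r1 p (by omega) (by omega)
  rcases Nat.lt_or_ge p 271920 with h | h1
  · exact (Table.permRange_iff table3 263120 8800).mp r2 p (by omega) (by omega)
  rcases Nat.lt_or_ge p 280720 with h | h1
  · exact (Table.permRange_iff table3 271920 8800).mp r3 p (by omega) (by omega)
  rcases Nat.lt_or_ge p 289520 with h | h1
  · exact (Table.permRange_iff table3 280720 8800).mp r4 p (by omega) (by omega)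
  rcases Nat.lt_or_ge p 298320 with h | h1
  · exact (Table.permRange_iff table3 289520 8800).mp r5 p (by omega) (by omega)
  exact (Table.permRange_iff table3 298320 8580).mp r6 p (by omega) (by omega)

end Cfsg.Agent.Lib.Helper19.ONM.T3Perm4
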