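import Cfsg.Agent.Lib.Helper19.ONM.T3Tab
import Cfsg.Agent.Lib.Helper19.ONM.T3Lib
import Cfsg.Agent.Lib.Helper19.ONM.T3Paths
import Cfsg.Agent.Lib.Helper19.ONM.T3Rel0  -- chain
set_option autoImplicit false
set_option maxRecDepth 100000
set_option maxHeartbeats 0

namespace Cfsg.Agent.Lib.Helper19.ONM.T3Rel1
open Cfsg.Agent.Lib.Helper28.TC2Upper Cfsg.Agent.Lib.Helper28.TC2Lower Cfsg.Agent.Lib.Helper28.TC2Range
open Cfsg.Agent.Lib.Helper19.ONM.T3Tab Cfsg.Agent.Lib.Helper19.ONM.T3Lib Cfsg.Agent.Lib.Helper16.McLM.CoverLow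

theorem r0 : table3.relOK Cfsg.Agent.Lib.Helper19.ONM.T3Paths.chkPaths 10230 1023 = true := by decide +kernel
theorem r1 : table3.relOK Cfsg.Agent.Lib.Helper19.ONM.T3Paths.chkPaths 11253 1023 = true := by decide +kernel
theorem r2 : table3.relOK Cfsg.Agent.Lib.Helper19.ONM.T3Paths.chkPaths 12276 1023 = true := by decide +kernel
theorem r3 : table3.relOK Cfsg.Agent.Lib.Helper19.ONM.T3Paths.chkPaths 13299 1023 = true := by decide +kernel
theorem r4 : table3.relOK Cfsg.Agent.Lib.Helper19.ONM.T3Paths.chkPaths 14322 1023 = true := by decide +kernel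
theorem r5 : table3.relOK Cfsg.Agent.Lib.Helper19.ONM.T3Paths.chkPaths 15345 1023 = true := by decide +kernel
theorem r6 : table3.relOK Cfsg.Agent.Lib.Helper19.ONM.T3Paths.chkPaths 16368 1023 = true := by decide +kernel
theorem r7 : table3.relOK Cfsg.Agent.Lib.Helper19.ONM.T3Paths.chkPaths 17391 1023 = true := by decide +kernel
theorem r8 : table3.relOK Cfsg.Agent.Lib.Helper19.ONM.T3Paths.chkPaths 18414 1023 = true := by decide +kernel
theorem r9 : table3.relOK Cfsg.Agent.Lib.Helper19.ONM.T3Paths.chkPaths 19437 1023 = true := by decide +kernel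

theorem all : ∀ p, 10230 ≤ p → p < 20460 → ∀ r ∈ Cfsg.Agent.Lib.Helper19.ONM.T3Paths.chkPaths, table3.walkT r p = p := by
  intro p h1 h2
  rcases Nat.lt_or_ge p 11253 with h | h1
  · exact (table3.relOK_iff Cfsg.Agent.Lib.Helper19.ONM.T3Paths.chkPaths 10230 1023).mp r0 p (by omega) (by omega)
  rcases Nat.lt_or_ge p 12276 with h | h1
  · exact (table3.relOK_iff Cfsg.Agent.Lib.Helper19.ONM.T3Paths.chkPaths 11253 1023).mp r1 p (by omega) (by omega)
  rcases Nat.lt_or_ge p 13299 with h | h1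
  · exact (table3.relOK_iff Cfsg.Agent.Lib.Helper19.ONM.T3Paths.chkPaths 12276 1023).mp r2 p (by omega) (by omega)
  rcases Nat.lt_or_ge p 14322 with h | h1
  · exact (table3.relOK_iff Cfsg.Agent.Lib.Helper19.ONM.T3Paths.chkPaths 13299 1023).mp r3 p (by omega) (by omega)
  rcases Nat.lt_or_ge p 15345 with h | h1
  · exact (table3.relOK_iff Cfsg.Agent.Lib.Helper19.ONM.T3Paths.chkPaths 14322 1023).mp r4 p (by omega) (by omega)
  rcases Nat.lt_or_ge p 16368 with h | h1
  · exact (table3.relOK_iff Cfsg.Agent.Lib.Helper19.ONM.T3Paths.chkPaths 15345 1023).mp r5 p (by omega) (by omega)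
  rcases Nat.lt_or_ge p 17391 with h | h1
  · exact (table3.relOK_iff Cfsg.Agent.Lib.Helper19.ONM.T3Paths.chkPaths 16368 1023).mp r6 p (by omega) (by omega)
  rcases Nat.lt_or_ge p 18414 with h | h1
  · exact (table3.relOK_iff Cfsg.Agent.Lib.Helper19.ONM.T3Paths.chkPaths 17391 1023).mp r7 p (by omega) (by omega)
  rcases Nat.lt_or_ge p 19437 with h | h1
  · exact (table3.relOK_iff Cfsg.Agent.Lib.Helper19.ONM.T3Paths.chkPaths 18414 1023).mp r8 p (by omega) (by omega)
  exact (table3.relOK_iff Cfsg.Agent.Lib.Helper19.ONM.T3Paths.chkPaths 19437 1023).mp r9 p (by omega) (by omega)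

end Cfsg.Agent.Lib.Helper19.ONM.T3Rel1
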