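import Cfsg.Agent.Lib.Helper19.ONM.T3Tab
import Cfsg.Agent.Lib.Helper19.ONM.T3Lib
import Cfsg.Agent.Lib.Helper19.ONM.T3Paths
import Cfsg.Agent.Lib.Helper19.ONM.T3Rel1  -- chain
set_option autoImplicit false
set_option maxRecDepth 100000
set_option maxHeartbeats 0

namespace Cfsg.Agent.Lib.Helper19.ONM.T3Rel2
open Cfsg.Agent.Lib.Helper28.TC2Upper Cfsg.Agent.Lib.Helper28.TC2Lower Cfsg.Agent.Lib.Helper28.TC2Range
open Cfsg.Agent.Lib.Helper19.ONM.T3Tab Cfsg.Agent.Lib.Helper19.ONM.T3Lib Cfsg.Agent.Lib.Helper16.McLM.CoverLow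

theorem r0 : table3.relOK Cfsg.Agent.Lib.Helper19.ONM.T3Paths.chkPaths 20460 1023 = true := by decide +kernel
theorem r1 : table3.relOK Cfsg.Agent.Lib.Helper19.ONM.T3Paths.chkPaths 21483 1023 = true := by decide +kernel
theorem r2 : table3.relOK Cfsg.Agent.Lib.Helper19.ONM.T3Paths.chkPaths 22506 1023 = true := by decide +kernel
theorem r3 : table3.relOK Cfsg.Agent.Lib.Helper19.ONM.T3Paths.chkPaths 23529 1023 = true := by decide +kernel
theorem r4 : table3.relOK Cfsg.Agent.Lib.Helper19.ONM.T3Paths.chkPaths 24552 1023 = true := by decide +kernel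
theorem r5 : table3.relOK Cfsg.Agent.Lib.Helper19.ONM.T3Paths.chkPaths 25575 1023 = true := by decide +kernel
theorem r6 : table3.relOK Cfsg.Agent.Lib.Helper19.ONM.T3Paths.chkPaths 26598 1023 = true := by decide +kernel
theorem r7 : table3.relOK Cfsg.Agent.Lib.Helper19.ONM.T3Paths.chkPaths 27621 1023 = true := by decide +kernel
theorem r8 : table3.relOK Cfsg.Agent.Lib.Helper19.ONM.T3Paths.chkPaths 28644 1023 = true := by decide +kernel
theorem r9 : table3.relOK Cfsg.Agent.Lib.Helper19.ONM.T3Paths.chkPaths 29667 1023 = true := by decide +kernel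

theorem all : ∀ p, 20460 ≤ p → p < 30690 → ∀ r ∈ Cfsg.Agent.Lib.Helper19.ONM.T3Paths.chkPaths, table3.walkT r p = p := by
  intro p h1 h2
  rcases Nat.lt_or_ge p 21483 with h | h1
  · exact (table3.relOK_iff Cfsg.Agent.Lib.Helper19.ONM.T3Paths.chkPaths 20460 1023).mp r0 p (by omega) (by omega)
  rcases Nat.lt_or_ge p 22506 with h | h1
  · exact (table3.relOK_iff Cfsg.Agent.Lib.Helper19.ONM.T3Paths.chkPaths 21483 1023).mp r1 p (by omega) (by omega)
  rcases Nat.lt_or_ge p 23529 with h | h1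
  · exact (table3.relOK_iff Cfsg.Agent.Lib.Helper19.ONM.T3Paths.chkPaths 22506 1023).mp r2 p (by omega) (by omega)
  rcases Nat.lt_or_ge p 24552 with h | h1
  · exact (table3.relOK_iff Cfsg.Agent.Lib.Helper19.ONM.T3Paths.chkPaths 23529 1023).mp r3 p (by omega) (by omega)
  rcases Nat.lt_or_ge p 25575 with h | h1
  · exact (table3.relOK_iff Cfsg.Agent.Lib.Helper19.ONM.T3Paths.chkPaths 24552 1023).mp r4 p (by omega) (by omega)
  rcases Nat.lt_or_ge p 26598 with h | h1
  · exact (table3.relOK_iff Cfsg.Agent.Lib.Helper19.ONM.T3Paths.chkPaths 25575 1023).mp r5 p (by omega) (by omega)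
  rcases Nat.lt_or_ge p 27621 with h | h1
  · exact (table3.relOK_iff Cfsg.Agent.Lib.Helper19.ONM.T3Paths.chkPaths 26598 1023).mp r6 p (by omega) (by omega)
  rcases Nat.lt_or_ge p 28644 with h | h1
  · exact (table3.relOK_iff Cfsg.Agent.Lib.Helper19.ONM.T3Paths.chkPaths 27621 1023).mp r7 p (by omega) (by omega)
  rcases Nat.lt_or_ge p 29667 with h | h1
  · exact (table3.relOK_iff Cfsg.Agent.Lib.Helper19.ONM.T3Paths.chkPaths 28644 1023).mp r8 p (by omega) (by omega)
  exact (table3.relOK_iff Cfsg.Agent.Lib.Helper19.ONM.T3Paths.chkPaths 29667 1023).mp r9 p (by omega) (by omega)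

end Cfsg.Agent.Lib.Helper19.ONM.T3Rel2
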