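import Cfsg.Agent.Lib.Helper19.ONM.T3Perm0
import Cfsg.Agent.Lib.Helper19.ONM.T3Perm1
import Cfsg.Agent.Lib.Helper19.ONM.T3Perm2
import Cfsg.Agent.Lib.Helper19.ONM.T3Perm3
import Cfsg.Agent.Lib.Helper19.ONM.T3Perm4
import Cfsg.Agent.Lib.Helper19.ONM.T3Perm5
import Cfsg.Agent.Lib.Helper19.ONM.T3Com0
import Cfsg.Agent.Lib.Helper19.ONM.T3Com1
import Cfsg.Agent.Lib.Helper19.ONM.T3Com2
import Cfsg.Agent.Lib.Helper19.ONM.T3Rel0
import Cfsg.Agent.Lib.Helper19.ONM.T3Rel1
import Cfsg.Agent.Lib.Helper19.ONM.T3Rel2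
import Cfsg.Agent.Lib.Helper19.ONM.T3Rel3
import Cfsg.Agent.Lib.Helper19.ONM.T3Rel4
import Cfsg.Agent.Lib.Helper19.ONM.T3Rel5
import Cfsg.Agent.Lib.Helper19.ONM.T3Rel6
import Cfsg.Agent.Lib.Helper19.ONM.T3Rel7
import Cfsg.Agent.Lib.Helper19.ONM.T3Rel8
import Cfsg.Agent.Lib.Helper19.ONM.T3Rel9
import Cfsg.Agent.Lib.Helper19.ONM.T3Rel10
import Cfsg.Agent.Lib.Helper19.ONM.T3Rel11
import Cfsg.Agent.Lib.Helper19.ONM.T3TreeChk0
import Cfsg.Agent.Lib.Helper19.ONM.T3TreeChk1
import Cfsg.Agent.Lib.Helper19.ONM.T3Misc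
import Cfsg.Agent.Lib.Helper19.ONM.T3Paths
import Cfsg.Agent.Lib.Helper19.ONM.T3Lib
-- END-CHECK-IMPORTS
import Cfsg.Agent.Lib.Helper19.ONM.Ker

set_option autoImplicit false
set_option maxRecDepth 100000

/-!
# The permutation representation of the presented triple cover of the O'Nan group on 368280 points
-/

namespace Cfsg.Agent.Lib.Helper19.ONM.T3Rep

open Cfsg.Agent.Lib.Helper19.ONM.Def Cfsg.Agent.Lib.Helper19.ONM.Proj Cfsg.Agent.Lib.Helper19.ONM.Ker
open Cfsg.Agent.Lib.Helper19.ONM.T3Tab Cfsg.Agent.Lib.Helper19.ONM.T3Lib Cfsg.Agent.Lib.Helper19.ONM.T3Paths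
open Cfsg.Agent.Lib.Helper28.TC2Upper Cfsg.Agent.Lib.Helper28.TC2Lower Cfsg.Agent.Lib.Helper28.TC2Range
open Cfsg.Agent.Lib.Helper28.TC2Glue Cfsg.Agent.Lib.Helper16.McLM.CoverLow
open Cfsg.Agent.Lib.Helper19.ONM

-- BEGIN-CHECK-FACTS
theorem hperm : ∀ p, p < table3.n → Table.permRow table3 p = true := by
  intro p hp
  have hp' : p < 368280 := hp
  rcases Nat.lt_or_ge p 61380 with h | h
  · exact T3Perm0.all p (by omega) h
  rcases Nat.lt_or_ge p 122760 with h' | h'
  · exact T3Perm1.all p h h'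
  rcases Nat.lt_or_ge p 184140 with h'' | h''
  · exact T3Perm2.all p h' h''
  rcases Nat.lt_or_ge p 245520 with h3 | h3
  · exact T3Perm3.all p h'' h3
  rcases Nat.lt_or_ge p 306900 with h4 | h4
  · exact T3Perm4.all p h3 h4
  · exact T3Perm5.all p h4 hp'

theorem hcom : ∀ q, q < table3.n → comRow table3 122760 q = true := by
  intro p hp
  have hp' : p < 368280 := hp
  rcases Nat.lt_or_ge p 122760 with h | h
  · exact T3Com0.all p (by omega) h
  rcases Nat.lt_or_ge p 245520 with h' | h'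
  · exact T3Com1.all p h h'
  · exact T3Com2.all p h' hp'

theorem hchk : ∀ p, p < 122760 → ∀ r ∈ chkPaths, table3.walkT r p = p := by
  intro p hp
  rcases Nat.lt_or_ge p 10230 with h0 | h0
  · exact T3Rel0.all p (by omega) h0
  rcases Nat.lt_or_ge p 20460 with h1 | h1
  · exact T3Rel1.all p h0 h1
  rcases Nat.lt_or_ge p 30690 with h2 | h2
  · exact T3Rel2.all p h1 h2
  rcases Nat.lt_or_ge p 40920 with h3 | h3
  · exact T3Rel3.all p h2 h3
  rcases Nat.lt_or_ge p 51150 with h4 | h4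
  · exact T3Rel4.all p h3 h4
  rcases Nat.lt_or_ge p 61380 with h5 | h5
  · exact T3Rel5.all p h4 h5
  rcases Nat.lt_or_ge p 71610 with h6 | h6
  · exact T3Rel6.all p h5 h6
  rcases Nat.lt_or_ge p 81840 with h7 | h7
  · exact T3Rel7.all p h6 h7
  rcases Nat.lt_or_ge p 92070 with h8 | h8
  · exact T3Rel8.all p h7 h8
  rcases Nat.lt_or_ge p 102300 with h9 | h9
  · exact T3Rel9.all p h8 h9
  rcases Nat.lt_or_ge p 112530 with h10 | h10
  · exact T3Rel10.all p h9 h10
  · exact T3Rel11.all p h10 hp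

theorem htreeRow : ∀ i, i < Nat.pred table3.n → Table.treeRow table3 i = true := by
  intro i hi
  have hi' : i < 368279 := hi
  rcases Nat.lt_or_ge i 184140 with h | h
  · exact (Table.treeRange_iff table3 0 184140).mp T3TreeChk0.tre i (by omega) (by omega)
  · exact (Table.treeRange_iff table3 184140 184139).mp T3TreeChk1.tre i h (by omega)

theorem hinvOK : table3.invOK = true := T3Misc.hinvOK
theorem hinv : ∀ x, x < 8 → table3.invl (2 * x) = 2 * x + 1 := T3Misc.hinv
theorem hzr : zRange table3 14 122760 0 368280 = true := T3Misc.hzr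
theorem hsub : ∀ l ∈ [2, 4, 6, 8, 10, 12], table3.tau l 0 = 0 := T3Misc.hsub
theorem hmem : ∀ L ∈ relWordsA, pathOf lw L ∈ chkPaths := T3Paths.hmem
-- END-CHECK-FACTS

theorem hk : table3.k = 16 := rfl
theorem hn : table3.n = 3 * 122760 := rfl
theorem hn0 : 0 < table3.n := by show 0 < 368280; norm_num

theorem hT : table3.OK := Table.ok_of_rows table3 hinvOK hperm

theorem hz : ∀ q, q < table3.n → table3.tau 14 q = (q + 122760) % table3.n := by
  intro q hq
  have hq' : q < 368280 := hq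
  exact (zRange_iff table3 14 122760 0 368280).mp hzr q (Nat.zero_le _) (by omega)

theorem htree : table3.treeOK = true := Table.treeOK_of_rows table3 htreeRow

theorem exists_phi : ∃ φ : Ghat →* Equiv.Perm (Fin table3.n), ∀ x, φ (gen x) = Table.sigma hT (lw (x, true)) :=
  exists_rep hT 122760 hk hn hinv hz hcom chkPaths hchk hmem

/-- the representation of the cover on 368280 points -/
noncomputable def phi : Ghat →* Equiv.Perm (Fin table3.n) := exists_phi.choose

theorem phi_gen (x : Gen8) : phi (gen x) = Table.sigma hT (lw (x, true)) := exists_phi.choose_spec x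

theorem hlwk : ∀ x : Gen8, lw (x, true) < table3.k := fun x => lw_lt hk (x, true)

/-- the letters as elements of the cover -/
noncomputable def gam (l : ℕ) : Ghat :=
  if l % 2 = 0 then gen (([Gen8.g, .a, .b, .c, .d, .e, .f, .z] : List Gen8).getD (l / 2) .z)
  else (gen (([Gen8.g, .a, .b, .c, .d, .e, .f, .z] : List Gen8).getD (l / 2) .z))⁻¹

theorem gi_getD (m : ℕ) (hm : m < 8) :
    gi (([Gen8.g, .a, .b, .c, .d, .e, .f, .z] : List Gen8).getD m .z) = m := by
  interval_cases m <;> rfl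

theorem phi_gam : ∀ l, l < table3.k → phi (gam l) = Table.sigma hT l := by
  intro l hl
  have hl' : l < 16 := hl
  unfold gam
  have hm : l / 2 < 8 := by omega
  split_ifs with h
  · rw [phi_gen]
    show Table.sigma hT (2 * gi _ + 0) = _
    rw [gi_getD _ hm, add_zero]
    congr 1
    omega
  · rw [map_inv, phi_gen]
    show (Table.sigma hT (2 * gi _ + 0))⁻¹ = _
    rw [gi_getD _ hm, add_zero, ← Table.sigma_inv hT (by show 2 * (l / 2) < 16; omega), hinv _ hm]
    congr 1
    omega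

/-- the subgroup generated by `a, …, f` -/
def Hp : Subgroup Ghat := Subgroup.closure {gen .a, gen .b, gen .c, gen .d, gen .e, gen .f}

theorem Hp_fix : ∀ h ∈ Hp, phi h ⟨0, hn0⟩ = ⟨0, hn0⟩ := by
  intro h hh
  have key : ∀ x : Gen8, gi x ∈ [1, 2, 3, 4, 5, 6] → phi (gen x) ⟨0, hn0⟩ = ⟨0, hn0⟩ := by
    intro x hx
    apply Fin.ext
    rw [phi_gen, Table.sigma_apply hT (hlwk x)]
    show table3.tau (2 * gi x + 0) 0 = 0
    apply hsub
    simp only [List.mem_cons, List.not_mem_nil, or_false] at hx ⊢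
    omega
  induction hh using Subgroup.closure_induction with
  | mem x hx =>
    simp only [Set.mem_insert_iff, Set.mem_singleton_iff] at hx
    rcases hx with rfl | rfl | rfl | rfl | rfl | rfl
    all_goals exact key _ (by decide)
  | one => simp
  | mul x y _ _ hx hy => rw [map_mul, Equiv.Perm.mul_apply, hy, hx]
  | inv x _ hx =>
    rw [map_inv, Equiv.Perm.inv_eq_iff_eq]
    exact hx.symm

/-- the orbit map of the cosets of `⟨a, …, f⟩` -/
noncomputable def f3 : Ghat ⧸ Hp → Fin table3.n := orbitMap Hp hn0 phi Hp_fix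

theorem f3_smul (g : Ghat) (q : Ghat ⧸ Hp) : f3 (g • q) = phi g (f3 q) := orbitMap_smul Hp hn0 phi Hp_fix g q

theorem f3_surjective : Function.Surjective f3 := orbitMap_surjective Hp hT hn0 phi gam Hp_fix phi_gam htree

end Cfsg.Agent.Lib.Helper19.ONM.T3Rep
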